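import Groth.Agent.CSA.EtaleExists

/-!
# Finite etale splitting of an Azumaya algebra near a prime
-/

set_option autoImplicit false

open TensorProduct Polynomial IsLocalRing

namespace Groth.Agent.CSA

universe u v w

section Scale

theorem comp_derivative_aux {R : Type u} [CommRing R] {p q : R[X]} (c : R) :
    derivative (p.comp (C c * X)) = C c * (derivative p).comp (C c * X) := by
  rw [derivative_comp, derivative_C_mul, derivative_X, mul_one]

theorem scaleRoots_eq_comp {R : Type u} [CommRing R] (p : R[X]) (c : Rˣ) :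
    p.scaleRoots (c : R) = C ((c : R) ^ p.natDegree) * p.comp (C ((c⁻¹ : Rˣ) : R) * X) := by
  ext i
  rw [coeff_scaleRoots, coeff_C_mul, comp_C_mul_X_coeff]
  rcases le_or_gt i p.natDegree with h | h
  · have : (c : R) ^ p.natDegree = (c : R) ^ (p.natDegree - i) * (c : R) ^ i := by
      rw [← pow_add]; congr 1; omega
    rw [this, mul_mul_mul_comm, mul_comm (p.coeff i)]
    have h2 : (c : R) ^ i * ((c⁻¹ : Rˣ) : R) ^ i = 1 := by rw [← mul_pow, Units.mul_inv, one_pow]
    linear_combination ((c : R) ^ (p.natDegree - i) * p.coeff i) * h2.symm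
  · rw [coeff_eq_zero_of_natDegree_lt h]; simp

theorem isCoprime_scaleRoots {R : Type u} [CommRing R] (p : R[X]) (c : Rˣ)
    (h : IsCoprime p (derivative p)) :
    IsCoprime (p.scaleRoots (c : R)) (derivative (p.scaleRoots (c : R))) := by
  obtain ⟨a, b, hab⟩ := h
  set d : R := ((c⁻¹ : Rˣ) : R) with hd
  have h' := congrArg (fun z => z.comp (C d * X)) hab
  simp only [add_comp, mul_comp, one_comp] at h'
  rw [scaleRoots_eq_comp, derivative_C_mul, comp_derivative_aux (q := p)]
  refine ⟨C (d ^ p.natDegree) * a.comp (C d * X), C (d ^ p.natDegree * c) * b.comp (C d * X), ?_⟩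
  have h1 : C (d ^ p.natDegree) * C ((c : R) ^ p.natDegree) = 1 := by
    rw [← C_mul, ← mul_pow, hd, Units.inv_mul, one_pow, C_1]
  have h2 : C (c : R) * C d = 1 := by rw [← C_mul, hd, Units.mul_inv, C_1]
  rw [← hd, C_mul (a := d ^ p.natDegree)]
  linear_combination h' + (a.comp (C d * X) * p.comp (C d * X)) * h1 +
    (b.comp (C d * X) * (derivative p).comp (C d * X) * C (c : R) * C d) * h1 +
    (b.comp (C d * X) * (derivative p).comp (C d * X)) * h2

theorem aeval_smul_scaleRoots {R : Type u} [CommRing R] {B : Type v} [Ring B] [Algebra R B] (x : B)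
    {p : R[X]} (hp : aeval x p = 0) (c : R) : aeval (c • x) (p.scaleRoots c) = 0 := by
  rw [Algebra.smul_def, aeval_def, scaleRoots_eval₂_mul_of_commute _ _ _ (Algebra.commutes c x)
    (fun a b => (Commute.all a b).map (algebraMap R B)), ← aeval_def, hp, mul_zero]

theorem regular_smul {k : Type u} [Field k] {B : Type v} [Ring B] [Algebra k B] [Module.Finite k B]
    (x : B) (hs : (minpoly k x).Separable) {c : k} (hc : c ≠ 0) :
    (minpoly k (c • x)).Separable ∧ (minpoly k (c • x)).natDegree = (minpoly k x).natDegree := by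
  refine ⟨?_, ?_⟩
  · have hsep : ((minpoly k x).scaleRoots c).Separable :=
      isCoprime_scaleRoots (minpoly k x) (Units.mk0 c hc) hs
    refine hsep.of_dvd (minpoly.dvd k _ ?_)
    exact aeval_smul_scaleRoots x (minpoly.aeval k x) c
  · rw [← finrank_adjoin_eq, ← finrank_adjoin_eq]
    have : Algebra.adjoin k ({c • x} : Set B) = Algebra.adjoin k {x} := by
      refine le_antisymm (Algebra.adjoin_le (Set.singleton_subset_iff.2
        (Subalgebra.smul_mem _ (Algebra.self_mem_adjoin_singleton k x) c))) ?_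
      refine Algebra.adjoin_le (Set.singleton_subset_iff.2 ?_)
      have h := Subalgebra.smul_mem _ (Algebra.self_mem_adjoin_singleton k (c • x)) c⁻¹
      rwa [smul_smul, inv_mul_cancel₀ hc, one_smul] at h
    rw [this]

end Scale

/-- cancellation of a base change, noncommutative algebras allowed -/
noncomputable def cancelBaseChangeRing (R : Type u) [CommRing R] (S : Type v) [CommRing S] [Algebra R S]
    (T : Type w) [CommRing T] [Algebra R T] [Algebra S T] [IsScalarTower R S T]
    (B : Type u) [Ring B] [Algebra R B] : (T ⊗[S] (S ⊗[R] B)) ≃ₐ[T] T ⊗[R] B :=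
  AlgEquiv.symm <| AlgEquiv.ofLinearEquiv
    (TensorProduct.AlgebraTensorModule.cancelBaseChange R S T T B).symm
    (by simp [Algebra.TensorProduct.one_def]) <|
      LinearMap.map_mul_of_map_mul_tmul (fun _ _ _ _ ↦ by simp)

section Powers

variable {R : Type u} [CommRing R] [Nontrivial R] {A : Type v} [Ring A] [Algebra R A]

theorem bijective_iff_powers (P : R[X]) (hP : P.Monic) (a : A) (h : aeval a P = 0) {r : ℕ}
    (hr : P.natDegree = r) (w : Fin r → A) :
    Function.Bijective (fun c : Fin r → AdjoinRoot P => ∑ i, w i * rootHom P a h (c i)) ↔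
      Function.Bijective (Fintype.linearCombination R (fun q : Fin r × Fin r => w q.1 * a ^ (q.2 : ℕ))) := by
  let pb := AdjoinRoot.powerBasis' hP
  have hd : pb.dim = r := by rw [AdjoinRoot.powerBasis'_dim, hr]
  let b : Module.Basis (Fin r) R (AdjoinRoot P) := pb.basis.reindex (finCongr hd)
  let e : (Fin r × Fin r → R) ≃ₗ[R] (Fin r → AdjoinRoot P) :=
    (LinearEquiv.curry R R (Fin r) (Fin r)) ≪≫ₗ LinearEquiv.piCongrRight fun _ => b.equivFun.symm
  rw [← Function.Bijective.of_comp_iff (fun c : Fin r → AdjoinRoot P => ∑ i, w i * rootHom P a h (c i))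
    e.bijective]
  refine iff_of_eq (congrArg Function.Bijective (funext fun c => ?_))
  show ∑ i, w i * rootHom P a h (b.equivFun.symm (fun j => c (i, j))) = _
  rw [Fintype.linearCombination_apply, Fintype.sum_prod_type]
  refine Finset.sum_congr rfl fun i _ => ?_
  rw [Module.Basis.equivFun_symm_apply, map_sum, Finset.mul_sum]
  refine Finset.sum_congr rfl fun j _ => ?_
  rw [map_smul, mul_smul_comm, Module.Basis.reindex_apply, rootHom_powerBasis]
  rfl

theorem smul_bijective {ι : Type w} [Fintype ι] (v : ι → A) (c : ι → R) (hc : ∀ i, IsUnit (c i)) :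
    Function.Bijective (Fintype.linearCombination R fun i => c i • v i) ↔
      Function.Bijective (Fintype.linearCombination R v) := by
  let e : (ι → R) ≃ₗ[R] (ι → R) := LinearEquiv.piCongrRight fun i => LinearEquiv.smulOfUnit (hc i).unit
  rw [← Function.Bijective.of_comp_iff (Fintype.linearCombination R v) e.bijective]
  refine iff_of_eq (congrArg Function.Bijective (funext fun d => ?_))
  simp only [Function.comp_apply, Fintype.linearCombination_apply]
  refine Finset.sum_congr rfl fun i _ => ?_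
  rw [smul_smul, show e d i = c i * d i from rfl, mul_comm]

end Powers

set_option maxHeartbeats 1600000 in
/-- data over `R` giving a splitting near `p` -/
theorem exists_data_near_prime (R : Type u) [CommRing R] (A : Type u) [Ring A] [Algebra R A]
    [IsAzumaya R A] (p : Ideal R) [p.IsPrime] :
    ∃ r : ℕ, r ≠ 0 ∧ ∃ (Q : R[X]) (a : A) (w : Fin r → A), Q.Monic ∧ Q.natDegree = r ∧
      (1 : Localization.AtPrime p) ⊗ₜ[R] aeval a Q = 0 ∧
      IsCoprime (Q.map (algebraMap R (Localization.AtPrime p)))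
        (derivative (Q.map (algebraMap R (Localization.AtPrime p)))) ∧
      Function.Bijective (Fintype.linearCombination (Localization.AtPrime p)
        (fun q : Fin r × Fin r => (1 : Localization.AtPrime p) ⊗ₜ[R] (w q.1 * a ^ (q.2 : ℕ)))) := by
  classical
  let Rp := Localization.AtPrime p
  let Ap := Rp ⊗[R] A
  haveI := isAzumaya_baseChange R Rp A
  haveI : Module.Free Rp Ap := Module.free_of_flat_of_isLocalRing
  let k := ResidueField Rp
  haveI := isAzumaya_baseChange Rp k Ap
  haveI := isCentral k (k ⊗[Rp] Ap)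
  haveI : IsSimpleRing (k ⊗[Rp] Ap) := isSimpleRing_tensor' Rp Ap k
  obtain ⟨r, hr, hk⟩ := exists_deg k (k ⊗[Rp] Ap)
  have hA : Module.finrank Rp Ap = r ^ 2 := by rw [← Module.finrank_baseChange (R := k), hk]
  haveI hloc := IsLocalization.tensorProduct_isLocalizedModule (S := p.primeCompl) (R := R) (A := Rp) (M := A)
  have hsurj : ∀ y : Ap, ∃ (b : A) (s : Rp), IsUnit s ∧ (1 : Rp) ⊗ₜ[R] b = s • y := by
    intro y
    obtain ⟨⟨b, s⟩, hbs⟩ := IsLocalizedModule.surj p.primeCompl (TensorProduct.mk R Rp A 1) y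
    refine ⟨b, algebraMap R Rp s, IsLocalization.map_units Rp s, ?_⟩
    rw [algebraMap_smul]
    exact hbs.symm
  obtain ⟨x, hs, hdeg⟩ := exists_regular_element k (k ⊗[Rp] Ap) r hk
  obtain ⟨y, rfl⟩ : ∃ y : Ap, (1 : k) ⊗ₜ[Rp] y = x :=
    TensorProduct.mk_surjective Rp Ap k residue_surjective x
  obtain ⟨a₀, s, hsu, ha₀⟩ := hsurj y
  have hres : (1 : k) ⊗ₜ[Rp] ((1 : Rp) ⊗ₜ[R] a₀) = residue Rp s • ((1 : k) ⊗ₜ[Rp] y) := by
    rw [ha₀, tmul_smul, ← algebraMap_smul k s]
    rfl
  have hne : residue Rp s ≠ 0 := (residue_ne_zero_iff_isUnit s).2 hsu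
  obtain ⟨hs₀, hdeg₀⟩ := regular_smul _ hs hne
  rw [← hres] at hs₀ hdeg₀
  obtain ⟨-, P, hPm, hPd, hPa, hPs⟩ := regular_lift Rp Ap r hA _ hs₀ (hdeg₀.trans hdeg)
  haveI : Module.Finite Rp (AdjoinRoot P) := hPm.finite_adjoinRoot
  haveI : Module.Free Rp (AdjoinRoot P) := hPm.free_adjoinRoot
  haveI := etale_adjoinRoot hPm (isCoprime_derivative_of_map hPm hPs)
  obtain ⟨w₀, hw₀⟩ := exists_basis_of_etale_subalgebra Rp Ap (AdjoinRoot P) (rootHom P _ hPa) hA
    ((finrank_adjoinRoot P hPm).trans hPd)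
    (rootHom_residual_injective P hPm _ hPa (hdeg₀.trans (hdeg.trans hPd.symm)))
  rw [bijective_iff_powers P hPm _ hPa hPd] at hw₀
  choose w σ hσ hwσ using fun i => hsurj (w₀ i)
  obtain ⟨t, ht⟩ := IsLocalization.exist_integer_multiples p.primeCompl (Finset.range r) fun i => P.coeff i
  have htu : IsUnit (algebraMap R Rp t) := IsLocalization.map_units Rp t
  set c : Rp := algebraMap R Rp t
  have hlift : P.scaleRoots c ∈ lifts (algebraMap R Rp) := by
    rw [lifts_iff_coeff_lifts]
    intro i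
    rw [coeff_scaleRoots, hPd]
    rcases lt_trichotomy i r with hi | hi | hi
    · obtain ⟨b, hb⟩ := ht i (Finset.mem_range.2 hi)
      obtain ⟨l, hl⟩ : ∃ l, r - i = l + 1 := ⟨r - i - 1, by omega⟩
      refine ⟨b * (t : R) ^ l, ?_⟩
      rw [map_mul, map_pow, hb, hl, pow_succ, Algebra.smul_def]
      ring
    · subst hi
      rw [← hPd, hPm.coeff_natDegree, hPd, Nat.sub_self, pow_zero, mul_one]
      exact ⟨1, map_one _⟩
    · rw [coeff_eq_zero_of_natDegree_lt (by omega), zero_mul]
      exact ⟨0, map_zero _⟩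
  obtain ⟨Q, hQ, hQd, hQm⟩ := lifts_and_natDegree_eq_and_monic hlift ((monic_scaleRoots_iff c).2 hPm)
  refine ⟨r, hr.ne', Q, (t : R) • a₀, w, hQm, by rw [hQd, natDegree_scaleRoots, hPd], ?_, ?_, ?_⟩
  · rw [show (1 : Rp) ⊗ₜ[R] aeval ((t : R) • a₀) Q =
      aeval ((1 : Rp) ⊗ₜ[R] ((t : R) • a₀)) (Q.map (algebraMap R Rp)) from by
        rw [aeval_map_algebraMap]
        exact (aeval_algHom_apply (Algebra.TensorProduct.includeRight : A →ₐ[R] Ap) _ Q).symm,
      hQ, tmul_smul, ← algebraMap_smul Rp (t : R)]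
    exact aeval_smul_scaleRoots _ hPa _
  · rw [hQ]
    exact isCoprime_scaleRoots P htu.unit (isCoprime_derivative_of_map hPm hPs)
  · have hv : (fun q : Fin r × Fin r => (1 : Rp) ⊗ₜ[R] (w q.1 * ((t : R) • a₀) ^ (q.2 : ℕ))) =
        fun q => (σ q.1 * c ^ (q.2 : ℕ)) • (w₀ q.1 * ((1 : Rp) ⊗ₜ[R] a₀) ^ (q.2 : ℕ)) := by
      funext q
      have e1 : (1 : Rp) ⊗ₜ[R] (w q.1 * ((t : R) • a₀) ^ (q.2 : ℕ)) =
          ((1 : Rp) ⊗ₜ[R] w q.1) * ((1 : Rp) ⊗ₜ[R] ((t : R) • a₀)) ^ (q.2 : ℕ) := by
        rw [Algebra.TensorProduct.tmul_pow, one_pow, Algebra.TensorProduct.tmul_mul_tmul, mul_one]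
      rw [e1, hwσ, tmul_smul, ← algebraMap_smul Rp (t : R), _root_.smul_pow, smul_mul_smul_comm]
    rw [hv]
    exact (smul_bijective (fun q : Fin r × Fin r => w₀ q.1 * ((1 : Rp) ⊗ₜ[R] a₀) ^ (q.2 : ℕ))
      (fun q => σ q.1 * c ^ (q.2 : ℕ)) fun q => (hσ q.1).mul (htu.pow _)).2 hw₀

theorem exists_split_near_prime (R : Type u) [CommRing R] (A : Type u) [Ring A] [Algebra R A]
    [IsAzumaya R A] (p : Ideal R) [p.IsPrime] :
    ∃ f : R, f ∉ p ∧ ∃ (R' : Type u) (_ : CommRing R') (_ : Algebra R R')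
      (_ : Algebra (Localization.Away f) R') (_ : IsScalarTower R (Localization.Away f) R'),
      Module.Finite (Localization.Away f) R' ∧ Algebra.Etale (Localization.Away f) R' ∧
      Module.FaithfullyFlat (Localization.Away f) R' ∧
      ∃ r : ℕ, 1 ≤ r ∧ Nonempty ((R' ⊗[R] A) ≃ₐ[R'] Matrix (Fin r) (Fin r) R') := by
  classical
  obtain ⟨r, hr, Q, a, w, hQm, hQd, hQa, hcop, hbij⟩ := exists_data_near_prime R A p
  let Rp := Localization.AtPrime p
  let M := p.primeCompl
  haveI hloc := IsLocalization.tensorProduct_isLocalizedModule (S := M) (R := R) (A := Rp) (M := A)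
  obtain ⟨t₀, ht₀⟩ : ∃ t : M, t • aeval a Q = 0 :=
    (IsLocalizedModule.eq_zero_iff M (TensorProduct.mk R Rp A 1)).1 hQa
  obtain ⟨b, c, hbc⟩ := hcop
  obtain ⟨β, hβ⟩ := IsLocalization.integerNormalization_map_to_map M b
  obtain ⟨γ, hγ⟩ := IsLocalization.integerNormalization_map_to_map M c
  set b' := IsLocalization.integerNormalization M b
  set c' := IsLocalization.integerNormalization M c
  have hz : (C (γ : R) * b' * Q + C (β : R) * c' * derivative Q - C ((β : R) * γ)).map
      (algebraMap R Rp) = 0 := by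
    simp only [Polynomial.map_sub, Polynomial.map_add, Polynomial.map_mul, map_C, ← derivative_map,
      map_mul]
    rw [show b'.map (algebraMap R Rp) = (β : R) • b from hβ,
      show c'.map (algebraMap R Rp) = (γ : R) • c from hγ]
    rw [Algebra.smul_def, Algebra.smul_def, Polynomial.algebraMap_apply, Polynomial.algebraMap_apply]
    linear_combination (C (algebraMap R Rp γ) * C (algebraMap R Rp β)) * hbc
  obtain ⟨t₁, ht₁⟩ : ∃ t : M, ∀ i, (t : R) *
      (C (γ : R) * b' * Q + C (β : R) * c' * derivative Q - C ((β : R) * γ)).coeff i = 0 := by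
    set z := C (γ : R) * b' * Q + C (β : R) * c' * derivative Q - C ((β : R) * γ)
    have h : ∀ i, ∃ t : M, (t : R) * z.coeff i = 0 := fun i => by
      have := congrArg (fun q => Polynomial.coeff q i) hz
      simp only [coeff_map, coeff_zero] at this
      exact (IsLocalization.map_eq_zero_iff M Rp _).1 this
    choose t ht using h
    refine ⟨∏ i ∈ z.support, t i, fun i => ?_⟩
    by_cases hi : i ∈ z.support
    · rw [← Finset.prod_erase_mul _ _ hi, Submonoid.coe_mul, mul_assoc, ht, mul_zero]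
    · rw [notMem_support_iff.1 hi, mul_zero]
  let v : Fin r × Fin r → A := fun q => w q.1 * a ^ (q.2 : ℕ)
  let ψ : (Fin r × Fin r → R) →ₗ[R] A := Fintype.linearCombination R v
  let φ : (Fin r × Fin r → R) →ₗ[R] (Fin r × Fin r → Rp) :=
    LinearMap.pi fun q => (Algebra.linearMap R Rp).comp (LinearMap.proj q)
  let e := LinearEquiv.ofBijective _ hbij
  have := Module.finitePresentation_of_projective R A
  obtain ⟨χ, s, hχ⟩ := Module.FinitePresentation.exists_lift_of_isLocalizedModule M φ
    (((e.symm.restrictScalars R).toLinearMap).comp (TensorProduct.mk R Rp A 1))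
  have hψe : ∀ d, e (φ d) = (1 : Rp) ⊗ₜ[R] ψ d := fun d => by
    show Fintype.linearCombination Rp _ _ = _
    rw [Fintype.linearCombination_apply, Fintype.linearCombination_apply, tmul_sum]
    refine Finset.sum_congr rfl fun q _ => ?_
    rw [tmul_smul, ← algebraMap_smul Rp (d q)]
    rfl
  have hχ' : ∀ y, φ (χ y) = (s : R) • e.symm ((1 : Rp) ⊗ₜ[R] y) := fun y => LinearMap.congr_fun hχ y
  have h1 : ∀ y : A, ∃ t : M, (t : R) • (ψ (χ y) - (s : R) • y) = 0 := fun y => by
    refine (IsLocalizedModule.eq_zero_iff M (TensorProduct.mk R Rp A 1)).1 ?_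
    show (1 : Rp) ⊗ₜ[R] (ψ (χ y) - (s : R) • y) = 0
    rw [tmul_sub, ← hψe, hχ', ← algebraMap_smul Rp (s : R), map_smul, e.apply_symm_apply,
      algebraMap_smul, tmul_smul, sub_self]
  have h2 : ∀ q : Fin r × Fin r, ∃ t : M,
      (t : R) • (χ (v q) - (s : R) • (Pi.single q 1 : Fin r × Fin r → R)) = 0 := fun q => by
    refine (IsLocalizedModule.eq_zero_iff M φ).1 ?_
    have hv : ψ (Pi.single q 1) = v q := by
      simp only [ψ, Fintype.linearCombination_apply_single, one_smul]
    rw [map_sub, hχ', ← hv, ← hψe, e.symm_apply_apply, map_smul, sub_self]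
  obtain ⟨G, hG⟩ := (Module.Finite.fg_top : (⊤ : Submodule R A).FG)
  choose τ hτ using h1
  choose ρ hρ using h2
  let f₂ : M := (∏ g ∈ G, τ g) * ∏ q, ρ q
  let u : M := t₀ * t₁ * (β * γ) * s * f₂
  let f : R := (u : R)
  refine ⟨f, u.2, ?_⟩
  let L := Localization.Away f
  have hunit : ∀ x : M, x ∣ u → IsUnit (algebraMap R L x) := fun x hx => by
    obtain ⟨y, hy⟩ := hx
    exact isUnit_of_mul_isUnit_left (y := algebraMap R L y) (by
      rw [← map_mul, ← Submonoid.coe_mul, ← hy]; exact IsLocalization.Away.algebraMap_isUnit f)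
  haveI : Nontrivial L := by
    by_contra hL
    rw [not_nontrivial_iff_subsingleton] at hL
    obtain ⟨⟨_, n, rfl⟩, hn⟩ :=
      (IsLocalization.map_eq_zero_iff (Submonoid.powers f) L 1).1 (Subsingleton.elim _ _)
    simp only [mul_one] at hn
    exact (u * 1).2 (by
      simpa using (‹p.IsPrime›.mem_of_pow_mem n (by show f ^ n ∈ p; rw [show f ^ n = 0 from hn]; exact p.zero_mem)))
  let QL := Q.map (algebraMap R L)
  have hQLm : QL.Monic := hQm.map _
  have hcopL : IsCoprime QL (derivative QL) := by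
    have hu1 := hunit t₁ (by exact ⟨t₀ * (β * γ) * s * f₂, by simp only [u]; ac_rfl⟩)
    have hu2 := hunit (β * γ) (by exact ⟨t₀ * t₁ * s * f₂, by simp only [u]; ac_rfl⟩)
    have h3 : (C (γ : R) * b' * Q + C (β : R) * c' * derivative Q - C ((β : R) * γ)).map
        (algebraMap R L) = 0 := by
      ext i
      rw [coeff_map, coeff_zero]
      apply hu1.mul_left_cancel
      rw [← map_mul, ht₁, map_zero, mul_zero]
    simp only [Polynomial.map_sub, Polynomial.map_add, Polynomial.map_mul, map_C, ← derivative_map,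
      sub_eq_zero] at h3
    obtain ⟨i, hi⟩ := hu2
    refine ⟨C ((i⁻¹ : Lˣ) : L) * (C (algebraMap R L γ) * b'.map (algebraMap R L)),
      C ((i⁻¹ : Lˣ) : L) * (C (algebraMap R L β) * c'.map (algebraMap R L)), ?_⟩
    rw [mul_assoc, mul_assoc (C ((i⁻¹ : Lˣ) : L)), ← mul_add, h3, ← C_mul]
    rw [← Submonoid.coe_mul, ← hi, Units.inv_mul, C_1]
  let AL := L ⊗[R] A
  let aL : AL := 1 ⊗ₜ a
  have haL : aeval aL QL = 0 := by
    rw [aeval_map_algebraMap, show aL = (Algebra.TensorProduct.includeRight : A →ₐ[R] AL) a from rfl,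
      aeval_algHom_apply]
    have hu0 := hunit t₀ (by exact ⟨t₁ * (β * γ) * s * f₂, by simp only [u]; ac_rfl⟩)
    apply hu0.smul_left_cancel.1
    rw [smul_zero, algebraMap_smul, Algebra.TensorProduct.includeRight_apply, ← tmul_smul,
      show (t₀ : R) • aeval a Q = 0 from ht₀, tmul_zero]
  haveI := isAzumaya_baseChange R L A
  let ψL : L ⊗[R] (Fin r × Fin r → R) →ₗ[L] AL := ψ.baseChange L
  let χL : AL →ₗ[L] L ⊗[R] (Fin r × Fin r → R) := χ.baseChange L
  have hus := hunit s (by exact ⟨t₀ * t₁ * (β * γ) * f₂, by simp only [u]; ac_rfl⟩)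
  have hc1 : ∀ z, ψL (χL z) = (s : R) • z := by
    intro z
    have hlin : ψL.comp χL = (algebraMap R L s) • LinearMap.id := by
      refine TensorProduct.AlgebraTensorModule.curry_injective (LinearMap.ext_ring ?_)
      refine LinearMap.ext_on (show Submodule.span R (G : Set A) = ⊤ from hG) fun g hg => ?_
      show (1 : L) ⊗ₜ[R] ψ (χ g) = algebraMap R L s • ((1 : L) ⊗ₜ[R] g)
      rw [algebraMap_smul, ← tmul_smul]
      have hug := hunit (τ g) (dvd_trans (Dvd.intro _ (Finset.mul_prod_erase G τ hg))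
        (by exact ⟨t₀ * t₁ * (β * γ) * s * ∏ q, ρ q, by simp only [u, f₂]; ac_rfl⟩))
      rw [← sub_eq_zero, ← tmul_sub]
      apply hug.smul_left_cancel.1
      rw [smul_zero, algebraMap_smul, ← tmul_smul, hτ, tmul_zero]
    have := LinearMap.congr_fun hlin z
    simpa [algebraMap_smul] using this
  have hc2 : ∀ z, χL (ψL z) = (s : R) • z := by
    intro z
    have hlin : χL.comp ψL = (algebraMap R L s) • LinearMap.id := by
      refine TensorProduct.AlgebraTensorModule.curry_injective (LinearMap.ext_ring ?_)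
      refine (Pi.basisFun R (Fin r × Fin r)).ext fun q => ?_
      rw [Pi.basisFun_apply]
      show (1 : L) ⊗ₜ[R] χ (ψ (Pi.single q 1)) = algebraMap R L s • ((1 : L) ⊗ₜ[R] (Pi.single q 1 : Fin r × Fin r → R))
      rw [algebraMap_smul, ← tmul_smul]
      have hv : ψ (Pi.single q 1) = v q := by
        simp only [ψ, Fintype.linearCombination_apply_single, one_smul]
      have hug := hunit (ρ q) (dvd_trans (Finset.dvd_prod_of_mem ρ (Finset.mem_univ q))
        (by exact ⟨t₀ * t₁ * (β * γ) * s * ∏ g ∈ G, τ g, by simp only [u, f₂]; ac_rfl⟩))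
      rw [hv, ← sub_eq_zero, ← tmul_sub]
      apply hug.smul_left_cancel.1
      rw [smul_zero, algebraMap_smul, ← tmul_smul, hρ, tmul_zero]
    have := LinearMap.congr_fun hlin z
    simpa [algebraMap_smul] using this
  have hψL : Function.Bijective ψL := by
    refine ⟨fun z z' h => hus.smul_left_cancel.1 ?_, fun z => ?_⟩
    · rw [algebraMap_smul, algebraMap_smul, ← hc2, ← hc2, h]
    · obtain ⟨i, hi⟩ := hus
      refine ⟨((i⁻¹ : Lˣ) : L) • χL z, ?_⟩
      rw [map_smul, hc1, ← algebraMap_smul L (s : R), ← hi, smul_smul, Units.inv_mul, one_smul]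
  have hbijL : Function.Bijective (Fintype.linearCombination L
      (fun q : Fin r × Fin r => ((1 : L) ⊗ₜ[R] w q.1) * aL ^ (q.2 : ℕ))) := by
    let π := TensorProduct.piScalarRight R L L (Fin r × Fin r)
    rw [← Function.Bijective.of_comp_iff _ π.bijective]
    have : (⇑(Fintype.linearCombination L (fun q : Fin r × Fin r => ((1 : L) ⊗ₜ[R] w q.1) * aL ^ (q.2 : ℕ)))) ∘ π
        = ψL := by
      funext z
      induction z using TensorProduct.induction_on with
      | zero => simp
      | add x y hx hy => simp only [Function.comp_apply, map_add] at hx hy ⊢; rw [hx, hy]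
      | tmul l d =>
        show Fintype.linearCombination L _ (fun q => d q • l) = l ⊗ₜ[R] ψ d
        rw [Fintype.linearCombination_apply, show ψ d = ∑ q, d q • v q from
          Fintype.linearCombination_apply R v d, tmul_sum]
        refine Finset.sum_congr rfl fun q _ => ?_
        show (d q • l) • (((1 : L) ⊗ₜ[R] w q.1) * ((1 : L) ⊗ₜ[R] a) ^ (q.2 : ℕ)) =
          l ⊗ₜ[R] (d q • (w q.1 * a ^ (q.2 : ℕ)))
        rw [Algebra.TensorProduct.tmul_pow, one_pow, Algebra.TensorProduct.tmul_mul_tmul, mul_one,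
          smul_tmul', smul_eq_mul, mul_one, smul_tmul]
    rw [this]
    exact hψL
  have hQLd : QL.natDegree = r := by rw [hQm.natDegree_map, hQd]
  haveI : Module.Finite L (AdjoinRoot QL) := hQLm.finite_adjoinRoot
  haveI : Module.Free L (AdjoinRoot QL) := hQLm.free_adjoinRoot
  let uL := rootHom QL aL haL
  replace hbijL := (bijective_iff_powers QL hQLm aL haL hQLd (fun i => (1 : L) ⊗ₜ[R] w i)).2 hbijL
  have hfr : Module.finrank L (AdjoinRoot QL) = r := (finrank_adjoinRoot QL hQLm).trans hQLd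
  haveI : Nontrivial (AdjoinRoot QL) :=
    Module.nontrivial_of_finrank_pos (R := L) (by rw [hfr]; omega)
  letI : Module (AdjoinRoot QL) AL := Module.compHom AL (RingHom.op uL.toRingHom |>.comp
    (RingEquiv.toOpposite (AdjoinRoot QL)).toRingHom)
  obtain ⟨-, -, -, ⟨e'⟩⟩ := split_of_basis L AL (AdjoinRoot QL) uL (fun _ _ => rfl) hr hfr _ hbijL
  exact ⟨AdjoinRoot QL, inferInstance, inferInstance, inferInstance, inferInstance, inferInstance,
    etale_adjoinRoot hQLm hcopL, inferInstance, r, Nat.one_le_iff_ne_zero.2 hr,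
    ⟨(cancelBaseChangeRing R L (AdjoinRoot QL) A).symm.trans e'⟩⟩

end Groth.Agent.CSA
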