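import Groth.Agent.CSA.IntegralSplitGlobal
import Groth.Agent.CSA.EtaleSpread
import Mathlib.RingTheory.Flat.FaithfullyFlat.Algebra

/-! # `exists_etale_base_split` in arbitrary universes, and the resulting algebra isomorphism -/

set_option autoImplicit false
set_option linter.style.haveILetI false

open TensorProduct

universe u v w

namespace Groth.Agent.CSA

/-- transport of a splitting along ring isomorphisms of the base rings -/
theorem descend_universe (S : Type u) [CommRing S] (R : Type v) [CommRing R] [Algebra S R]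
    (A : Type w) [Ring A] [Algebra R A] (n : ℕ)
    (S₁ R₁ : Type max u v w) [CommRing S₁] [CommRing R₁] [Algebra S₁ R₁] [Algebra R R₁]
    (eS : S ≃+* S₁) (eR : R ≃+* R₁) (heR : ∀ r, eR r = algebraMap R R₁ r)
    (hcomm : ∀ c, algebraMap S₁ R₁ (eS c) = eR (algebraMap S R c))
    (E : Type max u v w) [CommRing E] [Algebra S₁ E] [Algebra.Etale S₁ E]
    [Module.FaithfullyFlat S₁ E]
    (ψ : R₁ ⊗[R] A →ₐ[R₁] Matrix (Fin n) (Fin n) (R₁ ⊗[S₁] E)) :
    ∃ (S' : Type u) (_ : CommRing S') (_ : Algebra S S'), Algebra.Etale S S' ∧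
      Module.FaithfullyFlat S S' ∧
      Nonempty (A →ₐ[R] Matrix (Fin n) (Fin n) (R ⊗[S] S')) := by
  classical
  letI : Algebra S S₁ := eS.toRingHom.toAlgebra
  letI : Algebra S E := ((algebraMap S₁ E).comp (algebraMap S S₁)).toAlgebra
  haveI : IsScalarTower S S₁ E := IsScalarTower.of_algebraMap_eq fun _ => rfl
  let eS' : S ≃ₐ[S] S₁ := AlgEquiv.ofRingEquiv (f := eS) fun _ => rfl
  haveI : Algebra.Etale S S₁ := Algebra.Etale.of_equiv eS'
  haveI : Algebra.Etale S E := Algebra.Etale.comp S S₁ E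
  haveI : Module.FaithfullyFlat S S₁ :=
    Module.FaithfullyFlat.of_linearEquiv S S eS'.symm.toLinearEquiv
  haveI : Module.FaithfullyFlat S E := Module.FaithfullyFlat.trans S S₁ E
  obtain ⟨m, f, hf⟩ := Algebra.FiniteType.iff_quotient_mvPolynomial''.1
    (inferInstance : Algebra.FiniteType S E)
  let S' : Type u := MvPolynomial (Fin m) S ⧸ RingHom.ker f
  let e : S' ≃ₐ[S] E := Ideal.quotientKerAlgEquivOfSurjective hf
  haveI : Algebra.Etale S S' := Algebra.Etale.of_equiv e.symm
  haveI : Module.FaithfullyFlat S S' := Module.FaithfullyFlat.of_linearEquiv S E e.toLinearEquiv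
  letI : Algebra S₁ (R ⊗[S] S') :=
    ((algebraMap S (R ⊗[S] S')).comp eS.symm.toRingHom).toAlgebra' fun c x => mul_comm ((algebraMap S (R ⊗[S] S')) (eS.symm c)) x
  let g₁ : R₁ →ₐ[S₁] R ⊗[S] S' :=
    { toRingHom := (Algebra.TensorProduct.includeLeft : R →ₐ[S] R ⊗[S] S').toRingHom.comp
        eR.symm.toRingHom
      commutes' := fun c => by
        obtain ⟨d, rfl⟩ := eS.surjective c
        show (Algebra.TensorProduct.includeLeft : R →ₐ[S] R ⊗[S] S') (eR.symm (algebraMap S₁ R₁ (eS d))) =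
          algebraMap S (R ⊗[S] S') (eS.symm (eS d))
        rw [hcomm, RingEquiv.symm_apply_apply, RingEquiv.symm_apply_apply, AlgHom.commutes] }
  let g₂ : E →ₐ[S₁] R ⊗[S] S' :=
    { toRingHom := (Algebra.TensorProduct.includeRight : S' →ₐ[S] R ⊗[S] S').toRingHom.comp
        e.symm.toRingEquiv.toRingHom
      commutes' := fun c => by
        obtain ⟨d, rfl⟩ := eS.surjective c
        show (Algebra.TensorProduct.includeRight : S' →ₐ[S] R ⊗[S] S')
          (e.symm (algebraMap S E d)) = algebraMap S (R ⊗[S] S') (eS.symm (eS d))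
        rw [AlgEquiv.commutes, AlgHom.commutes, RingEquiv.symm_apply_apply] }
  let θ : R₁ ⊗[S₁] E →ₐ[S₁] R ⊗[S] S' :=
    Algebra.TensorProduct.lift g₁ g₂ fun x y => mul_comm (g₁ x) (g₂ y)
  refine ⟨S', inferInstance, inferInstance, inferInstance, inferInstance, ⟨AlgHom.mk
    (θ.toRingHom.mapMatrix.comp (ψ.toRingHom.comp
      (Algebra.TensorProduct.includeRight : A →ₐ[R] R₁ ⊗[R] A).toRingHom)) fun c => ?_⟩⟩
  show θ.toRingHom.mapMatrix (ψ ((1 : R₁) ⊗ₜ[R] algebraMap R A c)) = _
  rw [show (1 : R₁) ⊗ₜ[R] algebraMap R A c = algebraMap R₁ (R₁ ⊗[R] A) (algebraMap R R₁ c) from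
    (Algebra.TensorProduct.tmul_one_eq_one_tmul c).symm, AlgHom.commutes]
  ext i j
  rw [RingHom.mapMatrix_apply, Matrix.map_apply, Matrix.algebraMap_matrix_apply,
    Matrix.algebraMap_matrix_apply]
  split_ifs
  · show θ ((algebraMap R R₁ c) ⊗ₜ[S₁] (1 : E)) = c ⊗ₜ[S] (1 : S')
    simp only [θ, Algebra.TensorProduct.lift_tmul, map_one, mul_one, ← heR]
    exact congrArg (fun z => z ⊗ₜ[S] (1 : S')) (eR.symm_apply_apply c)
  · exact map_zero θ

theorem exists_etale_base_split_univ (S : Type u) [CommRing S] (R : Type v) [CommRing R]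
    [Algebra S R] [Algebra.IsIntegral S R] (A : Type w) [Ring A] [Algebra R A] [IsAzumaya R A]
    (n : ℕ) (hn : n ≠ 0)
    (hrk : ∀ q : PrimeSpectrum R, Module.rankAtStalk (R := R) A q = n ^ 2) :
    ∃ (S' : Type u) (_ : CommRing S') (_ : Algebra S S'), Algebra.Etale S S' ∧
      Module.FaithfullyFlat S S' ∧
      Nonempty (A →ₐ[R] Matrix (Fin n) (Fin n) (R ⊗[S] S')) := by
  classical
  let S₁ : Type max u v w := ULift.{max v w} S
  let R₁ : Type max u v w := ULift.{max u w} R
  letI : Algebra S₁ R₁ := ((ULift.ringEquiv.symm.toRingHom.comp (algebraMap S R)).comp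
    ULift.ringEquiv.toRingHom).toAlgebra
  haveI : Algebra.IsIntegral S₁ R₁ := ⟨fun r => by
    obtain ⟨P, hPm, hP⟩ := Algebra.IsIntegral.isIntegral (R := S) r.down
    refine ⟨P.map (ULift.ringEquiv.symm : S ≃+* S₁).toRingHom, hPm.map _, ?_⟩
    rw [Polynomial.eval₂_map]
    have h := (Polynomial.hom_eval₂ P (algebraMap S R)
      (ULift.ringEquiv.symm : R ≃+* R₁).toRingHom r.down).symm
    rw [hP, map_zero] at h
    exact h⟩
  haveI := isAzumaya_baseChange R R₁ A
  obtain ⟨E, iE, aE, het, hff, ⟨ψ⟩⟩ := exists_etale_base_split S₁ R₁ (R₁ ⊗[R] A) n hn fun Q => by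
    rw [Module.rankAtStalk_baseChange, hrk]
  haveI := het
  haveI := hff
  exact descend_universe S R A n S₁ R₁ ULift.ringEquiv.symm ULift.ringEquiv.symm (fun _ => rfl)
    (fun _ => rfl) E ψ

variable {S : Type u} [CommRing S] {R : Type v} [CommRing R] [Algebra S R]
  {A : Type w} [Ring A] [Algebra S A] [Algebra R A] [IsScalarTower S R A] [IsAzumaya R A]

set_option maxHeartbeats 800000 in
/-- a homomorphism to matrices over `R ⊗ S'` is an isomorphism after base change -/
theorem exists_algEquiv_of_algHom' (S' : Type u) [CommRing S'] [Algebra S S'] (n : ℕ) (hn : n ≠ 0)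
    (hrk : ∀ q : PrimeSpectrum R, Module.rankAtStalk (R := R) A q = n ^ 2)
    (ψ : A →ₐ[R] Matrix (Fin n) (Fin n) (R ⊗[S] S')) :
    ∃ f : S' ⊗[S] A ≃ₐ[S'] Matrix (Fin n) (Fin n) (S' ⊗[S] R),
      (∀ (s : S') (a : A), f (s ⊗ₜ[S] a) =
        s • (Algebra.TensorProduct.comm S R S').toAlgHom.mapMatrix (ψ a)) ∧
      ∀ (r : R) (x : S' ⊗[S] A),
        f (((1 : S') ⊗ₜ[S] algebraMap R A r) * x) = Matrix.scalar (Fin n) ((1 : S') ⊗ₜ[S] r) * f x := by
  classical
  haveI : Nonempty (Fin n) := ⟨⟨0, Nat.pos_of_ne_zero hn⟩⟩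
  let B := R ⊗[S] S'
  let c : B ≃ₐ[S] S' ⊗[S] R := Algebra.TensorProduct.comm S R S'
  let χ : A →ₐ[S] Matrix (Fin n) (Fin n) (S' ⊗[S] R) :=
    c.toAlgHom.mapMatrix.comp (ψ.restrictScalars S)
  let F : S' ⊗[S] A →ₐ[S'] Matrix (Fin n) (Fin n) (S' ⊗[S] R) :=
    Algebra.TensorProduct.lift (Algebra.ofId S' _) χ fun s a => Algebra.commutes s (χ a)
  haveI := isAzumaya_baseChange R B A
  haveI := isAzumaya_matrix B (Fin n)
  let Φ : B ⊗[R] A →ₐ[B] Matrix (Fin n) (Fin n) B :=
    Algebra.TensorProduct.lift (Algebra.ofId B _) ψ fun b a => Algebra.commutes b (ψ a)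
  have hΦ : Function.Bijective Φ := algHom_bijective_of_rankAtStalk_eq B Φ fun P => by
    rw [Module.rankAtStalk_baseChange, hrk, rankAtStalk_matrix, Fintype.card_fin, pow_two]
  -- the comparison `S' ⊗[S] A ≅ B ⊗[R] A`
  let toB : S' ⊗[S] A →ₗ[S] B ⊗[R] A := TensorProduct.lift
    (LinearMap.mk₂ S (fun s a => ((1 : R) ⊗ₜ[S] s) ⊗ₜ[R] a)
      (fun s s' a => by rw [TensorProduct.tmul_add, TensorProduct.add_tmul])
      (fun k s a => by rw [TensorProduct.tmul_smul, TensorProduct.smul_tmul' k ((1 : R) ⊗ₜ[S] s) a])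
      (fun s a a' => by rw [TensorProduct.tmul_add])
      (fun k s a => by
        rw [← IsScalarTower.algebraMap_smul R k a, TensorProduct.tmul_smul,
          IsScalarTower.algebraMap_smul]))
  have htoB : Function.Bijective toB := by
    let invB : B →ₗ[S] A →ₗ[S] S' ⊗[S] A := TensorProduct.lift
      (LinearMap.mk₂ S (fun r s => (TensorProduct.mk S S' A s).comp
          ((Algebra.lsmul S S A r : A →ₗ[S] A)))
        (fun r r' s => by ext a; simp [TensorProduct.tmul_add])
        (fun k r s => by ext a; simp)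
        (fun r s s' => by ext a; simp)
        (fun k r s => by ext a; simp [TensorProduct.smul_tmul']))
    let inv : B ⊗[R] A →+ S' ⊗[S] A := TensorProduct.liftAddHom
      (AddMonoidHom.mk' (fun b => (invB b).toAddMonoidHom) fun b b' => by
        ext a; simp)
      (fun r b a => by
        induction b using TensorProduct.induction_on with
        | zero => simp
        | add x y hx hy =>
          have hx' : invB (r • x) a = invB x (r • a) := hx
          have hy' : invB (r • y) a = invB y (r • a) := hy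
          show invB (r • (x + y)) a = invB (x + y) (r • a)
          rw [smul_add, map_add, map_add, LinearMap.add_apply, LinearMap.add_apply, hx', hy']
        | tmul r' s =>
          show s ⊗ₜ[S] ((r • r') • a) = s ⊗ₜ[S] (r' • (r • a))
          rw [smul_smul, smul_eq_mul, mul_comm])
    refine Function.bijective_iff_has_inverse.2 ⟨inv, fun x => ?_, fun x => ?_⟩
    · induction x using TensorProduct.induction_on with
      | zero => simp
      | add x y hx hy => rw [map_add, map_add, hx, hy]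
      | tmul s a =>
        show s ⊗ₜ[S] ((1 : R) • a) = _
        rw [one_smul]
    · induction x using TensorProduct.induction_on with
      | zero => simp
      | add x y hx hy => rw [map_add, map_add, hx, hy]
      | tmul b a =>
        induction b using TensorProduct.induction_on with
        | zero => simp
        | add x y hx hy => rw [TensorProduct.add_tmul, map_add, map_add, hx, hy]
        | tmul r s =>
          show ((1 : R) ⊗ₜ[S] s) ⊗ₜ[R] (r • a) = _
          rw [TensorProduct.tmul_smul, TensorProduct.smul_tmul', TensorProduct.smul_tmul',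
            smul_eq_mul, mul_one]
  have hFc : ∀ x, F x = c.toAlgHom.mapMatrix (Φ (toB x)) := fun x => by
    induction x using TensorProduct.induction_on with
    | zero => simp
    | add x y hx hy => rw [map_add, hx, hy, map_add, map_add, map_add]
    | tmul s a =>
      show algebraMap S' (Matrix (Fin n) (Fin n) (S' ⊗[S] R)) s * χ a =
        c.toAlgHom.mapMatrix (Φ (((1 : R) ⊗ₜ[S] s) ⊗ₜ[R] a))
      simp only [Φ, Algebra.TensorProduct.lift_tmul, map_mul]
      congr 1
      ext i j
      show algebraMap S' (Matrix (Fin n) (Fin n) (S' ⊗[S] R)) s i j =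
        c (algebraMap B (Matrix (Fin n) (Fin n) B) ((1 : R) ⊗ₜ[S] s) i j)
      rw [Matrix.algebraMap_matrix_apply, Matrix.algebraMap_matrix_apply]
      split_ifs
      · exact (Algebra.TensorProduct.comm_tmul (R := S) (A := R) (B := S') 1 s).symm
      · rw [map_zero]
  have hc : Function.Bijective (c.toAlgHom.mapMatrix :
      Matrix (Fin n) (Fin n) B →ₐ[S] Matrix (Fin n) (Fin n) (S' ⊗[S] R)) :=
    c.mapMatrix.bijective
  have hF : Function.Bijective F := by
    rw [show (F : S' ⊗[S] A → Matrix (Fin n) (Fin n) (S' ⊗[S] R)) =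
      (fun x => c.toAlgHom.mapMatrix (Φ (toB x))) from funext hFc]
    exact hc.comp (hΦ.comp htoB)
  refine ⟨AlgEquiv.ofBijective F hF, fun s a => ?_, fun r x => ?_⟩
  · show F (s ⊗ₜ[S] a) = _
    simp only [F, Algebra.TensorProduct.lift_tmul, Algebra.smul_def]
    rfl
  rw [map_mul]
  congr 1
  show F ((1 : S') ⊗ₜ[S] algebraMap R A r) = _
  simp only [F, Algebra.TensorProduct.lift_tmul, map_one, one_mul]
  ext i j
  show c (ψ (algebraMap R A r) i j) = _
  rw [AlgHom.commutes, Matrix.algebraMap_matrix_apply, Matrix.scalar_apply, Matrix.diagonal_apply]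
  split_ifs
  · exact Algebra.TensorProduct.comm_tmul (R := S) (A := R) (B := S') r 1
  · exact map_zero c

theorem exists_algEquiv_of_algHom (S' : Type u) [CommRing S'] [Algebra S S'] (n : ℕ) (hn : n ≠ 0)
    (hrk : ∀ q : PrimeSpectrum R, Module.rankAtStalk (R := R) A q = n ^ 2)
    (ψ : A →ₐ[R] Matrix (Fin n) (Fin n) (R ⊗[S] S')) :
    ∃ f : S' ⊗[S] A ≃ₐ[S'] Matrix (Fin n) (Fin n) (S' ⊗[S] R),
      ∀ (r : R) (x : S' ⊗[S] A),
        f (((1 : S') ⊗ₜ[S] algebraMap R A r) * x) = Matrix.scalar (Fin n) ((1 : S') ⊗ₜ[S] r) * f x := by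
  obtain ⟨f, -, hf⟩ := exists_algEquiv_of_algHom' S' n hn hrk ψ
  exact ⟨f, hf⟩

end Groth.Agent.CSA
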