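import Groth.Agent.CSA.Basic

/-!
# Column modules of matrix algebras, cancellation
-/

set_option autoImplicit false

open Matrix

namespace Groth.Agent.CSA

universe u v w

variable (k : Type u) [Field k] {A : Type v} [Ring A] [Algebra k A] {A' : Type w} [Ring A']
  [Algebra k A']

/-- the action of matrices on column vectors as an algebra homomorphism -/
noncomputable def mulVecHom (A : Type v) [Ring A] [Algebra k A] (n : Type*) [Fintype n]
    [DecidableEq n] : Matrix n n A →ₐ[k] Module.End k (n → A) where
  toFun M :=
    { toFun := fun v => M.mulVec v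
      map_add' := M.mulVec_add
      map_smul' := fun c v => M.mulVec_smul c v }
  map_one' := by apply LinearMap.ext; intro v; exact one_mulVec v
  map_mul' M N := by apply LinearMap.ext; intro v; exact (mulVec_mulVec v M N).symm
  map_zero' := by apply LinearMap.ext; intro v; exact zero_mulVec v
  map_add' M N := by apply LinearMap.ext; intro v; exact add_mulVec M N v
  commutes' c := by
    apply LinearMap.ext; intro v
    change (algebraMap k (Matrix n n A) c).mulVec v = c • v
    rw [Algebra.algebraMap_eq_smul_one, smul_mulVec, one_mulVec]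

theorem mulVecHom_apply {n : Type*} [Fintype n] [DecidableEq n] (M : Matrix n n A) (v : n → A) :
    mulVecHom k A n M v = M.mulVec v := rfl

/-- a map commuting with all matrices is a right multiplication -/
theorem eq_rightMul_of_commute {n : Type*} [Fintype n] [DecidableEq n] (i₀ : n)
    (f : (n → A) → (n → A)) (hf : ∀ (M : Matrix n n A) v, f (M.mulVec v) = M.mulVec (f v)) :
    ∃ a : A, ∀ v i, f v i = v i * a := by
  refine ⟨f (Pi.single i₀ 1) i₀, fun v i => ?_⟩
  let V : Matrix n n A := Matrix.of fun i j => if j = i₀ then v i else 0
  have : V.mulVec (Pi.single i₀ 1) = v := by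
    ext j; simp [V, mulVec, dotProduct, Pi.single_apply]
  conv_lhs => rw [← this, hf]
  simp [V, mulVec, dotProduct]

theorem nonempty_algEquiv_of_matrix [IsSimpleRing A] [FiniteDimensional k A]
    [FiniteDimensional k A'] {n m : Type*} [Fintype n] [DecidableEq n] [Fintype m] [DecidableEq m]
    [Nonempty n] [Nonempty m] (e : Matrix n n A ≃ₐ[k] Matrix m m A')
    (h : Fintype.card n * Module.finrank k A = Fintype.card m * Module.finrank k A') :
    Nonempty (A ≃ₐ[k] A') := by
  let R := Matrix n n A
  have : IsArtinianRing R := IsArtinianRing.of_finite k R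
  let mf : Module R (n → A) := Module.compHom (n → A) (mulVecHom k A n).toRingHom
  let mg : Module R (m → A') :=
    Module.compHom (m → A') ((mulVecHom k A' m).comp e.toAlgHom).toRingHom
  have tf : @IsScalarTower k R (n → A) _ mf.toSMul _ :=
    @IsScalarTower.mk k R (n → A) _ mf.toSMul _ fun c r x => by
      change mulVecHom k A n (c • r) x = c • mulVecHom k A n r x
      simp
  have tg : @IsScalarTower k R (m → A') _ mg.toSMul _ :=
    @IsScalarTower.mk k R (m → A') _ mg.toSMul _ fun c r x => by
      change mulVecHom k A' m (e (c • r)) x = c • mulVecHom k A' m (e r) x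
      simp
  obtain ⟨φ⟩ := @nonempty_linearEquiv_of_finrank_eq k _ R _ _ _ _ (n → A) _ mf _ tf (m → A') _ mg _
    tg _ _ (by simpa [Module.finrank_pi_fintype] using h)
  have hφ : ∀ (M : Matrix n n A) v, φ (M.mulVec v) = (e M).mulVec (φ v) := fun M v =>
    @LinearEquiv.map_smul R (n → A) (m → A') _ _ _ mf mg φ M v
  let i₀ : n := Classical.arbitrary n
  let j₀ : m := Classical.arbitrary m
  have hr : ∀ {B : Type w} [Ring B] (M : Matrix m m B) (v : m → B) (a : B),
      M.mulVec (fun j => v j * a) = fun j => M.mulVec v j * a := fun M v a => by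
    ext j; simp [mulVec, dotProduct, Finset.sum_mul, mul_assoc]
  have hr' : ∀ (M : Matrix n n A) (v : n → A) (a : A),
      M.mulVec (fun j => v j * a) = fun j => M.mulVec v j * a := fun M v a => by
    ext j; simp [mulVec, dotProduct, Finset.sum_mul, mul_assoc]
  have key : ∀ a : A, ∃ a' : A', ∀ v j, φ (fun i => v i * a) j = φ v j * a' := fun a => by
    obtain ⟨a', ha'⟩ := eq_rightMul_of_commute j₀ (fun w => φ (fun i => φ.symm w i * a))
      (fun M w => by
        obtain ⟨N, rfl⟩ := e.surjective M
        obtain ⟨v, rfl⟩ := φ.surjective w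
        simp only [← hφ, LinearEquiv.symm_apply_apply, hr'])
    exact ⟨a', fun v j => by simpa using ha' (φ v) j⟩
  choose F hF using key
  have huniq : ∀ a b : A', (∀ v j, φ v j * a = φ v j * b) → a = b := fun a b hab => by
    obtain ⟨v, hv⟩ := φ.surjective (Pi.single j₀ 1)
    simpa [hv] using hab v j₀
  let F' : A →ₐ[k] A' :=
    { toFun := F
      map_one' := huniq _ _ fun v j => by simp [← hF]
      map_mul' := fun a b => huniq _ _ fun v j => by
        simp only [← hF, ← mul_assoc]
      map_zero' := huniq _ _ fun v j => by simp [← hF]; exact congrFun (map_zero φ) j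
      map_add' := fun a b => huniq _ _ fun v j => by
        simp only [mul_add, ← hF]
        exact congrFun (map_add φ _ _) j
      commutes' := fun c => huniq _ _ fun v j => by
        rw [← hF, show (fun i => v i * algebraMap k A c) = c • v by
          ext i; simp [Algebra.smul_def, Algebra.commutes], show φ (c • v) = c • φ v from LinearMap.map_smul_of_tower φ.toLinearMap c v]
        simp [Algebra.smul_def, Algebra.commutes] }
  refine ⟨AlgEquiv.ofBijective F' ⟨fun a b hab => ?_, fun a' => ?_⟩⟩
  · have : φ (fun i => Pi.single (M := fun _ => A) i₀ 1 i * a) =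
        φ (fun i => Pi.single (M := fun _ => A) i₀ 1 i * b) := by
      ext j; rw [hF, hF]; exact congrArg _ hab
    simpa using congrFun (φ.injective this) i₀
  · obtain ⟨a, ha⟩ := eq_rightMul_of_commute i₀ (fun v => φ.symm (fun j => φ v j * a'))
      (fun M v => by
        apply φ.injective
        simp only [hφ, LinearEquiv.apply_symm_apply, hr])
    refine ⟨a, huniq _ _ fun v j => ?_⟩
    rw [show F' a = F a from rfl, ← hF, show (fun i => v i * a) = φ.symm fun j => φ v j * a' from
      funext fun i => (ha v i).symm, LinearEquiv.apply_symm_apply]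

end Groth.Agent.CSA
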