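import Groth.Agent.CSA.Azumaya
import Mathlib.RingTheory.Ideal.GoingUp
import Mathlib.RingTheory.QuasiFinite.Basic
import Mathlib.RingTheory.IntegralClosure.IsIntegralClosure.Basic

/-! # Automorphisms of Azumaya algebras are inner Zariski locally on a base of integrality

For `R` integral over `S`, an Azumaya `R`-algebra `A`, `φ : A ≃ₐ[R] A` and a prime `p` of `S`, there
are `f ∉ p` and `a b : A` with `a b = b a = f` and `φ x a = a x`.
-/

set_option autoImplicit false
set_option linter.style.haveILetI false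

open TensorProduct

universe u v w

namespace Groth.Agent.CSA

theorem exists_conj_away_of_isIntegral (S : Type u) [CommRing S] (R : Type v) [CommRing R]
    [Algebra S R] [Algebra.IsIntegral S R] (A : Type w) [Ring A] [Algebra S A] [Algebra R A]
    [IsScalarTower S R A] [IsAzumaya R A] (φ : A ≃ₐ[R] A) (p : Ideal S) [p.IsPrime] :
    ∃ (f : S) (_ : f ∉ p) (a b : A),
      a * b = algebraMap S A f ∧ b * a = algebraMap S A f ∧ ∀ x, φ x * a = a * x := by
  classical
  obtain ⟨n, e, f, hef⟩ := exists_dual_basis R A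
  obtain ⟨g, hg⟩ := exists_dual_one_eq_one R A
  let E := A ⊗[R] Aᵐᵒᵖ
  let τ : E →ₐ[R] E := Algebra.TensorProduct.map φ.toAlgHom (AlgHom.id R Aᵐᵒᵖ)
  let T : E →ₐ[R] Module.End R A := (AlgHom.mulLeftRight R A).comp τ
  have hT : ∀ (c : A) (d : Aᵐᵒᵖ) (y : A), T (c ⊗ₜ d) y = φ c * y * d.unop := fun c d y => by
    change AlgHom.mulLeftRight R A (φ c ⊗ₜ d) y = _
    simp
  choose t ht using fun i => exists_mulLeftRight_eq R A (f i)
  let P : Fin n → A := fun i => T (t i) 1
  have hP : ∀ i x, φ x * P i = P i * x := by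
    intro i x
    have h1 : (x ⊗ₜ[R] (1 : Aᵐᵒᵖ)) * t i = ((1 : A) ⊗ₜ[R] MulOpposite.op x) * t i := by
      refine (IsAzumaya.bij (R := R) (A := A)).1 (LinearMap.ext fun z => ?_)
      simp [map_mul, Module.End.mul_apply, ht]
    have h2 := LinearMap.congr_fun (congrArg T h1) 1
    rw [map_mul, map_mul, Module.End.mul_apply, Module.End.mul_apply, hT, hT] at h2
    simpa [P] using h2
  have hone : ∑ i, φ (e i) * P i = 1 := by
    have h1 : ∑ i, (e i ⊗ₜ[R] (1 : Aᵐᵒᵖ)) * t i = 1 := by
      refine (IsAzumaya.bij (R := R) (A := A)).1 (LinearMap.ext fun z => ?_)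
      simpa [map_sum, Module.End.mul_apply, ht] using hef z
    have h2 : ∑ i, (T ((e i ⊗ₜ[R] (1 : Aᵐᵒᵖ)) * t i)) 1 = (1 : A) := by
      rw [← LinearMap.sum_apply, ← map_sum, h1, map_one T, Module.End.one_apply]
    refine Eq.trans (Finset.sum_congr rfl fun i _ => ?_) h2
    rw [map_mul, Module.End.mul_apply, hT]
    simp [P]
  -- modulo every prime some `P i` has a nonzero coordinate
  have hprime : ∀ q : Ideal R, q.IsPrime → ∃ i j, f j (P i) ∉ q := by
    intro q hq
    by_contra hc
    push Not at hc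
    apply hq.ne_top
    rw [Ideal.eq_top_iff_one, ← hg, ← hone, map_sum]
    refine Ideal.sum_mem _ fun i _ => ?_
    rw [← hef (P i), Finset.mul_sum, map_sum]
    refine Ideal.sum_mem _ fun j _ => ?_
    rw [Algebra.mul_smul_comm, map_smul, smul_eq_mul]
    exact Ideal.mul_mem_right _ _ (hc i j)
  -- the finite subalgebra generated by the coordinates
  let s : Finset R := Finset.univ.image fun q : Fin n × Fin n => f q.2 (P q.1)
  let R₀ : Subalgebra S R := Algebra.adjoin S (s : Set R)
  haveI : Algebra.FiniteType S R₀ := (Subalgebra.fg_iff_finiteType R₀).1 ⟨s, rfl⟩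
  haveI : Algebra.IsIntegral S R₀ := Algebra.IsIntegral.of_injective R₀.val Subtype.val_injective
  haveI : Module.Finite S R₀ := Algebra.IsIntegral.finite
  haveI : Algebra.IsIntegral R₀ R :=
    ⟨fun b => (Algebra.IsIntegral.isIntegral (R := S) b).tower_top⟩
  let co : Fin n → Fin n → R₀ := fun i j => ⟨f j (P i), Algebra.subset_adjoin
    (Finset.mem_image.2 ⟨(i, j), Finset.mem_univ _, rfl⟩)⟩
  haveI : Fintype (p.primesOver R₀) := (Algebra.QuasiFinite.finite_primesOver p).fintype
  have hQ : ∀ Q : p.primesOver R₀, ∃ i j, co i j ∉ Q.1 := by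
    intro Q
    haveI := Q.2.1
    obtain ⟨N, -, hN, hNQ⟩ := Ideal.exists_ideal_over_prime_of_isIntegral Q.1 (⊥ : Ideal R)
      (fun x hx => by
        have : (x : R) = 0 := by simpa [RingHom.mem_ker] using hx
        rw [show x = 0 from Subtype.ext this]
        exact zero_mem _)
    obtain ⟨i, j, hij⟩ := hprime N hN
    exact ⟨i, j, fun h => hij (by rw [← hNQ] at h; exact h)⟩
  choose i₀ j₀ hij using hQ
  -- elements supported at one prime over `p`
  have hsep : ∀ Q : p.primesOver R₀, ∃ e : R₀, e ∉ Q.1 ∧ ∀ Q' : p.primesOver R₀, Q' ≠ Q → e ∈ Q'.1 := by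
    intro Q
    haveI := Q.2.1
    have h : ∀ Q' : p.primesOver R₀, Q' ≠ Q → ∃ x ∈ Q'.1, x ∉ Q.1 := by
      intro Q' hne
      haveI := Q'.2.1
      haveI := Q'.2.2
      haveI := Q.2.2
      by_contra hc
      push Not at hc
      rcases eq_or_lt_of_le (show Q'.1 ≤ Q.1 from hc) with h | h
      · exact hne (Subtype.ext h)
      · have := Ideal.IsIntegral.comap_lt_comap (R := S) h
        exact this.ne (by rw [← Ideal.under_def, ← Ideal.under_def, ← Q'.2.2.over, ← Q.2.2.over])
    choose x hx hx' using h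
    refine ⟨∏ Q' : {Q' : p.primesOver R₀ // Q' ≠ Q}, x Q'.1 Q'.2, fun hc => ?_, fun Q' hne => ?_⟩
    · obtain ⟨Q', -, hQ'⟩ := (Ideal.IsPrime.prod_mem_iff (p := Q.1)).1 hc
      exact hx' _ _ hQ'
    · exact Ideal.mem_of_dvd _ (Finset.dvd_prod_of_mem _ (Finset.mem_univ ⟨Q', hne⟩)) (hx Q' hne)
  choose ε hε hε' using hsep
  let c : Fin n → R₀ := fun i => ∑ Q ∈ Finset.univ.filter (fun Q => i₀ Q = i), ε Q
  let J : Ideal R₀ := Ideal.span (Set.range fun j => ∑ i, c i * co i j)
  obtain ⟨f₀, hf₀J, hf₀⟩ : ∃ f₀ : S, algebraMap S R₀ f₀ ∈ J ∧ f₀ ∉ p := by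
    by_contra hc
    push Not at hc
    obtain ⟨Q, hJQ, hQp, hQl⟩ := Ideal.exists_ideal_over_prime_of_isIntegral p J
      (fun z hz => hc z hz)
    let Qs : p.primesOver R₀ := ⟨Q, hQp, ⟨hQl.symm⟩⟩
    apply hij Qs
    have hmem : ∑ i, c i * co i (j₀ Qs) ∈ Q := hJQ (Ideal.subset_span ⟨j₀ Qs, rfl⟩)
    have hrest : ∀ i, c i * co i (j₀ Qs) - (if i = i₀ Qs then ε Qs * co i (j₀ Qs) else 0) ∈ Q := by
      intro i
      split_ifs with h
      · subst h
        rw [show c (i₀ Qs) = ε Qs + ∑ Q' ∈ (Finset.univ.filter fun Q' => i₀ Q' = i₀ Qs).erase Qs, ε Q' from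
          (Finset.add_sum_erase _ _ (by simp)).symm, add_mul, add_sub_cancel_left]
        exact Ideal.mul_mem_right _ _ (Ideal.sum_mem _ fun Q' hQ' => hε' Q' Qs (Finset.ne_of_mem_erase hQ').symm)
      · rw [sub_zero]
        refine Ideal.mul_mem_right _ _ (Ideal.sum_mem _ fun Q' hQ' => hε' Q' Qs ?_)
        rintro rfl
        exact h (Finset.mem_filter.1 hQ').2.symm
    have h2 := sub_mem hmem (Ideal.sum_mem Q (t := Finset.univ) fun i _ => hrest i)
    rw [Finset.sum_sub_distrib, sub_sub_cancel, Finset.sum_ite_eq' Finset.univ (i₀ Qs)] at h2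
    simp only [Finset.mem_univ, if_true] at h2
    exact (hQp.mem_or_mem h2).resolve_left (hε Qs)
  obtain ⟨l, hl⟩ := (Ideal.mem_span_range_iff_exists_fun).1 hf₀J
  -- the normal element
  let y : A := ∑ i, (c i : R) • P i
  have hy : ∀ x, φ x * y = y * x := fun x => by
    simp only [y, Finset.mul_sum, Finset.sum_mul, mul_smul_comm, smul_mul_assoc, hP]
  have key : ∀ z : E, ∃ x, AlgHom.mulLeftRight R A z y = y * x := by
    intro z
    induction z using TensorProduct.induction_on with
    | zero => exact ⟨0, by simp⟩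
    | add z z' h h' =>
      obtain ⟨x, hx⟩ := h
      obtain ⟨x', hx'⟩ := h'
      exact ⟨x + x', by simp [hx, hx', mul_add]⟩
    | tmul a d =>
      refine ⟨φ.symm a * d.unop, ?_⟩
      rw [AlgHom.mulLeftRight_apply, ← mul_assoc y, ← hy (φ.symm a), φ.apply_symm_apply]
  choose x hx using fun j => key (t j)
  have hfy : ∀ j, f j y = ((∑ i, c i * co i j : R₀) : R) := fun j => by
    simp [y, co, map_sum]
  have hright : y * (∑ j, (l j : R) • x j) = algebraMap S A f₀ := by
    have h1 : ∀ j, y * x j = f j y • (1 : A) := fun j => by rw [← hx, ht]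
    simp only [Finset.mul_sum, mul_smul_comm, h1, smul_smul, ← Finset.sum_smul, hfy]
    rw [show ∑ j, (l j : R) * ((∑ i, c i * co i j : R₀) : R) = ((∑ j, l j * ∑ i, c i * co i j : R₀) : R)
      by simp, hl, IsScalarTower.algebraMap_apply S R A, Algebra.algebraMap_eq_smul_one (A := A)]
    rfl
  set z := ∑ j, (l j : R) • x j
  have hleft : φ z * y = algebraMap S A f₀ := by rw [hy, hright]
  have hfz : algebraMap S A f₀ * φ z = algebraMap S A f₀ * z := by
    calc algebraMap S A f₀ * φ z = φ z * algebraMap S A f₀ := Algebra.commutes f₀ (φ z)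
      _ = φ z * y * z := by rw [mul_assoc, hright]
      _ = _ := by rw [hleft]
  refine ⟨f₀ * f₀, fun h => (‹p.IsPrime›.mem_or_mem h).elim hf₀ hf₀, y, algebraMap S A f₀ * z, ?_, ?_, hy⟩
  · rw [← mul_assoc, ← Algebra.commutes f₀ y, mul_assoc, hright, map_mul]
  · rw [← hfz, mul_assoc, hleft, map_mul]

/-- for `R` integral over `S`, automorphisms are inner over an étale cover of `S` -/
theorem exists_etale_inner_of_isIntegral (S : Type u) [CommRing S] (R : Type v) [CommRing R]
    [Algebra S R] [Algebra.IsIntegral S R] (A : Type w) [Ring A] [Algebra S A] [Algebra R A]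
    [IsScalarTower S R A] [IsAzumaya R A] (φ : A ≃ₐ[R] A) :
    ∃ (S' : Type u) (_ : CommRing S') (_ : Algebra S S') (_ : Algebra.Etale S S')
      (_ : Module.FaithfullyFlat S S') (u : (S' ⊗[S] A)ˣ), ∀ x : S' ⊗[S] A,
        Algebra.TensorProduct.map (AlgHom.id S' S') (φ.restrictScalars S).toAlgHom x =
          ↑u * x * ↑u⁻¹ := by
  classical
  have h := fun p : PrimeSpectrum S => exists_conj_away_of_isIntegral S R A φ p.asIdeal
  choose f hf a b hab hba hφ using h
  obtain ⟨t, ht⟩ := isCompact_univ.elim_finite_subcover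
    (fun p : PrimeSpectrum S => (PrimeSpectrum.basicOpen (f p) : Set (PrimeSpectrum S)))
    (fun p => PrimeSpectrum.isOpen_basicOpen) (fun p _ => Set.mem_iUnion.2 ⟨p, hf p⟩)
  let S' := Π p : t, Localization.Away (f p.1)
  haveI : ∀ p : t, Algebra.Etale S (Localization.Away (f p.1)) := fun p =>
    Algebra.Etale.of_isLocalizationAway (f p.1)
  haveI : Module.Flat S S' := Module.Flat.of_linearEquiv
    (DFinsupp.linearEquivFunOnFintype (R := S) (M := fun p : t => Localization.Away (f p.1))).symm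
  have hsurj : Function.Surjective (PrimeSpectrum.comap (algebraMap S S')) := by
    intro p
    obtain ⟨q, hq, hpq⟩ : ∃ q ∈ t, p ∈ (PrimeSpectrum.basicOpen (f q) : Set _) := by
      simpa using ht (Set.mem_univ p)
    rw [← PrimeSpectrum.localization_away_comap_range (Localization.Away (f q)) (f q)] at hpq
    obtain ⟨Q, hQ⟩ := hpq
    let π : S' →ₐ[S] Localization.Away (f q) :=
      Pi.evalAlgHom S (fun i : t => Localization.Away (f i.1)) ⟨q, hq⟩
    refine ⟨PrimeSpectrum.comap π.toRingHom Q, ?_⟩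
    rw [← PrimeSpectrum.comap_comp_apply,
      show (π.toRingHom).comp (algebraMap S S') = algebraMap S (Localization.Away (f q)) from
        π.comp_algebraMap, hQ]
  haveI hff : Module.FaithfullyFlat S S' := Module.FaithfullyFlat.of_comap_surjective hsurj
  let ε : t → S' := fun i => Pi.single i 1
  let g : t → S' := fun i => Pi.single i (IsLocalization.Away.invSelf (f i.1))
  have hεg : ∀ i, g i * algebraMap S S' (f i.1) = ε i := fun i => by
    funext j
    show g i j * algebraMap S (Localization.Away (f j.1)) (f i.1) = ε i j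
    rcases eq_or_ne j i with rfl | hne
    · simp only [g, ε, Pi.single_eq_same]
      rw [mul_comm, IsLocalization.Away.mul_invSelf]
    · simp [g, ε, Pi.single_eq_of_ne hne]
  have hεε : ∀ i j, ε i * g j = if i = j then g j else 0 := fun i j => by
    funext k
    show ε i k * g j k = _
    rcases eq_or_ne i j with rfl | hne
    · rcases eq_or_ne k i with rfl | hk
      · simp [ε, g]
      · simp [ε, g, Pi.single_eq_of_ne hk]
    · rcases eq_or_ne k i with rfl | hk
      · rw [if_neg hne]
        show _ = (0 : Localization.Away (f k.1))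
        simp [g, Pi.single_eq_of_ne hne]
      · rw [if_neg hne]
        show _ = (0 : Localization.Away (f k.1))
        simp [ε, Pi.single_eq_of_ne hk]
  have hsum : ∑ i, ε i = 1 := Finset.univ_sum_single (fun _ => 1)
  let uu : S' ⊗[S] A := ∑ i : t, ε i ⊗ₜ[S] a i.1
  let vv : S' ⊗[S] A := ∑ i : t, g i ⊗ₜ[S] b i.1
  have hscal : ∀ (i : t) (z : A), g i ⊗ₜ[S] (z * algebraMap S A (f i.1)) = ε i ⊗ₜ[S] z := fun i z => by
    rw [← Algebra.commutes (f i.1) z, ← Algebra.smul_def, TensorProduct.tmul_smul,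
      TensorProduct.smul_tmul', Algebra.smul_def, mul_comm, hεg]
  have huv : uu * vv = 1 := by
    simp only [uu, vv, Finset.sum_mul, Finset.mul_sum, Algebra.TensorProduct.tmul_mul_tmul, hεε,
      TensorProduct.ite_tmul, Finset.sum_ite_eq, Finset.sum_ite_eq', Finset.mem_univ, if_true, hab]
    rw [Finset.sum_congr rfl fun i _ => show g i ⊗ₜ[S] algebraMap S A (f i.1) = ε i ⊗ₜ[S] (1 : A) by
      rw [← hscal i 1, one_mul], ← TensorProduct.sum_tmul, hsum, Algebra.TensorProduct.one_def]
  have hvu : vv * uu = 1 := by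
    simp only [uu, vv, Finset.sum_mul, Finset.mul_sum, Algebra.TensorProduct.tmul_mul_tmul,
      mul_comm (g _), hεε, TensorProduct.ite_tmul, Finset.sum_ite_eq, Finset.sum_ite_eq',
      Finset.mem_univ, if_true, hba]
    rw [Finset.sum_congr rfl fun i _ => show g i ⊗ₜ[S] algebraMap S A (f i.1) = ε i ⊗ₜ[S] (1 : A) by
      rw [← hscal i 1, one_mul], ← TensorProduct.sum_tmul, hsum, Algebra.TensorProduct.one_def]
  refine ⟨S', inferInstance, inferInstance, inferInstance, hff, ⟨uu, vv, huv, hvu⟩, fun x => ?_⟩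
  have key : Algebra.TensorProduct.map (AlgHom.id S' S') (φ.restrictScalars S).toAlgHom x * uu =
      uu * x := by
    induction x using TensorProduct.induction_on with
    | zero => simp
    | add x y hx hy => rw [map_add, add_mul, hx, hy, mul_add]
    | tmul s x =>
      simp only [uu, Finset.mul_sum, Finset.sum_mul, Algebra.TensorProduct.map_tmul,
        Algebra.TensorProduct.tmul_mul_tmul]
      refine Finset.sum_congr rfl fun i _ => ?_
      show (s * ε i) ⊗ₜ[S] (φ x * a i.1) = (ε i * s) ⊗ₜ[S] (a i.1 * x)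
      rw [mul_comm s (ε i), hφ i.1 x]
  show _ = uu * x * vv
  rw [← key, mul_assoc, huv, mul_one]

end Groth.Agent.CSA
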