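import Groth.Agent.CSA.EtaleSpread

/-!
# A global etale faithfully flat splitting, and rank criteria
-/

set_option autoImplicit false

open TensorProduct

namespace Groth.Agent.CSA

universe u v w

/-- algebra maps between Azumaya algebras of equal rank are bijective -/
theorem algHom_bijective_of_rankAtStalk_eq (R : Type u) [CommRing R] {A : Type v} [Ring A]
    [Algebra R A] [IsAzumaya R A] {B : Type w} [Ring B] [Algebra R B] [IsAzumaya R B] (φ : A →ₐ[R] B)
    (h : ∀ p : PrimeSpectrum R, Module.rankAtStalk (R := R) A p = Module.rankAtStalk (R := R) B p) :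
    Function.Bijective φ := by
  have hsurj : Function.Surjective φ.toLinearMap := by
    refine surjective_of_residueField_lTensor R φ.toLinearMap fun m _ => ?_
    let K := m.ResidueField
    refine ⟨K, inferInstance, inferInstance, fun r hr => Ideal.algebraMap_residueField_eq_zero.mpr hr, ?_⟩
    haveI := isSimpleRing_tensor' R A K
    haveI := isSimpleRing_tensor' R B K
    let ψ : K ⊗[R] A →ₐ[K] K ⊗[R] B := Algebra.TensorProduct.map (AlgHom.id K K) φ
    have hinj : Function.Injective ψ := RingHom.injective ψ.toRingHom
    have hfr : Module.finrank K (K ⊗[R] A) = Module.finrank K (K ⊗[R] B) := by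
      have h1 := h ⟨m, inferInstance⟩
      rwa [Module.rankAtStalk_eq, Module.rankAtStalk_eq] at h1
    exact (LinearMap.injective_iff_surjective_of_finrank_eq_finrank (f := ψ.toLinearMap) hfr).1 hinj
  exact Module.bijective_of_surjective_of_rankAtStalk_eq (φ := φ.toLinearMap) hsurj fun m _ => h _

theorem isAzumaya_matrix (R : Type u) [CommRing R] (N : Type v) [Fintype N] [DecidableEq N]
    [Nonempty N] : IsAzumaya R (Matrix N N R) := IsAzumaya.matrix R N

theorem rankAtStalk_matrix (R : Type u) [CommRing R] (N : Type v) [Fintype N] [DecidableEq N]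
    (p : PrimeSpectrum R) :
    Module.rankAtStalk (R := R) (Matrix N N R) p = Fintype.card N * Fintype.card N := by
  haveI : Nontrivial R := p.nontrivial
  rw [Module.rankAtStalk_eq_finrank_of_free, Module.finrank_matrix]
  simp

set_option maxHeartbeats 800000 in
/-- an Azumaya algebra of constant rank `n²` is split by an etale faithfully flat extension -/
theorem exists_etale_split (R : Type u) [CommRing R] (A : Type u) [Ring A] [Algebra R A]
    [IsAzumaya R A] (n : ℕ) (hn : n ≠ 0)
    (hrk : ∀ p : PrimeSpectrum R, Module.rankAtStalk (R := R) A p = n ^ 2) :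
    ∃ (S : Type u) (_ : CommRing S) (_ : Algebra R S), Algebra.Etale R S ∧ Module.FaithfullyFlat R S ∧
      Nonempty ((S ⊗[R] A) ≃ₐ[S] Matrix (Fin n) (Fin n) S) := by
  classical
  haveI : Nonempty (Fin n) := ⟨⟨0, Nat.pos_of_ne_zero hn⟩⟩
  have h := fun p : PrimeSpectrum R => exists_split_near_prime R A p.asIdeal
  choose f hf R' i1 i2 i3 i4 hfin het hff r hr e using h
  obtain ⟨t, ht⟩ := isCompact_univ.elim_finite_subcover
    (fun p : PrimeSpectrum R => (PrimeSpectrum.basicOpen (f p) : Set (PrimeSpectrum R)))
    (fun p => PrimeSpectrum.isOpen_basicOpen) (fun p _ => Set.mem_iUnion.2 ⟨p, hf p⟩)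
  letI := fun p => i1 p
  letI := fun p => i2 p
  let S := Π p : t, R' p.1
  have hetR : ∀ p : PrimeSpectrum R, Algebra.Etale R (R' p) := fun p => by
    letI := i3 p
    haveI := i4 p
    haveI := het p
    haveI : Algebra.Etale R (Localization.Away (f p)) := Algebra.Etale.of_isLocalizationAway (f p)
    exact Algebra.Etale.comp R (Localization.Away (f p)) (R' p)
  have hsurj : Function.Surjective (PrimeSpectrum.comap (algebraMap R S)) := by
    intro p
    obtain ⟨q, hq, hpq⟩ : ∃ q ∈ t, p ∈ (PrimeSpectrum.basicOpen (f q) : Set _) := by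
      simpa using ht (Set.mem_univ p)
    letI := i3 q
    haveI := i4 q
    haveI := hff q
    obtain ⟨p', hp'⟩ : p ∈ Set.range (PrimeSpectrum.comap (algebraMap R (Localization.Away (f q)))) := by
      rw [PrimeSpectrum.localization_away_comap_range (Localization.Away (f q)) (f q)]
      exact hpq
    obtain ⟨Q, hQ⟩ := PrimeSpectrum.comap_surjective_of_faithfullyFlat (A := Localization.Away (f q))
      (B := R' q) p'
    let π : S →ₐ[R] R' q := Pi.evalAlgHom R (fun i : t => R' i.1) ⟨q, hq⟩
    refine ⟨PrimeSpectrum.comap π.toRingHom Q, ?_⟩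
    rw [← PrimeSpectrum.comap_comp_apply,
      show (π.toRingHom).comp (algebraMap R S) = algebraMap R (R' q) from π.comp_algebraMap,
      IsScalarTower.algebraMap_eq R (Localization.Away (f q)) (R' q),
      PrimeSpectrum.comap_comp_apply, hQ, hp']
  haveI : ∀ p : t, Algebra.Etale R (R' p.1) := fun p => hetR p.1
  haveI : Module.Flat R S := Module.Flat.of_linearEquiv
    (DFinsupp.linearEquivFunOnFintype (R := R) (M := fun p : t => R' p.1)).symm
  haveI hffS : Module.FaithfullyFlat R S := Module.FaithfullyFlat.of_comap_surjective hsurj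
  have hψ : ∀ p : PrimeSpectrum R, ∃ ψ : A →ₐ[R] Matrix (Fin n) (Fin n) (R' p), True := by
    intro p
    obtain ⟨ep⟩ := e p
    letI := i3 p
    haveI := i4 p
    haveI := hff p
    rcases subsingleton_or_nontrivial (R' p) with hs | hs
    · exact ⟨{ toFun := fun _ => 0, map_one' := Subsingleton.elim _ _, map_mul' := fun _ _ => Subsingleton.elim _ _,
               map_zero' := rfl, map_add' := fun _ _ => Subsingleton.elim _ _,
               commutes' := fun _ => Subsingleton.elim _ _ }, trivial⟩
    obtain ⟨q⟩ : Nonempty (PrimeSpectrum (R' p)) := inferInstance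
    have h1 := Module.rankAtStalk_baseChange (R := R) (M := A) (S := R' p) q
    rw [hrk, Module.rankAtStalk_eq_of_equiv ep.toLinearEquiv, rankAtStalk_matrix,
      Fintype.card_fin, ← pow_two] at h1
    obtain rfl : r p = n := Nat.pow_left_injective two_ne_zero h1
    exact ⟨((ep.toAlgHom.restrictScalars R)).comp Algebra.TensorProduct.includeRight, trivial⟩
  choose ψ _ using hψ
  let Ψ : A →ₐ[R] Matrix (Fin n) (Fin n) S :=
    { toFun := fun a => Matrix.of fun i j p => ψ p.1 a i j
      map_one' := Matrix.ext fun i j => funext fun p => by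
        show ψ p.1 1 i j = (1 : Matrix (Fin n) (Fin n) S) i j p
        rw [map_one, Matrix.one_apply, Matrix.one_apply]
        split_ifs <;> rfl
      map_mul' := fun a b => Matrix.ext fun i j => funext fun p => by
        show ψ p.1 (a * b) i j = ((∑ l, (fun q : t => ψ q.1 a i l) * (fun q : t => ψ q.1 b l j)) : S) p
        rw [map_mul, Matrix.mul_apply, Finset.sum_apply]
        rfl
      map_zero' := Matrix.ext fun i j => funext fun p => by
        show ψ p.1 0 i j = 0
        rw [map_zero]; rfl
      map_add' := fun a b => Matrix.ext fun i j => funext fun p => by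
        show ψ p.1 (a + b) i j = ψ p.1 a i j + ψ p.1 b i j
        rw [map_add]; rfl
      commutes' := fun c => Matrix.ext fun i j => funext fun p => by
        show ψ p.1 (algebraMap R A c) i j = (algebraMap R (Matrix (Fin n) (Fin n) S) c) i j p
        rw [AlgHom.commutes, Matrix.algebraMap_matrix_apply, Matrix.algebraMap_matrix_apply]
        split_ifs <;> rfl }
  let θ : S ⊗[R] A →ₐ[S] Matrix (Fin n) (Fin n) S :=
    Algebra.TensorProduct.lift (Algebra.ofId S _) Ψ fun c a => Algebra.commutes c (Ψ a)
  haveI := isAzumaya_baseChange R S A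
  haveI := isAzumaya_matrix S (Fin n)
  have hθ : Function.Bijective θ := algHom_bijective_of_rankAtStalk_eq S θ fun P => by
    rw [Module.rankAtStalk_baseChange, hrk, rankAtStalk_matrix, Fintype.card_fin, pow_two]
  exact ⟨S, inferInstance, inferInstance, inferInstance, hffS, ⟨AlgEquiv.ofBijective θ hθ⟩⟩

end Groth.Agent.CSA
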