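import Groth.Agent.CSA.Azumaya

/-!
# Two-sided ideals and centre of a tensor product with an Azumaya algebra
-/

set_option autoImplicit false

open TensorProduct

namespace Groth.Agent.CSA

universe u v w

variable (R : Type u) [CommRing R] (A : Type v) [Ring A] [Algebra R A] (B : Type w) [Ring B]
  [Algebra R B]

/-- the coefficient map `(f ⊗ id)` -/
noncomputable def coeffMap (f : Module.Dual R A) : A ⊗[R] B →ₗ[R] B :=
  (TensorProduct.lid R B).toLinearMap ∘ₗ f.rTensor B

@[simp] theorem coeffMap_tmul (f : Module.Dual R A) (a : A) (b : B) :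
    coeffMap R A B f (a ⊗ₜ b) = f a • b := by simp [coeffMap]

theorem coeff_expansion {ι : Type*} [Fintype ι] (e : ι → A) (f : ι → Module.Dual R A)
    (hef : ∀ a, ∑ i, f i a • e i = a) (x : A ⊗[R] B) :
    ∑ i, e i ⊗ₜ[R] coeffMap R A B (f i) x = x := by
  induction x using TensorProduct.induction_on with
  | zero => simp
  | tmul a b =>
    conv_rhs => rw [← hef a, sum_tmul]
    exact Finset.sum_congr rfl fun i _ => by rw [coeffMap_tmul, smul_tmul]
  | add x y hx hy => conv_rhs => rw [← hx, ← hy]
                     simp only [map_add, tmul_add, Finset.sum_add_distrib]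

theorem sum_mulLeftRight_smul_mem {I : TwoSidedIdeal (A ⊗[R] B)} (t : A ⊗[R] Aᵐᵒᵖ)
    {x : A ⊗[R] B} (hx : x ∈ I) : (AlgHom.mulLeftRight R A t).rTensor B x ∈ I := by
  induction t using TensorProduct.induction_on with
  | zero => simpa using I.zero_mem
  | add t t' h h' =>
    rw [map_add, LinearMap.rTensor_add]; exact I.add_mem h h'
  | tmul c d =>
    suffices (AlgHom.mulLeftRight R A (c ⊗ₜ d)).rTensor B x =
        (c ⊗ₜ[R] (1 : B)) * x * (d.unop ⊗ₜ[R] (1 : B)) by
      rw [this]; exact I.mul_mem_right _ _ (I.mul_mem_left _ _ hx)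
    clear hx
    induction x using TensorProduct.induction_on with
    | zero => simp
    | tmul a b => simp
    | add x y hx hy => simp only [map_add, hx, hy, mul_add, add_mul]

theorem one_tmul_coeff_mem [IsAzumaya R A] {I : TwoSidedIdeal (A ⊗[R] B)} (f : Module.Dual R A)
    {x : A ⊗[R] B} (hx : x ∈ I) : (1 : A) ⊗ₜ[R] coeffMap R A B f x ∈ I := by
  obtain ⟨t, ht⟩ := exists_mulLeftRight_eq R A f
  have h := sum_mulLeftRight_smul_mem R A B t hx
  suffices (1 : A) ⊗ₜ[R] coeffMap R A B f x = (AlgHom.mulLeftRight R A t).rTensor B x by rwa [this]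
  clear hx h
  induction x using TensorProduct.induction_on with
  | zero => simp
  | tmul a b => simp [ht, smul_tmul]
  | add x y hx hy => simp only [map_add, tmul_add, hx, hy]

/-- `includeRight` is injective for an Azumaya algebra on the left -/
theorem includeRight_injective [IsAzumaya R A] :
    Function.Injective (fun b : B => (1 : A) ⊗ₜ[R] b) := by
  obtain ⟨g, hg⟩ := exists_dual_one_eq_one R A
  intro b b' h
  simpa [hg] using congrArg (coeffMap R A B g) h

/-- central elements of an Azumaya algebra are scalars -/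
theorem exists_eq_algebraMap_of_central [IsAzumaya R A] {c : A} (hc : ∀ a, a * c = c * a) :
    ∃ r : R, algebraMap R A r = c := by
  obtain ⟨g, hg⟩ := exists_dual_one_eq_one R A
  have h1 : c ⊗ₜ[R] MulOpposite.op (1 : A) = (1 : A) ⊗ₜ[R] MulOpposite.op c := by
    apply (IsAzumaya.bij (R := R) (A := A)).1
    ext x
    simp [hc x]
  refine ⟨g c, ?_⟩
  have h2 := congrArg (TensorProduct.lift
    ((LinearMap.lsmul R A).comp g |>.compl₂ (MulOpposite.opLinearEquiv R (M := A)).symm.toLinearMap)) h1
  simpa [hg, Algebra.algebraMap_eq_smul_one] using h2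

theorem isCentral [IsAzumaya R A] : Algebra.IsCentral R A :=
  ⟨fun c hc => by
    obtain ⟨r, hr⟩ := exists_eq_algebraMap_of_central R A
      (fun a => Subalgebra.mem_center_iff.1 hc a)
    exact ⟨r, hr⟩⟩

theorem exists_eq_one_tmul_of_central [IsAzumaya R A] {x : A ⊗[R] B}
    (hx : ∀ y, y * x = x * y) : ∃ b : B, (∀ b', b' * b = b * b') ∧ (1 : A) ⊗ₜ[R] b = x := by
  obtain ⟨g, hg⟩ := exists_dual_one_eq_one R A
  have key : ∀ f : Module.Dual R A, (1 : A) ⊗ₜ[R] coeffMap R A B f x = f 1 • x := by
    intro f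
    obtain ⟨t, ht⟩ := exists_mulLeftRight_eq R A f
    have h1 : (1 : A) ⊗ₜ[R] coeffMap R A B f x = (AlgHom.mulLeftRight R A t).rTensor B x := by
      clear hx
      induction x using TensorProduct.induction_on with
      | zero => simp
      | tmul a b => simp [ht, smul_tmul]
      | add x y hx hy => simp only [map_add, tmul_add, hx, hy]
    have h2 : ∀ u : A ⊗[R] Aᵐᵒᵖ, (AlgHom.mulLeftRight R A u).rTensor B x =
        ((AlgHom.mulLeftRight R A u 1) ⊗ₜ[R] (1 : B)) * x := by
      intro u
      induction u using TensorProduct.induction_on with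
      | zero => simp
      | add t t' h h' =>
        simp only [map_add, LinearMap.rTensor_add, LinearMap.add_apply, add_tmul, add_mul, h, h']
      | tmul c d =>
        have e0 : ∀ z : A ⊗[R] B, (AlgHom.mulLeftRight R A (c ⊗ₜ d)).rTensor B z =
            (c ⊗ₜ[R] (1 : B)) * z * (d.unop ⊗ₜ[R] (1 : B)) := fun z => by
          induction z using TensorProduct.induction_on with
          | zero => simp
          | tmul a b => simp
          | add x y hx hy => simp only [map_add, hx, hy, mul_add, add_mul]
        rw [e0, mul_assoc, ← hx, ← mul_assoc]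
        simp
    rw [h1, h2 t, ht]
    simp [← smul_tmul', ← Algebra.TensorProduct.one_def]
  refine ⟨coeffMap R A B g x, fun b' => ?_, by rw [key, hg, one_smul]⟩
  apply includeRight_injective R A B
  have e : x = (1 : A) ⊗ₜ[R] coeffMap R A B g x := by rw [key, hg, one_smul]
  have := hx ((1 : A) ⊗ₜ[R] b')
  generalize coeffMap R A B g x = b at e
  subst e
  simpa using this

theorem isCentral_tensor [IsAzumaya R A] [Algebra.IsCentral R B] :
    Algebra.IsCentral R (A ⊗[R] B) :=
  ⟨fun x hx => by
    obtain ⟨b, hb, rfl⟩ :=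
      exists_eq_one_tmul_of_central R A B (fun y => Subalgebra.mem_center_iff.1 hx y)
    obtain ⟨r, hr⟩ := Algebra.IsCentral.out (K := R) (D := B) (Subalgebra.mem_center_iff.2 hb)
    refine ⟨r, ?_⟩
    change algebraMap R B r = b at hr
    simp [← hr, Algebra.algebraMap_eq_smul_one, Algebra.TensorProduct.one_def, smul_tmul]⟩

theorem twoSidedIdeal_eq_bot_or_top [IsAzumaya R A] [IsSimpleRing B]
    (I : TwoSidedIdeal (A ⊗[R] B)) : I = ⊥ ∨ I = ⊤ := by
  let J : TwoSidedIdeal B :=
    I.comap (Algebra.TensorProduct.includeRight : B →ₐ[R] A ⊗[R] B)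
  have hJ : ∀ b, b ∈ J ↔ (1 : A) ⊗ₜ[R] b ∈ I := fun b => TwoSidedIdeal.mem_comap _
  rcases eq_bot_or_eq_top J with h | h
  · left
    refine eq_bot_iff.2 fun x hx => ?_
    obtain ⟨n, e, f, hef⟩ := exists_dual_basis R A
    have h0 : ∀ i, coeffMap R A B (f i) x = 0 := fun i => by
      have := (hJ _).2 (one_tmul_coeff_mem R A B (f i) hx)
      rw [h] at this
      simpa using this
    have := coeff_expansion R A B e f hef x
    simp only [h0, tmul_zero, Finset.sum_const_zero] at this
    simp [← this]
  · right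
    have h1 : (1 : A) ⊗ₜ[R] (1 : B) ∈ I := (hJ 1).1 (by rw [h]; trivial)
    exact TwoSidedIdeal.eq_top _ (by rwa [← Algebra.TensorProduct.one_def] at h1)

theorem nontrivial_tensor [IsAzumaya R A] [Nontrivial B] : Nontrivial (A ⊗[R] B) :=
  (includeRight_injective R A B).nontrivial

theorem isSimpleRing_tensor [IsAzumaya R A] [IsSimpleRing B] : IsSimpleRing (A ⊗[R] B) :=
  have := nontrivial_tensor R A B
  .of_eq_bot_or_eq_top (twoSidedIdeal_eq_bot_or_top R A B)

theorem isSimpleRing_tensor' [IsAzumaya R A] [IsSimpleRing B] : IsSimpleRing (B ⊗[R] A) :=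
  have := isSimpleRing_tensor R A B
  .of_ringEquiv (Algebra.TensorProduct.comm R A B).toRingEquiv this

end Groth.Agent.CSA
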