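import Mathlib

/-!
# Commutators in `GL_n` of a field and separability of characteristic polynomials
-/

set_option autoImplicit false

open Matrix
open Polynomial hiding smul_pow

namespace Groth.Agent.CSA

universe w

variable {L : Type w} [Field L] {n : ℕ}

section Gram

/-- Gram matrix of the powers for the trace form -/
def gram {R : Type*} [CommRing R] (M : Matrix (Fin n) (Fin n) R) : Matrix (Fin n) (Fin n) R :=
  Matrix.of fun i j => Matrix.trace (M ^ ((i : ℕ) + (j : ℕ)))

theorem gram_map {R : Type*} [CommRing R] {S : Type*} [CommRing S] (f : R →+* S)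
    (M : Matrix (Fin n) (Fin n) R) : gram (M.map f) = (gram M).map f := by
  ext i j
  show Matrix.trace ((f.mapMatrix M) ^ _) = f (Matrix.trace (M ^ _))
  rw [← map_pow, RingHom.mapMatrix_apply]
  exact (AddMonoidHom.map_trace f.toAddMonoidHom _).symm

theorem det_gram_smul {R : Type*} [CommRing R] (c : R) (M : Matrix (Fin n) (Fin n) R) :
    (gram (c • M)).det = (∏ i : Fin n, c ^ (i : ℕ)) * (gram M).det * ∏ i : Fin n, c ^ (i : ℕ) := by
  have : gram (c • M) = Matrix.diagonal (fun i : Fin n => c ^ (i : ℕ)) * gram M *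
      Matrix.diagonal (fun i : Fin n => c ^ (i : ℕ)) := by
    ext i j
    simp only [gram, Matrix.diagonal_mul, Matrix.mul_diagonal, Matrix.of_apply]
    rw [_root_.smul_pow, Matrix.trace_smul, smul_eq_mul, pow_add]
    ring
  rw [this, Matrix.det_mul, Matrix.det_mul, Matrix.det_diagonal]

theorem det_gram_diagonal_ne_zero (e : Fin n → L) (he : Function.Injective e) :
    (gram (Matrix.diagonal e)).det ≠ 0 := by
  have : gram (Matrix.diagonal e) = (Matrix.vandermonde e)ᵀ * Matrix.vandermonde e := by
    ext i j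
    simp [gram, Matrix.diagonal_pow, Matrix.trace_diagonal, Matrix.mul_apply, Matrix.vandermonde,
      pow_add]
  rw [this, Matrix.det_mul, Matrix.det_transpose]
  have h : (Matrix.vandermonde e).det ≠ 0 := fun h => by
    obtain ⟨i, j, hij, hne⟩ := Matrix.det_vandermonde_eq_zero_iff.1 h
    exact hne (he hij)
  exact mul_ne_zero h h

theorem separable_charpoly_of_gram [PerfectField L] (M : Matrix (Fin n) (Fin n) L)
    (h : (gram M).det ≠ 0) : M.charpoly.Separable := by
  classical
  have hint : IsIntegral L M := ⟨M.charpoly, M.charpoly_monic, M.aeval_self_charpoly⟩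
  set q := minpoly L M
  have hkill : ∀ z : L[X], z.natDegree < n →
      (∀ j : Fin n, Matrix.trace (M ^ (j : ℕ) * aeval M z) = 0) → z = 0 := by
    intro z hz htr
    have hv : (fun i : Fin n => z.coeff i) = 0 := by
      refine Matrix.eq_zero_of_mulVec_eq_zero h (funext fun j => ?_)
      refine Eq.trans ?_ (htr j)
      rw [aeval_eq_sum_range' hz, Finset.mul_sum, Matrix.trace_sum, Finset.sum_range]
      simp only [Matrix.mulVec, dotProduct, gram, Matrix.of_apply, mul_smul_comm, ← pow_add,
        Matrix.trace_smul, smul_eq_mul]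
      exact Finset.sum_congr rfl fun i _ => mul_comm _ _
    ext i
    by_cases hi : i < n
    · exact congrFun hv ⟨i, hi⟩
    · rw [coeff_eq_zero_of_natDegree_lt (by omega), coeff_zero]
  have hqdvd : q ∣ M.charpoly := minpoly.dvd _ _ M.aeval_self_charpoly
  have hdeg : q.natDegree = n := by
    have h1 : q.natDegree ≤ n := by
      have := natDegree_le_of_dvd hqdvd M.charpoly_monic.ne_zero
      rwa [Matrix.charpoly_natDegree_eq_dim, Fintype.card_fin] at this
    by_contra hne
    exact (minpoly.monic hint).ne_zero (hkill q (lt_of_le_of_ne h1 hne)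
      (fun j => by rw [minpoly.aeval, mul_zero, Matrix.trace_zero]))
  have hq : q = M.charpoly :=
    eq_of_monic_of_dvd_of_natDegree_le (minpoly.monic hint) M.charpoly_monic hqdvd
      (by rw [hdeg, Matrix.charpoly_natDegree_eq_dim, Fintype.card_fin]) |>.symm
  rw [← hq, PerfectField.separable_iff_squarefree]
  intro a ha
  by_contra hu
  obtain ⟨r, hr⟩ := ha
  have ha0 : a ≠ 0 := fun h0 => (minpoly.monic hint).ne_zero (show q = 0 by rw [hr, h0]; ring)
  have hr0 : r ≠ 0 := fun h0 => (minpoly.monic hint).ne_zero (show q = 0 by rw [hr, h0]; ring)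
  have hpos : 0 < a.natDegree := Polynomial.natDegree_pos_iff_degree_pos.2
    (Polynomial.degree_pos_of_ne_zero_of_nonunit ha0 hu)
  have hlt : (a * r).natDegree < n := by
    rw [← hdeg, hr, natDegree_mul ha0 hr0, natDegree_mul (mul_ne_zero ha0 ha0) hr0,
      natDegree_mul ha0 ha0]
    omega
  refine mul_ne_zero ha0 hr0 (hkill _ hlt fun j => ?_)
  refine (Matrix.isNilpotent_trace_of_isNilpotent ?_).eq_zero
  refine Commute.isNilpotent_mul_left ?_ ⟨2, ?_⟩
  · have : M ^ (j : ℕ) = aeval M (X ^ (j : ℕ) : L[X]) := by simp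
    rw [this]
    exact (Commute.all _ _).map (aeval M)
  · rw [← map_pow, show (a * r) ^ 2 = q * r by rw [hr]; ring, map_mul, minpoly.aeval, zero_mul]

end Gram

section GLn

/-- the diagonal embedding -/
def diagGL : (Fin n → Lˣ) →* (Matrix (Fin n) (Fin n) L)ˣ :=
  (Units.map (Matrix.diagonalRingHom (Fin n) L).toMonoidHom).comp MulEquiv.piUnits.symm.toMonoidHom

theorem diagGL_val (f : Fin n → Lˣ) :
    (diagGL f : Matrix (Fin n) (Fin n) L) = Matrix.diagonal fun i => (f i : L) := rfl

/-- elementary matrices as units -/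
def transGL (i j : Fin n) (h : i ≠ j) (c : L) : (Matrix (Fin n) (Fin n) L)ˣ :=
  ⟨Matrix.transvection i j c, Matrix.transvection i j (-c),
    by rw [Matrix.transvection_mul_transvection_same _ _ h, add_neg_cancel, Matrix.transvection_zero],
    by rw [Matrix.transvection_mul_transvection_same _ _ h, neg_add_cancel, Matrix.transvection_zero]⟩

theorem of_transGL [Infinite L] (i j : Fin n) (h : i ≠ j) (c : L) :
    Abelianization.of (transGL i j h c) = 1 := by
  classical
  obtain ⟨t, ht⟩ := Infinite.exists_notMem_finset ({0, 1} : Finset L)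
  simp only [Finset.mem_insert, Finset.mem_singleton, not_or] at ht
  let d := diagGL (Pi.mulSingle i (Units.mk0 t ht.1))
  have key : d * transGL i j h (c / (t - 1)) =
      transGL i j h c * (transGL i j h (c / (t - 1)) * d) := by
    rw [← mul_assoc]
    apply Units.ext
    have h1 : t - 1 ≠ 0 := sub_ne_zero.2 ht.2
    show Matrix.diagonal (fun a => ((Pi.mulSingle i (Units.mk0 t ht.1) : Fin n → Lˣ) a : L)) *
        Matrix.transvection i j (c / (t - 1)) =
      Matrix.transvection i j c * Matrix.transvection i j (c / (t - 1)) *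
        Matrix.diagonal (fun a => ((Pi.mulSingle i (Units.mk0 t ht.1) : Fin n → Lˣ) a : L))
    rw [Matrix.transvection_mul_transvection_same _ _ h]
    ext a b
    simp only [Matrix.diagonal_mul, Matrix.mul_diagonal, Matrix.transvection, Matrix.add_apply]
    by_cases hab : a = b
    · subst hab
      have : ¬ (i = a ∧ j = a) := fun ⟨x, y⟩ => h (x.trans y.symm)
      simp [Matrix.single_apply, this]
    · by_cases hij : i = a ∧ j = b
      · obtain ⟨rfl, rfl⟩ := hij
        simp [Matrix.single_apply, hab, Ne.symm h]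
        field_simp
        ring
      · simp [Matrix.single_apply, hab, hij]
  have h2 := congrArg Abelianization.of key
  rw [map_mul, map_mul, map_mul, mul_comm (Abelianization.of d)] at h2
  exact mul_eq_right.1 h2.symm

theorem of_diagGL_single (i j : Fin n) (t : Lˣ) :
    Abelianization.of (diagGL (Pi.mulSingle i t)) = Abelianization.of (diagGL (Pi.mulSingle j t)) := by
  let P : (Matrix (Fin n) (Fin n) L)ˣ :=
    ⟨(Equiv.swap i j).toPEquiv.toMatrix, (Equiv.swap i j).toPEquiv.toMatrix,
      by rw [← PEquiv.toMatrix_trans, ← Equiv.toPEquiv_trans]; simp [PEquiv.toMatrix_refl],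
      by rw [← PEquiv.toMatrix_trans, ← Equiv.toPEquiv_trans]; simp [PEquiv.toMatrix_refl]⟩
  have key : P * diagGL (Pi.mulSingle j t) = diagGL (Pi.mulSingle i t) * P := by
    apply Units.ext
    show (Equiv.swap i j).toPEquiv.toMatrix *
        Matrix.diagonal (fun a => ((Pi.mulSingle j t : Fin n → Lˣ) a : L)) =
      Matrix.diagonal (fun a => ((Pi.mulSingle i t : Fin n → Lˣ) a : L)) *
        (Equiv.swap i j).toPEquiv.toMatrix
    ext a b
    rw [Matrix.mul_diagonal, Matrix.diagonal_mul]
    by_cases hb : Equiv.swap i j a = b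
    · subst hb
      have h3 : (Pi.mulSingle j t : Fin n → Lˣ) (Equiv.swap i j a) =
          (Pi.mulSingle i t : Fin n → Lˣ) a := by
        rcases eq_or_ne a i with rfl | hai
        · simp
        rw [Pi.mulSingle_eq_of_ne hai, Pi.mulSingle_eq_of_ne]
        intro he
        exact hai ((Equiv.swap i j).injective (he.trans (Equiv.swap_apply_left i j).symm))
      rw [h3, mul_comm]
    · simp [PEquiv.toMatrix_apply, Equiv.toPEquiv, hb]
  have h2 := congrArg Abelianization.of key
  rw [map_mul, map_mul, mul_comm] at h2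
  exact (mul_right_cancel h2).symm

theorem of_diagGL (i₀ : Fin n) (f : Fin n → Lˣ) :
    Abelianization.of (diagGL f) = Abelianization.of (diagGL (Pi.mulSingle i₀ (∏ i, f i))) := by
  conv_lhs => rw [← Finset.univ_prod_mulSingle f]
  have hP : Pi.mulSingle i₀ (∏ i, f i) = ∏ i, (Pi.mulSingle i₀ (f i) : Fin n → Lˣ) :=
    map_prod (MonoidHom.mulSingle (fun _ : Fin n => Lˣ) i₀) f Finset.univ
  rw [hP]
  show (Abelianization.of.comp diagGL) _ = (Abelianization.of.comp diagGL) _
  rw [map_prod, map_prod]
  exact Finset.prod_congr rfl fun i _ => of_diagGL_single i i₀ (f i)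

theorem exists_commutator_gram [IsAlgClosed L] (hn : 0 < n) (g : (Matrix (Fin n) (Fin n) L)ˣ) :
    ∃ S ∈ commutator ((Matrix (Fin n) (Fin n) L)ˣ),
      (gram ((g * S : (Matrix (Fin n) (Fin n) L)ˣ) : Matrix (Fin n) (Fin n) L)).det ≠ 0 := by
  classical
  obtain ⟨l, l', δ, hg⟩ :=
    Matrix.Pivot.exists_list_transvec_mul_diagonal_mul_list_transvec (g : Matrix (Fin n) (Fin n) L)
  have hT : ∀ l : List (Matrix.TransvectionStruct (Fin n) L),
      ∃ u : (Matrix (Fin n) (Fin n) L)ˣ, (u : Matrix (Fin n) (Fin n) L) =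
        (l.map Matrix.TransvectionStruct.toMatrix).prod ∧ Abelianization.of u = 1 := by
    intro l
    induction l with
    | nil => exact ⟨1, by simp, map_one _⟩
    | cons t l ih =>
      obtain ⟨u, hu, hu1⟩ := ih
      exact ⟨transGL t.i t.j t.hij t.c * u, by simp [hu, transGL, Matrix.TransvectionStruct.toMatrix],
        by rw [map_mul, of_transGL, hu1, one_mul]⟩
  obtain ⟨u, hu, hu1⟩ := hT l
  obtain ⟨u', hu', hu1'⟩ := hT l'
  have hδ : ∀ i, δ i ≠ 0 := by
    intro i hi
    have h0 : (g : Matrix (Fin n) (Fin n) L).det = 0 := by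
      rw [hg, Matrix.det_mul, Matrix.det_mul, Matrix.det_diagonal,
        Finset.prod_eq_zero (Finset.mem_univ i) hi]
      simp
    exact ((Matrix.isUnit_iff_isUnit_det _).1 g.isUnit).ne_zero h0
  let δu : Fin n → Lˣ := fun i => Units.mk0 (δ i) (hδ i)
  have hgu : g = u * diagGL δu * u' := by
    apply Units.ext
    rw [Units.val_mul, Units.val_mul, hu, hu', diagGL_val, hg]
    rfl
  let c : L := ((∏ i, δu i : Lˣ) : L)
  let b : L := if (n : L) = 0 then 1 else 0
  let q : L[X] := X ^ n + (C b * X + C ((-1) ^ n * c))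
  have hn2 : b ≠ 0 → 2 ≤ n := fun hb => by
    by_contra h
    have : n = 1 := by omega
    subst this
    simp [b] at hb
  have hdeg0 : (C b * X + C ((-1) ^ n * c) : L[X]).degree < n := by
    refine lt_of_le_of_lt (degree_add_le _ _) (max_lt ?_ (lt_of_le_of_lt degree_C_le (by exact_mod_cast hn)))
    by_cases hb : b = 0
    · simp [hb]
    · rw [degree_C_mul_X hb]
      exact_mod_cast hn2 hb
  have hqm : q.Monic := monic_X_pow_add hdeg0
  have hqn : q.natDegree = n := by
    rw [natDegree_eq_of_degree_eq_some]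
    rw [degree_add_eq_left_of_degree_lt] <;> simp only [degree_X_pow]
    exact hdeg0
  have hq0 : q.coeff 0 = (-1) ^ n * c := by
    simp only [q, coeff_add, coeff_C_mul, coeff_X_zero, coeff_C_zero, coeff_X_pow, if_neg hn.ne,
      mul_zero, zero_add]
  have hc : c ≠ 0 := Units.ne_zero _
  have hroots : Multiset.card q.roots = n := hqn ▸ IsAlgClosed.card_roots_eq_natDegree
  have hnodup : q.roots.Nodup := by
    refine Polynomial.nodup_roots ?_
    by_cases hnL : (n : L) = 0
    · rw [separable_def, show derivative q = 1 by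
        simp only [q, b, if_pos hnL, derivative_add, derivative_X_pow, derivative_C, hnL, map_zero,
          zero_mul, zero_add, add_zero, map_one, one_mul, derivative_X]]
      exact isCoprime_one_right
    · rw [show q = X ^ n - C (-((-1) ^ n * c)) by simp [q, b, hnL]]
      exact separable_X_pow_sub_C _ hnL
        (neg_ne_zero.2 (mul_ne_zero (pow_ne_zero _ (neg_ne_zero.2 one_ne_zero)) hc))
  obtain ⟨e, he⟩ : ∃ e : Fin n → L, Multiset.map e Finset.univ.val = q.roots := by
    refine ⟨fun i => q.roots.toList.get (Fin.cast (by simp [hroots]) i), ?_⟩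
    conv_rhs => rw [← Multiset.coe_toList q.roots, ← List.ofFn_get q.roots.toList]
    rw [Fin.univ_val_map]
    congr 1
    exact List.ofFn_congr (by simp [hroots]) _ |>.symm
  have hinj : Function.Injective e := by
    intro i j hij
    exact Multiset.inj_on_of_nodup_map (he ▸ hnodup) i (Finset.mem_univ_val i) j (Finset.mem_univ_val j) hij
  have hprod : ∏ i, e i = c := by
    have h1 := Polynomial.Splits.coeff_zero_eq_prod_roots_of_monic (IsAlgClosed.splits q) hqm
    rw [hqn, hq0, ← he] at h1
    exact (mul_left_cancel₀ (pow_ne_zero _ (neg_ne_zero.2 one_ne_zero)) h1).symm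
  have he0 : ∀ i, e i ≠ 0 := fun i hi => hc (hprod ▸ Finset.prod_eq_zero (Finset.mem_univ i) hi)
  let eu : Fin n → Lˣ := fun i => Units.mk0 (e i) (he0 i)
  refine ⟨g⁻¹ * diagGL eu, ?_, ?_⟩
  · rw [← Abelianization.ker_of, MonoidHom.mem_ker, map_mul, map_inv, hgu, map_mul, map_mul, hu1,
      hu1', one_mul, mul_one, of_diagGL ⟨0, hn⟩, of_diagGL ⟨0, hn⟩ eu,
      show ∏ i, eu i = ∏ i, δu i from Units.ext (by
        rw [Units.coe_prod]; exact hprod), inv_mul_cancel]
  · rw [mul_inv_cancel_left, diagGL_val]
    exact det_gram_diagonal_ne_zero e hinj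

end GLn

end Groth.Agent.CSA
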