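import Groth.Agent.CSA.NormRange
import Groth.Agent.CSA.Commutator

/-!
# Every reduced norm of a division algebra is the reduced norm of a separable element
-/

set_option autoImplicit false

open TensorProduct Module Matrix
open scoped commutatorElement

namespace Groth.Agent.CSA

universe u v w

section Poly

variable {L : Type w} [Field L] {n : ℕ}

/-- evaluation of a polynomial function on matrices -/
noncomputable def ev (P : MvPolynomial (Fin n × Fin n) L) (M : Matrix (Fin n) (Fin n) L) : L :=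
  MvPolynomial.aeval (fun p : Fin n × Fin n => M p.1 p.2) P

/-- vanishing locus stable under scalars -/
def ScaleInv (P : MvPolynomial (Fin n × Fin n) L) : Prop :=
  ∀ (c : L) (M : Matrix (Fin n) (Fin n) L), c ≠ 0 → (ev P (c • M) = 0 ↔ ev P M = 0)

/-- left translate -/
noncomputable def leftT (U : Matrix (Fin n) (Fin n) L) (P : MvPolynomial (Fin n × Fin n) L) :
    MvPolynomial (Fin n × Fin n) L :=
  MvPolynomial.aeval
    (fun p : Fin n × Fin n => (U.map MvPolynomial.C * Matrix.mvPolynomialX (Fin n) (Fin n) L :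
      Matrix (Fin n) (Fin n) (MvPolynomial (Fin n × Fin n) L)) p.1 p.2) P

/-- right translate -/
noncomputable def rightT (U : Matrix (Fin n) (Fin n) L) (P : MvPolynomial (Fin n × Fin n) L) :
    MvPolynomial (Fin n × Fin n) L :=
  MvPolynomial.aeval
    (fun p : Fin n × Fin n => (Matrix.mvPolynomialX (Fin n) (Fin n) L * U.map MvPolynomial.C :
      Matrix (Fin n) (Fin n) (MvPolynomial (Fin n × Fin n) L)) p.1 p.2) P

theorem ev_leftT (U : Matrix (Fin n) (Fin n) L) (P : MvPolynomial (Fin n × Fin n) L)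
    (M : Matrix (Fin n) (Fin n) L) : ev (leftT U P) M = ev P (U * M) := by
  show MvPolynomial.aeval _ (MvPolynomial.aeval _ P) = MvPolynomial.aeval _ P
  rw [← AlgHom.comp_apply, MvPolynomial.comp_aeval]
  congr 2
  funext p
  simp [Matrix.mul_apply]

theorem ev_rightT (U : Matrix (Fin n) (Fin n) L) (P : MvPolynomial (Fin n × Fin n) L)
    (M : Matrix (Fin n) (Fin n) L) : ev (rightT U P) M = ev P (M * U) := by
  show MvPolynomial.aeval _ (MvPolynomial.aeval _ P) = MvPolynomial.aeval _ P
  rw [← AlgHom.comp_apply, MvPolynomial.comp_aeval]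
  congr 2
  funext p
  simp [Matrix.mul_apply]

theorem ScaleInv.leftT {P : MvPolynomial (Fin n × Fin n) L} (h : ScaleInv P)
    (U : Matrix (Fin n) (Fin n) L) : ScaleInv (leftT U P) := fun c M hc => by
  rw [ev_leftT, ev_leftT, Matrix.mul_smul, h c _ hc]

theorem ScaleInv.rightT {P : MvPolynomial (Fin n × Fin n) L} (h : ScaleInv P)
    (U : Matrix (Fin n) (Fin n) L) : ScaleInv (rightT U P) := fun c M hc => by
  rw [ev_rightT, ev_rightT, Matrix.smul_mul, h c _ hc]

/-- the Gram determinant as a polynomial -/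
noncomputable def gramPoly : MvPolynomial (Fin n × Fin n) L :=
  (gram (Matrix.mvPolynomialX (Fin n) (Fin n) L)).det

theorem ev_gramPoly (M : Matrix (Fin n) (Fin n) L) : ev gramPoly M = (gram M).det := by
  have h : (Matrix.mvPolynomialX (Fin n) (Fin n) L).map
      (MvPolynomial.aeval (R := L) (fun p : Fin n × Fin n => M p.1 p.2)).toRingHom = M := by
    ext i j
    simp
  show (MvPolynomial.aeval (R := L) (fun p : Fin n × Fin n => M p.1 p.2)).toRingHom gramPoly = _
  rw [gramPoly, RingHom.map_det, RingHom.mapMatrix_apply, ← gram_map, h]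

theorem scaleInv_gramPoly : ScaleInv (gramPoly : MvPolynomial (Fin n × Fin n) L) := fun c M hc => by
  have h : (∏ i : Fin n, c ^ (i : ℕ)) ≠ 0 := Finset.prod_ne_zero_iff.2 fun i _ => pow_ne_zero _ hc
  rw [ev_gramPoly, ev_gramPoly, det_gram_smul]
  simp [h]

end Poly

section Dense

variable {k : Type u} [Field k] [Infinite k] {D : Type v} [DivisionRing D] [Algebra k D]
  [Algebra.IsCentral k D] [FiniteDimensional k D] {L : Type w} [Field L] [Algebra k L] {n : ℕ}
  (ψ : D →ₐ[k] Matrix (Fin n) (Fin n) L) (hn : finrank k D = n ^ 2)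

include hn in
/-- commutators of `D` are dense in commutators of `GL_n` -/
theorem ev_eq_zero_of_mem_commutatorSet (P : MvPolynomial (Fin n × Fin n) L) (hP : ScaleInv P)
    (hv : ∀ u ∈ commutator Dˣ, ev P (ψ (u : D)) = 0) (X Y : (Matrix (Fin n) (Fin n) L)ˣ) :
    ev P (⁅X, Y⁆ : (Matrix (Fin n) (Fin n) L)ˣ) = 0 := by
  classical
  obtain ⟨φ, hφ⟩ := exists_split_extension k D hn ψ
  let N := finrank k D
  let b := Module.finBasis k D
  let B : Basis (Fin N) L (Matrix (Fin n) (Fin n) L) :=
    (Algebra.TensorProduct.basis L b).map φ.toLinearEquiv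
  have hB : ∀ i, B i = ψ (b i) := fun i => by
    simp [B, Algebra.TensorProduct.basis_apply, hφ]
  let gen : (Fin N → Fin N ⊕ Fin N) → Matrix (Fin n) (Fin n) (MvPolynomial (Fin N ⊕ Fin N) L) :=
    fun s => ∑ i, (MvPolynomial.X (R := L) (s i)) • (B i).map MvPolynomial.C
  let GA := gen Sum.inl
  let GB := gen Sum.inr
  let Q : MvPolynomial (Fin N ⊕ Fin N) L :=
    MvPolynomial.aeval (fun p : Fin n × Fin n => (GA * GB * GA.adjugate * GB.adjugate) p.1 p.2) P *
      GA.det * GB.det
  let At : (Fin N ⊕ Fin N → L) → (Fin N → Fin N ⊕ Fin N) → Matrix (Fin n) (Fin n) L :=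
    fun z s => ∑ i, z (s i) • B i
  have hgen : ∀ z s, (gen s).map (MvPolynomial.aeval (R := L) z).toRingHom = At z s := by
    intro z s
    ext a c
    simp [gen, At, Matrix.sum_apply, map_sum]
  have hQ : ∀ z, MvPolynomial.eval z Q =
      ev P (At z Sum.inl * At z Sum.inr * (At z Sum.inl).adjugate * (At z Sum.inr).adjugate) *
        (At z Sum.inl).det * (At z Sum.inr).det := by
    intro z
    show (MvPolynomial.aeval (R := L) z).toRingHom Q = _
    simp only [Q, map_mul, RingHom.map_det, RingHom.mapMatrix_apply, GA, GB, hgen]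
    congr 2
    show MvPolynomial.aeval z (MvPolynomial.aeval _ P) = _
    rw [← AlgHom.comp_apply, MvPolynomial.comp_aeval]
    have h : (gen Sum.inl * gen Sum.inr * (gen Sum.inl).adjugate * (gen Sum.inr).adjugate).map
        (MvPolynomial.aeval (R := L) z).toRingHom =
        At z Sum.inl * At z Sum.inr * (At z Sum.inl).adjugate * (At z Sum.inr).adjugate := by
      rw [← hgen z Sum.inl, ← hgen z Sum.inr, ← RingHom.mapMatrix_apply, map_mul, map_mul, map_mul,
        RingHom.map_adjugate, RingHom.map_adjugate]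
      rfl
    rw [← h]
    rfl
  have hQ0 : Q = 0 := by
    refine MvPolynomial.funext_set (fun _ => Set.range (algebraMap k L))
      (fun _ => Set.infinite_range_of_injective (algebraMap k L).injective) fun z hz => ?_
    rw [map_zero, hQ]
    choose c hc using fun i => hz i (Set.mem_univ i)
    have hAt : ∀ s, At z s = ψ (∑ i, c (s i) • b i) := fun s => by
      simp only [At, map_sum, map_smul, hB, ← hc, algebraMap_smul]
    by_cases hA : (At z Sum.inl).det = 0
    · simp [hA]
    by_cases hA' : (At z Sum.inr).det = 0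
    · simp [hA']
    refine mul_eq_zero_of_left (mul_eq_zero_of_left ?_ _) _
    have hn0 : Nonempty (Fin n) := ⟨⟨0, Nat.pos_of_ne_zero fun h => by
      subst h; exact Module.finrank_pos.ne' hn⟩⟩
    have hu : ∀ s, (At z s).det ≠ 0 → ∃ x : Dˣ, ψ (x : D) = At z s ∧
        (At z s).adjugate = (At z s).det • ψ ((x⁻¹ : Dˣ) : D) := fun s hs => by
      have hne : (∑ i, c (s i) • b i) ≠ 0 := fun h => hs (by
        rw [hAt, h, map_zero, Matrix.det_zero])
      refine ⟨Units.mk0 _ hne, (hAt s).symm, ?_⟩
      calc (At z s).adjugate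
          = (At z s).adjugate * (At z s * ψ (∑ i, c (s i) • b i)⁻¹) := by
            rw [hAt, ← map_mul, mul_inv_cancel₀ hne, map_one, mul_one]
        _ = _ := by
            rw [← mul_assoc, Matrix.adjugate_mul, Matrix.smul_mul, one_mul]
            rfl
    obtain ⟨x, hx, hx'⟩ := hu _ hA
    obtain ⟨y, hy, hy'⟩ := hu _ hA'
    rw [hx', hy', Matrix.mul_smul, Matrix.mul_smul, Matrix.smul_mul, smul_smul, ← hx, ← hy,
      ← map_mul, ← map_mul, ← map_mul, hP _ _ (mul_ne_zero (by rw [hy]; exact hA') (by rw [hx]; exact hA))]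
    exact hv ⁅x, y⁆ (Subgroup.commutator_mem_commutator (Subgroup.mem_top _) (Subgroup.mem_top _))
  let z : Fin N ⊕ Fin N → L := Sum.elim (B.repr (X : Matrix (Fin n) (Fin n) L))
    (B.repr (Y : Matrix (Fin n) (Fin n) L))
  have h := hQ z
  rw [hQ0, map_zero] at h
  have hX : At z Sum.inl = X := B.sum_repr _
  have hY : At z Sum.inr = Y := B.sum_repr _
  rw [hX, hY] at h
  have hXd : (X : Matrix (Fin n) (Fin n) L).det ≠ 0 :=
    ((Matrix.isUnit_iff_isUnit_det _).1 X.isUnit).ne_zero
  have hYd : (Y : Matrix (Fin n) (Fin n) L).det ≠ 0 :=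
    ((Matrix.isUnit_iff_isUnit_det _).1 Y.isUnit).ne_zero
  have hadj : ∀ U : (Matrix (Fin n) (Fin n) L)ˣ, (U : Matrix (Fin n) (Fin n) L).adjugate =
      (U : Matrix (Fin n) (Fin n) L).det • ((U⁻¹ : _) : Matrix (Fin n) (Fin n) L) := fun U => by
    calc (U : Matrix (Fin n) (Fin n) L).adjugate
        = (U : Matrix (Fin n) (Fin n) L).adjugate * (U * ((U⁻¹ : _) : Matrix (Fin n) (Fin n) L)) := by
          rw [Units.mul_inv, mul_one]
      _ = _ := by rw [← mul_assoc, Matrix.adjugate_mul, Matrix.smul_mul, one_mul]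
  have h' := ((mul_eq_zero.1 h.symm).resolve_right hYd)
  have h'' := (mul_eq_zero.1 h').resolve_right hXd
  rw [hadj X, hadj Y, Matrix.mul_smul, Matrix.mul_smul, Matrix.smul_mul, smul_smul,
    hP _ _ (mul_ne_zero hYd hXd)] at h''
  simpa [commutatorElement_def] using h''

include hn in
theorem ev_eq_zero_of_mem_commutator (S : (Matrix (Fin n) (Fin n) L)ˣ)
    (hS : S ∈ commutator (Matrix (Fin n) (Fin n) L)ˣ) :
    ∀ P : MvPolynomial (Fin n × Fin n) L, ScaleInv P →
      (∀ u ∈ commutator Dˣ, ev P (ψ (u : D)) = 0) → ev P (S : Matrix (Fin n) (Fin n) L) = 0 := by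
  rw [commutator_eq_closure, ← Subgroup.mem_toSubmonoid, Subgroup.closure_toSubmonoid] at hS
  induction hS using Submonoid.closure_induction with
  | mem S hS =>
    intro P hP hv
    rcases hS with ⟨X, Y, rfl⟩ | hS
    · exact ev_eq_zero_of_mem_commutatorSet ψ hn P hP hv X Y
    · obtain ⟨X, Y, h⟩ := Set.mem_inv.1 hS
      rw [show S = ⁅Y, X⁆ by rw [← commutatorElement_inv, h, inv_inv]]
      exact ev_eq_zero_of_mem_commutatorSet ψ hn P hP hv Y X
  | one =>
    intro P _ hv
    simpa using hv 1 (one_mem _)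
  | mul S S' _ _ ihS ihS' =>
    intro P hP hv
    have h : ∀ u ∈ commutator Dˣ, ev P (ψ (u : D) * S') = 0 := fun u hu => by
      rw [← ev_leftT]
      refine ihS' _ (hP.leftT _) fun u' hu' => ?_
      rw [ev_leftT, ← map_mul, ← Units.val_mul]
      exact hv _ (mul_mem hu hu')
    rw [Units.val_mul, ← ev_rightT]
    exact ihS _ (hP.rightT _) fun u hu => by rw [ev_rightT]; exact h u hu

end Dense

section Exists

variable (k : Type u) [Field k] {D : Type v} [DivisionRing D] [Algebra k D]
  [Algebra.IsCentral k D] [FiniteDimensional k D]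

theorem exists_isSeparable_rn_eq {d : D} (hd : d ≠ 0) :
    ∃ s : D, rn k D s = rn k D d ∧ IsSeparable k s := by
  rcases finite_or_infinite k with hk | hk
  · exact ⟨d, rfl, PerfectField.separable_of_irreducible
      (minpoly.irreducible (IsIntegral.of_finite k d))⟩
  let L := AlgebraicClosure k
  let ψ := ((closureSplitting k D).toAlgHom.restrictScalars k).comp
    (Algebra.TensorProduct.includeRight : D →ₐ[k] L ⊗[k] D)
  have hn := finrank_eq_deg_sq k D
  let g : (Matrix (Fin (deg k D)) (Fin (deg k D)) L)ˣ := Units.map ψ.toMonoidHom (Units.mk0 d hd)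
  obtain ⟨S, hS, hgS⟩ := exists_commutator_gram (Nat.pos_of_ne_zero (NeZero.ne _)) g
  by_contra hno
  push Not at hno
  apply hgS
  rw [← ev_gramPoly, Units.val_mul, ← ev_leftT]
  refine ev_eq_zero_of_mem_commutator ψ hn S hS _ (scaleInv_gramPoly.leftT _) fun u hu => ?_
  rw [ev_leftT, show (g : Matrix (Fin (deg k D)) (Fin (deg k D)) L) * ψ (u : D) = ψ (d * u) from
    (map_mul ψ d u).symm, ev_gramPoly]
  by_contra hne
  refine hno (d * u) ?_ ?_
  · rw [map_mul]
    have h1 : Units.map (rn k D : D →* k) u = 1 :=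
      (Abelianization.commutator_subset_ker (Units.map (rn k D : D →* k))) hu
    have h2 : rn k D (u : D) = 1 := congrArg Units.val h1
    rw [h2, mul_one]
  · refine Polynomial.Separable.of_dvd ?_ (minpoly.dvd k _ (aeval_redPoly k D (d * u)))
    rw [← Polynomial.separable_map (algebraMap k L), redPoly_map k D hn ψ]
    exact separable_charpoly_of_gram _ hne

theorem exists_maximal_separable_containing (s : D) (hs : IsSeparable k s) :
    ∃ L : Subalgebra k D, (∀ x ∈ L, ∀ y ∈ L, x * y = y * x) ∧ Algebra.IsSeparable k L ∧ s ∈ L ∧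
      Subalgebra.centralizer k (L : Set D) = L := by
  classical
  let E : Subalgebra k D := Algebra.adjoin k {s}
  have hc : ∀ a ∈ ({s} : Set D), ∀ b ∈ ({s} : Set D), a * b = b * a := by simp
  let _ : CommRing E := Algebra.adjoinCommRingOfComm k hc
  have : IsDomain E := { }
  let _ : Field E := fieldOfFiniteDimensional k E
  have hsx : IsSeparable k (⟨s, Algebra.self_mem_adjoin_singleton k s⟩ : E) := by
    unfold IsSeparable at hs ⊢
    rwa [← minpoly.algHom_eq E.val Subtype.val_injective]
  have hgen : IntermediateField.adjoin k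
      ({⟨s, Algebra.self_mem_adjoin_singleton k s⟩} : Set E) = ⊤ := by
    rw [← IntermediateField.toSubalgebra_injective.eq_iff, IntermediateField.top_toSubalgebra,
      IntermediateField.adjoin_toSubalgebra]
    apply Subalgebra.map_injective (f := E.val) Subtype.val_injective
    rw [AlgHom.map_adjoin, Algebra.map_top, Subalgebra.range_val]
    simp [E]
  have hE : Algebra.IsSeparable k E := by
    have := (IntermediateField.isSeparable_adjoin_simple_iff_isSeparable k E).2 hsx
    rw [hgen] at this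
    exact Algebra.IsSeparable.of_algHom k _ (IntermediateField.topEquiv (F := k) (E := E)).symm.toAlgHom
  let T : Set ℕ := (fun L : Subalgebra k D => finrank k D - finrank k L) ''
    {L | (∀ x ∈ L, ∀ y ∈ L, x * y = y * x) ∧ Algebra.IsSeparable k L ∧ s ∈ L}
  have hne : T.Nonempty := ⟨_, E, ⟨fun x hx y hy =>
    congrArg Subtype.val (mul_comm (⟨x, hx⟩ : E) ⟨y, hy⟩), hE, Algebra.self_mem_adjoin_singleton k s⟩, rfl⟩
  obtain ⟨L, ⟨h1, h2, h3⟩, hL⟩ := WellFounded.min_mem Nat.lt_wfRel.wf T hne
  refine ⟨L, h1, h2, h3, ?_⟩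
  by_contra hne
  obtain ⟨L', h4, h5, h6⟩ := CSACentralizer.exists_larger_separable k D L h1 h2 hne
  refine WellFounded.not_lt_min Nat.lt_wfRel.wf T (x := finrank k D - finrank k L')
    ⟨L', ⟨h4, h5, h6.le h3⟩, rfl⟩ ?_
  rw [← hL]
  have : finrank k L < finrank k L' :=
    Submodule.finrank_lt_finrank_of_lt (s := Subalgebra.toSubmodule L)
      (t := Subalgebra.toSubmodule L') h6
  have : finrank k L' ≤ finrank k D := Subalgebra.toSubmodule L' |>.finrank_le
  show finrank k D - finrank k L' < finrank k D - finrank k L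
  omega

/-- reduced norms are norms from separable maximal subfields -/
theorem exists_splitting_subfield_norm {d : D} (hd : d ≠ 0) :
    ∃ (K : Type v) (_ : Field K) (_ : Algebra k K) (_ : K →ₐ[k] D),
      FiniteDimensional k K ∧ Algebra.IsSeparable k K ∧ res k K (cl k D) = 1 ∧
        ∃ x : K, Algebra.norm k x = rn k D d := by
  obtain ⟨s, hs, hsep⟩ := exists_isSeparable_rn_eq k hd
  obtain ⟨L, hc, hL, hsL, hC⟩ := exists_maximal_separable_containing k s hsep
  letI := fieldOfComm k D L hc
  obtain ⟨h1, h2⟩ := splitting_of_centralizer_eq k D L hc hC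
  refine ⟨L, inferInstance, inferInstance, L.val, inferInstance, hL, h2, ⟨s, hsL⟩, ?_⟩
  rw [← hs]
  show _ = rnFun k D (L.val ⟨s, hsL⟩)
  rw [rnFun, redPoly_subfield k D (finrank_eq_ind_sq k (D := D)) h1 L.val ⟨s, hsL⟩,
    deg_eq k D (finrank_eq_ind_sq k (D := D)), ← h1,
    Algebra.norm_eq_matrix_det (Module.finBasis k L), Matrix.det_eq_sign_charpoly_coeff,
    Fintype.card_fin]

end Exists

end Groth.Agent.CSA
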