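import Groth.Agent.CSA.SplitLocal
import Groth.Agent.CSA.Commutator
import Groth.Agent.CSA.SeparableNorm

/-!
# Etale maximal subalgebras of Azumaya algebras and the splittings they give
-/

set_option autoImplicit false

open TensorProduct Polynomial IsLocalRing

namespace Groth.Agent.CSA

universe u v w

section Field

variable (k : Type u) [Field k]

theorem finrank_adjoin_eq {B : Type v} [Ring B] [Algebra k B] [Module.Finite k B] (x : B) :
    Module.finrank k (Algebra.adjoin k ({x} : Set B)) = (minpoly k x).natDegree := by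
  have hx : IsIntegral k x := IsIntegral.of_finite k x
  have h : Submodule.span k (Set.range fun i : Fin (minpoly k x).natDegree => x ^ (i : ℕ)) =
      Subalgebra.toSubmodule (Algebra.adjoin k ({x} : Set B)) := by
    refine le_antisymm (Submodule.span_le.2 ?_) fun y hy => ?_
    · rintro _ ⟨i, rfl⟩
      exact pow_mem (Algebra.self_mem_adjoin_singleton k x) _
    · rw [Subalgebra.mem_toSubmodule, Algebra.adjoin_singleton_eq_range_aeval] at hy
      obtain ⟨f, rfl⟩ := hy
      have hm := minpoly.monic hx
      change aeval x f ∈ _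
      have hf : aeval x f = aeval x (f %ₘ minpoly k x) := by
        conv_lhs => rw [← modByMonic_add_div f (minpoly k x)]
        simp only [map_add, map_mul, minpoly.aeval, zero_mul, add_zero]
      rw [hf]
      rcases eq_or_ne (f %ₘ minpoly k x) 0 with h0 | h0
      · simp [h0]
      rw [aeval_eq_sum_range]
      refine Submodule.sum_mem _ fun i hi => Submodule.smul_mem _ _ (Submodule.subset_span ?_)
      have hlt : (f %ₘ minpoly k x).natDegree < (minpoly k x).natDegree :=
        natDegree_lt_natDegree h0 (degree_modByMonic_lt _ hm)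
      rw [Finset.mem_range] at hi
      exact ⟨⟨i, by omega⟩, rfl⟩
  rw [← Subalgebra.finrank_toSubmodule, ← h, finrank_span_eq_card (linearIndependent_pow x),
    Fintype.card_fin]

variable (B : Type v) [Ring B] [Algebra k B] [Algebra.IsCentral k B] [IsSimpleRing B]
  [FiniteDimensional k B]

theorem exists_regular_element (r : ℕ) (hB : Module.finrank k B = r ^ 2) :
    ∃ x : B, (minpoly k x).Separable ∧ (minpoly k x).natDegree = r := by
  classical
  have hr : r ≠ 0 := by
    rintro rfl
    exact (Module.finrank_pos (R := k) (M := B)).ne' (by simpa using hB)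
  haveI : NeZero r := ⟨hr⟩
  rcases finite_or_infinite k with hk | hk
  · obtain ⟨n, D, _, _, _, _, hn, -, -, -, ⟨e⟩⟩ := exists_matrix_division k B
    haveI : Finite D := Module.finite_of_finite k
    have hc : ∀ a b : D, a * b = b * a := fun a b => @mul_comm D (littleWedderburn D).toCommMonoid.toCommSemigroup.toCommMagma a b
    have hsurj : Function.Surjective (algebraMap k D) := fun a =>
      Algebra.mem_bot.1 (Algebra.IsCentral.out (Subalgebra.mem_center_iff.2 fun b => hc b a))
    let iD := (AlgEquiv.ofBijective (Algebra.ofId k D) ⟨(algebraMap k D).injective, hsurj⟩)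
    let e' : B ≃ₐ[k] Matrix (Fin n) (Fin n) k := e.trans iD.symm.mapMatrix
    have hnr : n = r := Nat.pow_left_injective two_ne_zero (by
      show n ^ 2 = r ^ 2
      rw [← hB, e'.toLinearEquiv.finrank_eq, Module.finrank_matrix]
      simp [sq])
    subst hnr
    obtain ⟨p, _⟩ := CharP.exists k
    haveI : Fact p.Prime := ⟨(CharP.char_is_prime_or_zero k p).resolve_right
      (CharP.ringChar_ne_zero_of_finite k |> fun h hp => h (by subst hp; exact ringChar.eq k 0))⟩
    let L := FiniteField.Extension k p n
    haveI : Algebra.IsSeparable k L := inferInstance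
    obtain ⟨θ, hθ⟩ := Field.exists_primitive_element k L
    let b : Module.Basis (Fin n) k L := Module.finBasisOfFinrankEq k L (FiniteField.finrank_extension k p n)
    let ψ : L →ₐ[k] B := e'.symm.toAlgHom.comp (Algebra.leftMulMatrix b)
    have hψ : Function.Injective ψ := e'.symm.injective.comp (Algebra.leftMulMatrix_injective b)
    refine ⟨ψ θ, ?_, ?_⟩
    · rw [minpoly.algHom_eq ψ hψ]; exact Algebra.IsSeparable.isSeparable k θ
    · rw [minpoly.algHom_eq ψ hψ,
        (Field.primitive_element_iff_minpoly_natDegree_eq k θ).1 hθ]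
      exact FiniteField.finrank_extension k p n
  · let L := AlgebraicClosure k
    obtain ⟨φ⟩ := exists_splitting_closure k B r hB
    let b := Module.finBasis k B
    let bL := b.baseChange L
    let X : Matrix (Fin r) (Fin r) (MvPolynomial (Fin (Module.finrank k B)) L) :=
      ∑ i : Fin (Module.finrank k B), (MvPolynomial.X i : MvPolynomial (Fin (Module.finrank k B)) L) •
        (φ ((1 : L) ⊗ₜ[k] b i)).map
        (MvPolynomial.C : L →+* MvPolynomial (Fin (Module.finrank k B)) L)
    let P : MvPolynomial (Fin (Module.finrank k B)) L := (gram X).det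
    have hev : ∀ c : Fin (Module.finrank k B) → L,
        MvPolynomial.eval c P = (gram (φ (∑ i, c i • bL i))).det := by
      intro c
      show (MvPolynomial.eval c) (gram X).det = _
      rw [RingHom.map_det, RingHom.mapMatrix_apply, ← gram_map]
      congr 2
      ext a a'
      simp only [X, Matrix.map_apply, Matrix.sum_apply, Matrix.smul_apply, smul_eq_mul, map_sum,
        map_mul, MvPolynomial.eval_X, MvPolynomial.eval_C]
      refine Finset.sum_congr rfl fun i _ => ?_
      rw [show bL i = (1 : L) ⊗ₜ b i from Module.Basis.baseChange_apply _ _ _, map_smul]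
      rfl
    obtain ⟨d⟩ : Nonempty (Fin r ↪ L) :=
      ⟨⟨fun i => Infinite.natEmbedding L i, fun i j h =>
        Fin.ext ((Infinite.natEmbedding L).injective h)⟩⟩
    have hP : P ≠ 0 := by
      intro h0
      have h1 := hev fun i => bL.repr (φ.symm (Matrix.diagonal d)) i
      rw [h0, map_zero, bL.sum_repr, φ.apply_symm_apply] at h1
      exact det_gram_diagonal_ne_zero d d.injective h1.symm
    obtain ⟨c, hc, hPc⟩ : ∃ c ∈ Set.pi .univ (fun _ : Fin (Module.finrank k B) => Set.range (algebraMap k L)),
        MvPolynomial.eval c P ≠ 0 := by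
      by_contra hcon
      push Not at hcon
      exact hP (MvPolynomial.funext_set _
        (fun _ => Set.infinite_range_of_injective (algebraMap k L).injective)
        fun c hc => by rw [hcon c hc, map_zero])
    choose c₀ hc₀ using fun i => hc i trivial
    let x : B := ∑ i, c₀ i • b i
    have hx : φ (∑ i, c i • bL i) = φ (1 ⊗ₜ x) := by
      congr 1
      rw [tmul_sum]
      refine Finset.sum_congr rfl fun i _ => ?_
      rw [show bL i = (1 : L) ⊗ₜ b i from Module.Basis.baseChange_apply _ _ _, tmul_smul,
        ← hc₀ i, algebraMap_smul]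
    rw [hev, hx] at hPc
    have hsepc := separable_charpoly_of_gram _ hPc
    obtain ⟨p, hp⟩ := exists_redCharpoly k B r L φ x
    have hpm : p.natDegree = r := by
      have := congrArg natDegree hp
      rw [natDegree_map, Matrix.charpoly_natDegree_eq_dim, Fintype.card_fin] at this
      exact this
    have hdvd := minpoly.dvd k x (aeval_redCharpoly k B r L φ x p hp)
    have hpsep : p.Separable := by
      rw [← Polynomial.separable_map (algebraMap k L), hp]; exact hsepc
    refine ⟨x, hpsep.of_dvd hdvd, le_antisymm (hpm ▸ natDegree_le_of_dvd hdvd hpsep.ne_zero) ?_⟩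
    by_contra hlt
    push Not at hlt
    set q := (minpoly k x).map (algebraMap k L) with hq
    have hq0 : aeval (φ (1 ⊗ₜ x)) q = 0 := by
      rw [hq, aeval_map_algebraMap, show φ ((1 : L) ⊗ₜ x) =
        ((φ.toAlgHom.restrictScalars k).comp Algebra.TensorProduct.includeRight) x from rfl,
        aeval_algHom_apply, minpoly.aeval, map_zero]
    have hqd : q.natDegree < r := by rw [hq, natDegree_map]; exact hlt
    have hv : (fun i : Fin r => q.coeff i) = 0 := by
      refine Matrix.eq_zero_of_mulVec_eq_zero hPc (funext fun j => ?_)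
      have h2 : Matrix.trace (φ (1 ⊗ₜ x) ^ (j : ℕ) * aeval (φ (1 ⊗ₜ x)) q) = 0 := by
        rw [hq0, mul_zero, Matrix.trace_zero]
      rw [aeval_eq_sum_range' hqd, Finset.mul_sum, Matrix.trace_sum, Finset.sum_range] at h2
      refine Eq.trans ?_ h2
      simp only [Matrix.mulVec, dotProduct, gram, Matrix.of_apply, mul_smul_comm, ← pow_add,
        Matrix.trace_smul, smul_eq_mul]
      exact Finset.sum_congr rfl fun i _ => mul_comm _ _
    have hqne : q ≠ 0 := (map_ne_zero (minpoly.ne_zero (IsIntegral.of_finite k x)))
    exact leadingCoeff_ne_zero.2 hqne (congrFun hv ⟨q.natDegree, hqd⟩)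

end Field

section LocalLift

variable (R : Type u) [CommRing R] [IsLocalRing R] (A : Type u) [Ring A] [Algebra R A] [IsAzumaya R A]

theorem regular_lift (r : ℕ) (hA : Module.finrank R A = r ^ 2) (a : A)
    (hsep : (minpoly (ResidueField R) ((1 : ResidueField R) ⊗ₜ[R] a)).Separable)
    (hdeg : (minpoly (ResidueField R) ((1 : ResidueField R) ⊗ₜ[R] a)).natDegree = r) :
    LinearIndependent R (fun i : Fin r => a ^ (i : ℕ)) ∧
    ∃ P : R[X], P.Monic ∧ P.natDegree = r ∧ aeval a P = 0 ∧ (P.map (residue R)).Separable := by
  refine ⟨?_, ?_⟩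
  · refine Module.IsLocalRing.linearIndependent_of_flat (R := R) _ ?_
    subst hdeg
    have h := linearIndependent_pow (K := ResidueField R) ((1 : ResidueField R) ⊗ₜ[R] a)
    have hv : ((TensorProduct.mk R (ResidueField R) A 1) ∘ fun i : Fin _ => a ^ (i : ℕ)) =
        fun i : Fin (minpoly (ResidueField R) ((1 : ResidueField R) ⊗ₜ[R] a)).natDegree =>
          ((1 : ResidueField R) ⊗ₜ[R] a) ^ (i : ℕ) := by
      funext i
      simp [Function.comp, Algebra.TensorProduct.tmul_pow]
    rw [hv]
    exact h
  · obtain ⟨S, _, _, _, ⟨φ⟩⟩ := exists_faithfullyFlat_splitting R A r hA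
    obtain ⟨P, hP⟩ := exists_redCharpoly R A r S φ a
    have hinj : Function.Injective (algebraMap R S) := FaithfulSMul.algebraMap_injective R S
    haveI : Nontrivial S := hinj.nontrivial
    have hPm : P.Monic := monic_of_injective hinj (by rw [hP]; exact Matrix.charpoly_monic _)
    have hPd : P.natDegree = r := by
      have := congrArg natDegree hP
      rw [natDegree_map_eq_of_injective hinj, Matrix.charpoly_natDegree_eq_dim, Fintype.card_fin] at this
      exact this
    have hPa := aeval_redCharpoly R A r S φ a P hP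
    refine ⟨P, hPm, hPd, hPa, ?_⟩
    have hd : minpoly (ResidueField R) ((1 : ResidueField R) ⊗ₜ[R] a) ∣ P.map (residue R) := by
      refine minpoly.dvd _ _ ?_
      show aeval _ (P.map (algebraMap R (ResidueField R))) = 0
      rw [aeval_map_algebraMap, show ((1 : ResidueField R) ⊗ₜ[R] a) =
        (Algebra.TensorProduct.includeRight : A →ₐ[R] ResidueField R ⊗[R] A) a from rfl,
        aeval_algHom_apply, hPa, map_zero]
    rw [eq_of_monic_of_dvd_of_natDegree_le
      (minpoly.monic (IsIntegral.of_finite _ _)) (hPm.map (residue R)) hd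
      (by rw [hPm.natDegree_map, hPd, hdeg])]
    exact hsep

end LocalLift

section AdjoinRoot

variable {R : Type u} [CommRing R] {P : R[X]}

theorem isCoprime_derivative_of_map [IsLocalRing R] (hP : P.Monic)
    (h : (P.map (residue R)).Separable) : IsCoprime P (derivative P) := by
  obtain ⟨a, b, hab⟩ := h
  obtain ⟨a', rfl⟩ := map_surjective (residue R) residue_surjective a
  obtain ⟨b', rfl⟩ := map_surjective (residue R) residue_surjective b
  rw [derivative_map, ← Polynomial.map_mul, ← Polynomial.map_mul, ← Polynomial.map_add] at hab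
  haveI : Module.Finite R (AdjoinRoot P) := hP.finite_adjoinRoot
  have hu : IsUnit (AdjoinRoot.mk P (derivative P)) := by
    have h1 : AdjoinRoot.mk P (a' * P + b' * derivative P - 1) ∈
        (maximalIdeal R).map (algebraMap R (AdjoinRoot P)) := by
      have hc : a' * P + b' * derivative P - 1 ∈ (maximalIdeal R).map (C : R →+* R[X]) := by
        rw [← IsLocalRing.ker_residue, ← Polynomial.ker_mapRingHom, RingHom.mem_ker,
          coe_mapRingHom, Polynomial.map_sub, hab, Polynomial.map_one, sub_self]
      have := Ideal.mem_map_of_mem (AdjoinRoot.mk P) hc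
      rwa [Ideal.map_map] at this
    rw [map_sub, map_add, map_mul, map_mul, AdjoinRoot.mk_self, mul_zero, zero_add, map_one] at h1
    have hj : (maximalIdeal R).map (algebraMap R (AdjoinRoot P)) ≤ Ideal.jacobson ⊥ :=
      le_sInf fun I ⟨_, hI⟩ => by
        haveI := hI
        rw [Ideal.map_le_iff_le_comap]
        exact (IsLocalRing.eq_maximalIdeal (Ideal.isMaximal_comap_of_isIntegral_of_isMaximal I)).ge
    have h2 := Ideal.mem_jacobson_bot.1 (hj h1) 1
    rw [mul_one, sub_add_cancel] at h2
    exact isUnit_of_mul_isUnit_right h2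
  obtain ⟨w, hw⟩ := hu.exists_right_inv
  obtain ⟨q, rfl⟩ := AdjoinRoot.mk_surjective w
  rw [← map_mul, ← map_one (AdjoinRoot.mk P), AdjoinRoot.mk_eq_mk] at hw
  obtain ⟨c, hc⟩ := hw
  exact ⟨-c, q, by linear_combination hc⟩

theorem etale_adjoinRoot (hP : P.Monic) (h : IsCoprime P (derivative P)) :
    Algebra.Etale R (AdjoinRoot P) := by
  obtain ⟨a, b, hab⟩ := h
  let Q : StandardEtalePair R := ⟨P, hP, 1, b, a, 0, by rw [pow_zero]; linear_combination hab⟩
  have h1 : Q.HasMap (AdjoinRoot.root P) := ⟨by simp [Q], by simp [Q]⟩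
  refine Algebra.Etale.of_equiv (A := Q.Ring) (AlgEquiv.ofAlgHom (Q.lift _ h1)
    (AdjoinRoot.liftAlgHom P (Algebra.ofId R Q.Ring) Q.X Q.hasMap_X.1) ?_ ?_)
  · refine AdjoinRoot.algHom_ext ?_
    simp [StandardEtalePair.lift_X]
  · refine Q.hom_ext ?_
    simp [StandardEtalePair.lift_X]

end AdjoinRoot

section Split

theorem algHom_bijective_of_finrank_eq (R : Type u) [CommRing R] [Nontrivial R] {A : Type v} [Ring A]
    [Algebra R A] [IsAzumaya R A] [Module.Free R A] {B : Type w} [Ring B] [Algebra R B]
    [IsAzumaya R B] [Module.Free R B] (φ : A →ₐ[R] B)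
    (h : Module.finrank R A = Module.finrank R B) : Function.Bijective φ := by
  have hsurj : Function.Surjective φ.toLinearMap := by
    refine surjective_of_residueField_lTensor R φ.toLinearMap fun m _ => ?_
    let K := m.ResidueField
    refine ⟨K, inferInstance, inferInstance, fun r hr => Ideal.algebraMap_residueField_eq_zero.mpr hr, ?_⟩
    haveI := isSimpleRing_tensor' R A K
    haveI := isSimpleRing_tensor' R B K
    let ψ : K ⊗[R] A →ₐ[K] K ⊗[R] B := Algebra.TensorProduct.map (AlgHom.id K K) φ
    have hinj : Function.Injective ψ := RingHom.injective ψ.toRingHom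
    exact (LinearMap.injective_iff_surjective_of_finrank_eq_finrank (f := ψ.toLinearMap)
      (by rw [Module.finrank_baseChange, Module.finrank_baseChange, h])).1 hinj
  have E := LinearEquiv.ofFinrankEq B A h.symm
  exact ⟨fun x y hxy => OrzechProperty.injective_of_surjective_endomorphism
    (E.toLinearMap ∘ₗ φ.toLinearMap) (E.surjective.comp hsurj) (congrArg E hxy), hsurj⟩

variable (R : Type u) [CommRing R] [Nontrivial R] (A : Type v) [Ring A] [Algebra R A] [IsAzumaya R A]
  (E : Type u) [CommRing E] [Algebra R E] [Module.Free R E] [Module.Finite R E] (u : E →ₐ[R] A)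
  [Module E A] (hmod : ∀ (e : E) (a : A), e • a = a * u e)

include hmod in
theorem split_of_basis {r : ℕ} (hr : r ≠ 0) (hE : Module.finrank R E = r) (w : Fin r → A)
    (hw : Function.Bijective fun c : Fin r → E => ∑ i, w i * u (c i)) :
    Module.Free E A ∧ Module.finrank E A = r ∧ Nonempty ((E ⊗[R] A) ≃ₐ[E] Module.End E A) ∧
      Nonempty ((E ⊗[R] A) ≃ₐ[E] Matrix (Fin r) (Fin r) E) := by
  haveI : NeZero r := ⟨hr⟩
  haveI : Nontrivial E := Module.nontrivial_of_finrank_pos (R := R) (by omega)
  haveI : IsScalarTower R E A := ⟨fun c e a => by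
    rw [hmod, hmod, map_smul, mul_smul_comm]⟩
  let Φ : (Fin r → E) →ₗ[E] A := Fintype.linearCombination E w
  have hΦ : ∀ c, Φ c = ∑ i, w i * u (c i) := fun c => by
    rw [Fintype.linearCombination_apply]; exact Finset.sum_congr rfl fun i _ => hmod _ _
  let Φe := LinearEquiv.ofBijective Φ (by
    rw [show (⇑Φ) = fun c : Fin r → E => ∑ i, w i * u (c i) from funext hΦ]; exact hw)
  let bE : Module.Basis (Fin r) E A := Module.Basis.ofEquivFun Φe.symm
  haveI : Module.Free E A := Module.Free.of_basis bE
  haveI : Module.Finite E A := Module.Finite.of_basis bE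
  have hrk : Module.finrank E A = r := by rw [Module.finrank_eq_card_basis bE, Fintype.card_fin]
  haveI : Module.Free R A := Module.Free.of_equiv (Φe.restrictScalars R)
  have hrA : Module.finrank R A = r * r := by
    rw [← (Φe.restrictScalars R).finrank_eq, Module.finrank_pi_fintype]
    simp [hE]
  let g : A →ₐ[R] Module.End E A :=
    { toFun := fun a =>
        { toFun := fun x => a * x
          map_add' := mul_add a
          map_smul' := fun e x => by simp only [hmod, RingHom.id_apply, mul_assoc] }
      map_one' := LinearMap.ext fun x => one_mul x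
      map_mul' := fun a b => LinearMap.ext fun x => mul_assoc a b x
      map_zero' := LinearMap.ext fun x => zero_mul x
      map_add' := fun a b => LinearMap.ext fun x => add_mul a b x
      commutes' := fun c => LinearMap.ext fun x => by
        show algebraMap R A c * x = c • x
        rw [Algebra.smul_def] }
  let θ : E ⊗[R] A →ₐ[E] Module.End E A :=
    Algebra.TensorProduct.lift (Algebra.ofId E (Module.End E A)) g
      fun e a => Algebra.commutes e (g a)
  haveI : FaithfulSMul E A := ⟨fun {e e'} h => by
    have hi : Φ (Pi.single ⟨0, by omega⟩ e) = Φ (Pi.single ⟨0, by omega⟩ e') := by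
      simp only [Φ, Fintype.linearCombination_apply_single, h]
    exact Pi.single_injective _ (Φe.injective hi)⟩
  haveI := isAzumaya_baseChange R E A
  haveI := isAzumaya_moduleEnd E A
  haveI : Module.Free E (Module.End E A) :=
    Module.Free.of_equiv (LinearMap.toMatrix bE bE).symm
  have hθ : Function.Bijective θ := algHom_bijective_of_finrank_eq E θ (by
    rw [Module.finrank_baseChange, hrA, (LinearMap.toMatrix bE bE).finrank_eq, Module.finrank_matrix]
    simp)
  let e := AlgEquiv.ofBijective θ hθ
  exact ⟨inferInstance, hrk, ⟨e⟩, ⟨e.trans (algEquivMatrix bE)⟩⟩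

end Split

section Residual

variable (R : Type u) [CommRing R] [IsLocalRing R] (A : Type v) [Ring A] [Algebra R A] [IsAzumaya R A]
  (E : Type u) [CommRing E] [Algebra R E] [Algebra.Etale R E] [Module.Free R E] [Module.Finite R E]
  (u : E →ₐ[R] A)

theorem exists_basis_of_etale_subalgebra {r : ℕ} (hA : Module.finrank R A = r ^ 2)
    (hE : Module.finrank R E = r)
    (hu : Function.Injective (u.toLinearMap.lTensor (ResidueField R))) :
    ∃ w : Fin r → A, Function.Bijective fun c : Fin r → E => ∑ i, w i * u (c i) := by
  classical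
  haveI : Module.Free R A := Module.free_of_flat_of_isLocalRing
  letI : Module E A := Module.compHom A (RingHom.op u.toRingHom |>.comp
    (RingEquiv.toOpposite E).toRingHom)
  have hmod : ∀ (e : E) (a : A), e • a = a * u e := fun e a => rfl
  haveI : IsScalarTower R E A := ⟨fun c e a => by rw [hmod, hmod, map_smul, mul_smul_comm]⟩
  haveI : Module.Finite E A := Module.Finite.of_restrictScalars_finite R E A
  let k := ResidueField R
  let ι : E →ₐ[R] k ⊗[R] E := Algebra.TensorProduct.includeRight
  have hι : Function.Surjective ι := TensorProduct.mk_surjective R E k residue_surjective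
  have hrad : ∀ e : E, (∀ I : Ideal E, I.IsMaximal → e ∈ I) → ι e = 0 := by
    intro e he
    haveI : IsArtinianRing (k ⊗[R] E) := IsArtinianRing.of_finite k _
    haveI : IsReduced (k ⊗[R] E) := Algebra.FormallyUnramified.isReduced_of_field k _
    refine (IsNilpotent.eq_zero ?_)
    rw [← mem_nilradical, nilradical_eq_sInf, Ideal.mem_sInf]
    intro Q hQ
    haveI : Q.IsPrime := hQ
    haveI : Q.IsMaximal := IsArtinianRing.isMaximal_of_isPrime Q
    exact he _ (Ideal.comap_isMaximal_of_surjective ι.toRingHom hι (K := Q))
  have hmax : ∀ I : Ideal E, I.IsMaximal → ∀ c ∈ maximalIdeal R, algebraMap R E c ∈ I := by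
    intro I hI c hc
    haveI := hI
    exact (IsLocalRing.eq_maximalIdeal (R := R) (Ideal.isMaximal_comap_of_isIntegral_of_isMaximal (R := R) I)).ge hc
  have hker : ∀ e : E, ι e = 0 → ∀ I : Ideal E, I.IsMaximal → e ∈ I := by
    intro e he I hI
    have h1 : e ∈ maximalIdeal R • (⊤ : Submodule R E) := by
      have h2 := (TensorProduct.quotTensorEquivQuotSMul E (maximalIdeal R)).map_eq_zero_iff.2
        (show (Ideal.Quotient.mk (maximalIdeal R) 1) ⊗ₜ[R] e = 0 from he)
      rwa [TensorProduct.quotTensorEquivQuotSMul_mk_tmul, one_smul, Submodule.Quotient.mk_eq_zero] at h2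
    refine Submodule.smul_induction_on h1 (fun c hc z _ => ?_) (fun p q hp hq => I.add_mem hp hq)
    rw [Algebra.smul_def]
    exact I.mul_mem_right _ (hmax I hI c hc)
  haveI : Finite (MaximalSpectrum E) := by
    haveI : IsArtinianRing (k ⊗[R] E) := IsArtinianRing.of_finite k _
    refine Finite.of_injective (β := PrimeSpectrum (k ⊗[R] E))
      (fun I => ⟨I.asIdeal.map ι.toRingHom, ?_⟩) ?_
    · haveI := I.isMaximal
      refine Ideal.map_isPrime_of_surjective hι fun e he => hker e he _ I.isMaximal
    · intro I J h
      have h' := congrArg (fun Q : PrimeSpectrum (k ⊗[R] E) => Q.asIdeal.comap ι.toRingHom) h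
      replace h' : (I.asIdeal.map ι.toRingHom).comap ι.toRingHom = (J.asIdeal.map ι.toRingHom).comap ι.toRingHom := h'
      rw [Ideal.comap_map_of_surjective' ι.toRingHom hι, Ideal.comap_map_of_surjective' ι.toRingHom hι] at h'
      refine MaximalSpectrum.ext ?_
      rwa [sup_eq_left.2 (show RingHom.ker ι.toRingHom ≤ I.asIdeal from fun e he => hker e he _ I.isMaximal),
        sup_eq_left.2 (show RingHom.ker ι.toRingHom ≤ J.asIdeal from fun e he => hker e he _ J.isMaximal)] at h'
  have hdim : ∀ I : MaximalSpectrum E, ∃ v : Fin r → A,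
      LinearIndependent (E ⧸ I.asIdeal) fun i => (1 : E ⧸ I.asIdeal) ⊗ₜ[E] v i := by
    intro I
    haveI := I.isMaximal
    letI : Field (E ⧸ I.asIdeal) := Ideal.Quotient.field _
    let F := E ⧸ I.asIdeal
    let V := F ⊗[E] A
    haveI : Nontrivial V := by
      by_contra hV
      rw [not_nontrivial_iff_subsingleton] at hV
      have hle : (⊤ : Submodule E A) ≤ I.asIdeal • ⊤ := fun x _ => by
        have h2 := (TensorProduct.quotTensorEquivQuotSMul A I.asIdeal).map_eq_zero_iff.2
          (Subsingleton.elim ((Ideal.Quotient.mk I.asIdeal 1) ⊗ₜ[E] x) 0)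
        rwa [TensorProduct.quotTensorEquivQuotSMul_mk_tmul, one_smul, Submodule.Quotient.mk_eq_zero] at h2
      obtain ⟨x, hx1, hx2⟩ := Submodule.exists_sub_one_mem_and_smul_eq_zero_of_fg_of_le_smul
        I.asIdeal (⊤ : Submodule E A) Module.Finite.fg_top hle
      have hux : u x = 0 := by simpa [hmod] using hx2 1 Submodule.mem_top
      have hxI : x ∈ I.asIdeal := hker x (hu (by
        rw [map_zero]
        show (1 : k) ⊗ₜ[R] u x = 0
        rw [hux, tmul_zero])) _ I.isMaximal
      have h1 := I.asIdeal.sub_mem hxI hx1
      rw [sub_sub_cancel] at h1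
      exact I.isMaximal.ne_top ((Ideal.eq_top_iff_one _).2 h1)
    let g : A →ₐ[R] Module.End E A :=
      { toFun := fun a =>
          { toFun := fun x => a * x
            map_add' := mul_add a
            map_smul' := fun e x => by simp only [hmod, RingHom.id_apply, mul_assoc] }
        map_one' := LinearMap.ext fun x => one_mul x
        map_mul' := fun a b => LinearMap.ext fun x => mul_assoc a b x
        map_zero' := LinearMap.ext fun x => zero_mul x
        map_add' := fun a b => LinearMap.ext fun x => add_mul a b x
        commutes' := fun c => LinearMap.ext fun x => by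
          show algebraMap R A c * x = c • x
          rw [Algebra.smul_def] }
    let g' : A →ₐ[R] Module.End F V :=
      ((Module.End.baseChangeHom E F A).restrictScalars R).comp g
    let β : F ⊗[R] A →ₐ[F] Module.End F V :=
      Algebra.TensorProduct.lift (Algebra.ofId F (Module.End F V)) g'
        fun c a => Algebra.commutes c (g' a)
    haveI := isSimpleRing_tensor' R A F
    have hβ : Function.Injective β := RingHom.injective β.toRingHom
    have hle := LinearMap.finrank_le_finrank_of_injective (f := β.toLinearMap) hβ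
    rw [Module.finrank_baseChange, hA, Module.finrank_linearMap, ← pow_two] at hle
    have hd : r ≤ Module.finrank F V := (Nat.pow_le_pow_iff_left two_ne_zero).1 hle
    let b := Module.finBasis F V
    choose v hv using fun i : Fin r =>
      TensorProduct.mk_surjective E A F Ideal.Quotient.mk_surjective (b (Fin.castLE hd i))
    refine ⟨v, ?_⟩
    have hveq : (fun i => (1 : F) ⊗ₜ[E] v i) = fun i => b (Fin.castLE hd i) := funext hv
    rw [hveq]
    exact b.linearIndependent.comp _ (Fin.castLE_injective hd)
  choose v hv using hdim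
  haveI := Fintype.ofFinite (MaximalSpectrum E)
  have hcop : Pairwise fun I J : MaximalSpectrum E => IsCoprime I.asIdeal J.asIdeal := fun I J h =>
    Ideal.isCoprime_iff_sup_eq.2 (I.isMaximal.coprime_of_ne J.isMaximal
      fun h' => h (MaximalSpectrum.ext h'))
  choose ε hε using fun I : MaximalSpectrum E =>
    Ideal.exists_forall_sub_mem_ideal (I := fun J : MaximalSpectrum E => J.asIdeal) hcop
      (fun J => if J = I then (1 : E) else 0)
  let w : Fin r → A := fun i => ∑ I, ε I • v I i
  refine ⟨w, ?_⟩
  let Φ : (Fin r → E) →ₗ[E] A := Fintype.linearCombination E w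
  have hΦ : ∀ c, Φ c = ∑ i, w i * u (c i) := fun c => by
    rw [Fintype.linearCombination_apply]; exact Finset.sum_congr rfl fun i _ => hmod _ _
  rw [show (fun c : Fin r → E => ∑ i, w i * u (c i)) = Φ.restrictScalars R from (funext hΦ).symm]
  let bp : Module.Basis ((_ : Fin r) × Fin (Module.finrank R E)) R (Fin r → E) :=
    Pi.basis fun _ => Module.finBasis R E
  have hinj : Function.Injective ((Φ.restrictScalars R).baseChange k) := by
    rw [injective_iff_map_eq_zero]
    intro z hz
    obtain ⟨c, rfl⟩ := TensorProduct.mk_surjective R (Fin r → E) k residue_surjective z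
    have hc : ∀ i, ι (c i) = 0 := by
      intro i
      refine hrad _ fun I hI => ?_
      let F := E ⧸ I
      have h1 : (1 : F) ⊗ₜ[E] Φ c = 0 := by
        have hm : Φ c ∈ maximalIdeal R • (⊤ : Submodule R A) := by
          have h2 := (TensorProduct.quotTensorEquivQuotSMul A (maximalIdeal R)).map_eq_zero_iff.2
            (show (Ideal.Quotient.mk (maximalIdeal R) 1) ⊗ₜ[R] Φ c = 0 from hz)
          rwa [TensorProduct.quotTensorEquivQuotSMul_mk_tmul, one_smul,
            Submodule.Quotient.mk_eq_zero] at h2
        refine Submodule.smul_induction_on hm (fun s hs y _ => ?_) fun p q hp hq => by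
          rw [tmul_add, hp, hq, add_zero]
        rw [← algebraMap_smul E s y, ← smul_tmul, Algebra.smul_def, mul_one,
          Ideal.Quotient.algebraMap_eq, Ideal.Quotient.eq_zero_iff_mem.2 (hmax I hI s hs), zero_tmul]
      have hwI : ∀ j, (1 : F) ⊗ₜ[E] w j = (1 : F) ⊗ₜ[E] v ⟨I, hI⟩ j := by
        intro j
        simp only [w, tmul_sum]
        rw [Finset.sum_eq_single ⟨I, hI⟩ (fun J _ hJ => ?_) (fun h => absurd (Finset.mem_univ _) h)]
        · have h3 : (Ideal.Quotient.mk I (ε ⟨I, hI⟩)) = 1 := by
            rw [← map_one (Ideal.Quotient.mk I), Ideal.Quotient.eq]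
            simpa using hε ⟨I, hI⟩ ⟨I, hI⟩
          rw [← smul_tmul, Algebra.smul_def, mul_one, Ideal.Quotient.algebraMap_eq, h3]
        · have h3 : (Ideal.Quotient.mk I (ε J)) = 0 := by
            rw [Ideal.Quotient.eq_zero_iff_mem]
            simpa [Ne.symm hJ] using hε J ⟨I, hI⟩
          rw [← smul_tmul, Algebra.smul_def, mul_one, Ideal.Quotient.algebraMap_eq, h3, zero_tmul]
      rw [Fintype.linearCombination_apply, tmul_sum] at h1
      have h2 : ∑ j, (Ideal.Quotient.mk I (c j)) • ((1 : F) ⊗ₜ[E] v ⟨I, hI⟩ j) = 0 := by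
        rw [← h1]
        refine Finset.sum_congr rfl fun j _ => ?_
        rw [← hwI j, tmul_smul, ← Ideal.Quotient.algebraMap_eq, algebraMap_smul]
      exact Ideal.Quotient.eq_zero_iff_mem.1
        (Fintype.linearIndependent_iff.1 (hv ⟨I, hI⟩) _ h2 i)
    have hmk : (1 : k) ⊗ₜ[R] c = ∑ i, LinearMap.baseChange k (LinearMap.single R (fun _ : Fin r => E) i)
        (ι (c i)) := by
      simp only [ι, Algebra.TensorProduct.includeRight_apply, LinearMap.baseChange_tmul, ← tmul_sum,
        LinearMap.single_apply, Finset.univ_sum_single]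
    show (1 : k) ⊗ₜ[R] c = 0
    rw [hmk]
    simp [hc]
  have hfr : Module.finrank k (k ⊗[R] (Fin r → E)) = Module.finrank k (k ⊗[R] A) := by
    rw [Module.finrank_baseChange, Module.finrank_baseChange, Module.finrank_pi_fintype, hA]
    simp [hE, sq]
  have hbij : Function.Bijective ((Φ.restrictScalars R).baseChange k) :=
    ⟨hinj, (LinearMap.injective_iff_surjective_of_finrank_eq_finrank hfr).1 hinj⟩
  have hsurj : Function.Surjective (Φ.restrictScalars R) := by
    refine surjective_of_residueField_lTensor R _ fun m _ => ?_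
    obtain rfl := IsLocalRing.eq_maximalIdeal (I := m) inferInstance
    exact ⟨k, inferInstance, inferInstance, fun c hc => (Ideal.Quotient.eq_zero_iff_mem).2 hc, hbij.2⟩
  have E' := LinearEquiv.ofFinrankEq A (Fin r → E) (R := R) (by
    rw [Module.finrank_pi_fintype, hA]; simp [hE, sq])
  exact ⟨fun x y hxy => OrzechProperty.injective_of_surjective_endomorphism
    (E'.toLinearMap ∘ₗ Φ.restrictScalars R) (E'.surjective.comp hsurj) (congrArg E' hxy), hsurj⟩

end Residual

end Groth.Agent.CSA
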