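import Groth.Agent.CSA.Involution

/-!
# Involutions after base change, dimensions of symmetric elements
-/

set_option autoImplicit false

open TensorProduct Matrix

namespace Groth.Agent.CSA

universe u v w

variable (k : Type u) [Field k] (L : Type w) [Field L] [Algebra k L]

theorem IsInvolution.baseChange {A : Type v} [Ring A] [Algebra k A] {s : A →ₗ[k] A}
    (hs : IsInvolution k A s) : IsInvolution L (L ⊗[k] A) (s.baseChange L) := by
  refine ⟨by simp [Algebra.TensorProduct.one_def, hs.map_one], fun x y => ?_, fun x => ?_⟩
  · induction x using TensorProduct.induction_on with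
    | zero => simp
    | add a b ha hb => simp only [add_mul, map_add, mul_add, ha, hb]
    | tmul r a =>
      induction y using TensorProduct.induction_on with
      | zero => simp
      | add a b ha hb => simp only [mul_add, map_add, add_mul, ha, hb]
      | tmul t b => simp [hs.map_mul, mul_comm r t]
  · induction x using TensorProduct.induction_on with
    | zero => simp
    | add a b ha hb => simp only [map_add, ha, hb]
    | tmul r a => simp [hs.invol]

theorem finrank_ker_baseChange {V : Type v} [AddCommGroup V] [Module k V] [FiniteDimensional k V]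
    (f : V →ₗ[k] V) :
    Module.finrank L (LinearMap.ker (f.baseChange L)) = Module.finrank k (LinearMap.ker f) := by
  have h : LinearMap.ker (f.baseChange L) =
      LinearMap.range ((LinearMap.ker f).subtype.baseChange L) :=
    Module.Flat.ker_lTensor_eq (R := k) L L f
  have hinj : Function.Injective ((LinearMap.ker f).subtype.baseChange L) :=
    Module.Flat.lTensor_preserves_injective_linearMap _ (LinearMap.ker f).subtype_injective
  rw [h, LinearMap.finrank_range_of_inj hinj, Module.finrank_baseChange]

/-- symmetric matrices -/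
def symMat (m : ℕ) : Submodule L (Matrix (Fin m) (Fin m) L) where
  carrier := {Y | Yᵀ = Y}
  add_mem' := fun {a b} ha hb => by simp_all
  zero_mem' := by simp
  smul_mem' := fun c a ha => by simp_all

/-- alternating-sign matrices -/
def skewMat (m : ℕ) : Submodule L (Matrix (Fin m) (Fin m) L) where
  carrier := {Y | Yᵀ = -Y}
  add_mem' := fun {a b} ha hb => by simp_all [add_comm]
  zero_mem' := by simp
  smul_mem' := fun c a ha => by simp_all

theorem finrank_symMat (m : ℕ) : Module.finrank L (symMat L m) = Nat.choose (m + 1) 2 := by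
  let e : symMat L m ≃ₗ[L] (Sym2 (Fin m) → L) :=
    { toFun := fun Y => Sym2.lift ⟨fun i j => Y.1 i j, fun i j => by
        have h : Y.1ᵀ = Y.1 := Y.2
        exact (congrFun (congrFun h j) i)⟩
      map_add' := fun Y Z => funext fun z => Sym2.ind (fun i j => by simp) z
      map_smul' := fun c Y => funext fun z => Sym2.ind (fun i j => by simp) z
      invFun := fun g => ⟨Matrix.of fun i j => g s(i, j), by
        show (Matrix.of fun i j => g s(i, j))ᵀ = _
        ext i j
        simp [Sym2.eq_swap]⟩
      left_inv := fun Y => Subtype.ext (by ext i j; simp)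
      right_inv := fun g => funext fun z => Sym2.ind (fun i j => by simp) z }
  rw [e.finrank_eq, Module.finrank_pi, Sym2.card, Fintype.card_fin]

theorem finrank_skewMat (h2 : (2 : L) ≠ 0) (m : ℕ) :
    Module.finrank L (skewMat L m) = Nat.choose m 2 := by
  have hinf : symMat L m ⊓ skewMat L m = ⊥ := by
    refine eq_bot_iff.2 fun Y hY => ?_
    have h : Y = -Y := (show Yᵀ = Y from hY.1).symm.trans hY.2
    rw [Submodule.mem_bot]
    ext i j
    have := congrFun (congrFun h i) j
    rw [Matrix.neg_apply, eq_neg_iff_add_eq_zero, ← two_mul] at this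
    simpa [h2] using this
  have hsup : symMat L m ⊔ skewMat L m = ⊤ := by
    refine eq_top_iff.2 fun Y _ => Submodule.mem_sup.2
      ⟨(2 : L)⁻¹ • (Y + Yᵀ), ?_, (2 : L)⁻¹ • (Y - Yᵀ), ?_, ?_⟩
    · show _ᵀ = _
      simp [add_comm]
    · show _ᵀ = _
      simp [← smul_neg]
    · rw [← smul_add, add_add_sub_cancel, ← two_smul L Y, smul_smul, inv_mul_cancel₀ h2, one_smul]
  have := Submodule.finrank_sup_add_finrank_inf_eq (symMat L m) (skewMat L m)
  rw [hinf, hsup, finrank_bot, finrank_top, add_zero, Module.finrank_matrix, finrank_symMat,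
    Fintype.card_fin, Module.finrank_self, mul_one] at this
  have hc : Nat.choose (m + 1) 2 + Nat.choose m 2 = m * m := by
    clear this hinf hsup
    induction m with
    | zero => rfl
    | succ n ih =>
      have h1 : Nat.choose (n + 1 + 1) 2 = (n + 1) + Nat.choose (n + 1) 2 := by
        rw [Nat.choose_succ_succ' (n + 1) 1, Nat.choose_one_right]
      have h2 : Nat.choose (n + 1) 2 = n + Nat.choose n 2 := by
        rw [Nat.choose_succ_succ' n 1, Nat.choose_one_right]
      rw [h1]
      nlinarith
  omega

variable {A : Type v} [Ring A] [Algebra k A] [FiniteDimensional k A]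

theorem finrank_fixed_of_forms (s : A →ₗ[k] A) (m : ℕ)
    (e : (L ⊗[k] A) ≃ₐ[L] Matrix (Fin m) (Fin m) L) (S : Matrix (Fin m) (Fin m) L) (hSu : IsUnit S)
    (ε : L) (hε : ε * ε = 1) (hS : Sᵀ = ε • S)
    (he : ∀ x : L ⊗[k] A, e (LinearMap.baseChange L s x) = S⁻¹ * (e x)ᵀ * S)
    (δ : k) (P : Submodule L (Matrix (Fin m) (Fin m) L))
    (hP : ∀ Y, Y ∈ P ↔ Yᵀ = (ε * algebraMap k L δ) • Y) :
    Module.finrank k (LinearMap.ker (s - δ • LinearMap.id)) = Module.finrank L P := by
  have hdet := (Matrix.isUnit_iff_isUnit_det S).1 hSu
  let Ψ : (L ⊗[k] A) ≃ₗ[L] Matrix (Fin m) (Fin m) L :=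
    e.toLinearEquiv.trans
      { toFun := fun X => S * X
        map_add' := mul_add S
        map_smul' := fun c X => by simp
        invFun := fun Y => S⁻¹ * Y
        left_inv := fun X => by simp [← mul_assoc, Matrix.nonsing_inv_mul S hdet]
        right_inv := fun X => by simp [← mul_assoc, Matrix.mul_nonsing_inv S hdet] }
  have hker : ∀ x, x ∈ LinearMap.ker ((s - δ • LinearMap.id).baseChange L) ↔ Ψ x ∈ P := fun x => by
    have hx : (s - δ • LinearMap.id).baseChange L x = s.baseChange L x - algebraMap k L δ • x := by
      induction x using TensorProduct.induction_on with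
      | zero => simp
      | add a b ha hb => simp only [map_add, ha, hb, smul_add]; abel
      | tmul r a =>
        rw [LinearMap.baseChange_tmul, LinearMap.sub_apply, LinearMap.smul_apply, LinearMap.id_apply,
          tmul_sub, tmul_smul, LinearMap.baseChange_tmul, algebraMap_smul]
    rw [LinearMap.mem_ker, hx, sub_eq_zero, hP]
    show _ ↔ (S * e x)ᵀ = _ • (S * e x)
    rw [← e.injective.eq_iff, he, map_smul, Matrix.transpose_mul, hS, Matrix.mul_smul]
    constructor
    · intro h
      have := congrArg (S * ·) h
      simp only [← mul_assoc, Matrix.mul_nonsing_inv S hdet, one_mul] at this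
      rw [this, mul_smul_comm, smul_smul]
    · intro h
      have h' : (e x)ᵀ * S = algebraMap k L δ • (S * e x) := by
        have := congrArg (ε • ·) h
        simpa [smul_smul, ← mul_assoc ε ε, hε] using this
      rw [mul_assoc, h', mul_smul_comm, ← mul_assoc, Matrix.nonsing_inv_mul S hdet, one_mul]
  rw [← finrank_ker_baseChange k L]
  exact LinearEquiv.finrank_eq (Ψ.ofSubmodules _ _ (by
    ext Y
    simp only [Submodule.mem_map]
    exact ⟨fun ⟨x, hx, h⟩ => h ▸ (hker x).1 hx,
      fun hY => ⟨Ψ.symm Y, (hker _).2 (by simpa using hY), Ψ.apply_symm_apply Y⟩⟩))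

end Groth.Agent.CSA
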