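import Groth.Prelude.Def_AzInv
import Groth.Prelude.Def_W4c2azumayainvolQEt
import Groth.Agent.CSA.Ideal
import Mathlib.RingTheory.Flat.Basic

/-! # Base change of `lam`-involutions; central symmetric elements -/

set_option autoImplicit false
set_option linter.style.haveILetI false

open TensorProduct

universe u v w x

namespace Groth.Agent.CSA

variable {S : Type u} {R : Type v} [CommRing S] [CommRing R] [Algebra S R] {lam : R ≃ₐ[S] R}
  {A : Type w} [Ring A] [Algebra S A] [Algebra R A] [IsScalarTower S R A]
  (t : AzInv.LamInv R A lam) (S' : Type x) [CommRing S'] [Algebra S S']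

theorem bc_mul (a b : S' ⊗[S] A) :
    t.bc S lam S' (a * b) = t.bc S lam S' b * t.bc S lam S' a := by
  induction a using TensorProduct.induction_on with
  | zero => simp
  | add a a' ha ha' => rw [add_mul, map_add, ha, ha', map_add, mul_add]
  | tmul s x =>
    induction b using TensorProduct.induction_on with
    | zero => simp
    | add b b' hb hb' => rw [mul_add, map_add, hb, hb', map_add, add_mul]
    | tmul s' y =>
      simp [Algebra.TensorProduct.tmul_mul_tmul, AzInv.LamInv.map_mul, mul_comm s]

theorem bc_bc (a : S' ⊗[S] A) : t.bc S lam S' (t.bc S lam S' a) = a := by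
  induction a using TensorProduct.induction_on with
  | zero => simp
  | add a a' ha ha' => rw [map_add, map_add, ha, ha']
  | tmul s x => simp

theorem bc_one : t.bc S lam S' (1 : S' ⊗[S] A) = 1 := by
  simp [Algebra.TensorProduct.one_def]

theorem bc_scalar (s : S') :
    t.bc S lam S' (algebraMap S' (S' ⊗[S] A) s) = algebraMap S' (S' ⊗[S] A) s := by
  simp [Algebra.TensorProduct.algebraMap_apply]

theorem bc_congr {A' : Type w} [Ring A'] [Algebra S A'] [Algebra R A'] [IsScalarTower S R A']
    (t' : AzInv.LamInv R A' lam) (φ : A →ₐ[S] A') (h : ∀ a, φ (t a) = t' (φ a)) (a : S' ⊗[S] A) :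
    Algebra.TensorProduct.map (AlgHom.id S' S') φ (t.bc S lam S' a) =
      t'.bc S lam S' (Algebra.TensorProduct.map (AlgHom.id S' S') φ a) := by
  induction a using TensorProduct.induction_on with
  | zero => simp
  | add a a' ha ha' => simp only [map_add, ha, ha']
  | tmul s x => simp [h]

variable [IsAzumaya R A]

/-- central `t`-symmetric elements of a flat base change come from the base -/
theorem exists_scalar_of_central_symm [Module.Flat S S']
    (hfix : RInv.IsFixedRing S R lam.toRingEquiv) (z : S' ⊗[S] A)
    (hz : ∀ a : A, ((1 : S') ⊗ₜ[S] a) * z = z * ((1 : S') ⊗ₜ[S] a))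
    (ht : t.bc S lam S' z = z) : ∃ s : S', z = algebraMap S' (S' ⊗[S] A) s := by
  classical
  obtain ⟨n, e, f, hef⟩ := exists_dual_basis R A
  let d : A →ₗ[S] (Fin n → A) × A :=
    (LinearMap.pi fun i => LinearMap.mulLeft S (e i) - LinearMap.mulRight S (e i)).prod
      (t.linS S lam - LinearMap.id)
  have hexact : Function.Exact (Algebra.linearMap S A) d := by
    intro a
    constructor
    · intro h
      have h1 : ∀ i, e i * a = a * e i := fun i => by
        have := congrFun (congrArg Prod.fst h) i
        simpa [d, sub_eq_zero] using this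
      have h2 : t a = a := by
        have := congrArg Prod.snd h
        simpa [d, sub_eq_zero] using this
      obtain ⟨r, hr⟩ := exists_eq_algebraMap_of_central R A (c := a) fun y => by
        rw [← hef y, Finset.sum_mul, Finset.mul_sum]
        simp only [smul_mul_assoc, mul_smul_comm, h1]
      have hinj : Function.Injective (algebraMap R A) :=
        (faithfulSMul_iff_algebraMap_injective R A).1 inferInstance
      have h3 : lam r = r := hinj (by rw [← t.map_algebraMap, hr, h2])
      obtain ⟨c, hc⟩ := (hfix.2 r).1 h3
      exact ⟨c, by rw [Algebra.linearMap_apply, IsScalarTower.algebraMap_apply S R A, hc, hr]⟩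
    · rintro ⟨c, rfl⟩
      refine Prod.ext (funext fun i => ?_) ?_
      · simp [d, Algebra.commutes]
      · simp [d, IsScalarTower.algebraMap_apply S R A, t.map_algebraMap]
  have hex := Module.Flat.lTensor_exact S' hexact
  let p : (Fin n → A) × A →ₗ[S] (Fin n → A) := LinearMap.fst S _ _
  have hdz : d.lTensor S' z = 0 := by
    refine ((TensorProduct.prodRight S S' S' (Fin n → A) A).injective ?_)
    rw [map_zero]
    have hsnd : ∀ y : S' ⊗[S] A, (TensorProduct.prodRight S S' S' (Fin n → A) A (d.lTensor S' y)).2 =
        t.bc S lam S' y - y := fun y => by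
      induction y using TensorProduct.induction_on with
      | zero => simp
      | add a b ha hb => simp only [map_add, Prod.snd_add, ha, hb]; abel
      | tmul s a => simp [d, TensorProduct.tmul_sub]
    have hfst : ∀ (y : S' ⊗[S] A) (i : Fin n),
        TensorProduct.piRight S S' S' (fun _ : Fin n => A)
          (TensorProduct.prodRight S S' S' (Fin n → A) A (d.lTensor S' y)).1 i =
        ((1 : S') ⊗ₜ[S] e i) * y - y * ((1 : S') ⊗ₜ[S] e i) := fun y i => by
      induction y using TensorProduct.induction_on with
      | zero => simp
      | add a b ha hb =>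
        simp only [map_add, Prod.fst_add, Pi.add_apply, ha, hb, mul_add, add_mul]; abel
      | tmul s a => simp [d, TensorProduct.tmul_sub, Algebra.TensorProduct.tmul_mul_tmul]
    refine Prod.ext ((TensorProduct.piRight S S' S' (fun _ : Fin n => A)).injective ?_) ?_
    · funext i
      rw [hfst, hz, sub_self]
      simp
    · rw [hsnd, ht, sub_self]
      rfl
  obtain ⟨w, hw⟩ := (hex z).1 hdz
  refine ⟨TensorProduct.rid S S' w, ?_⟩
  rw [← hw]
  clear hw hdz
  induction w using TensorProduct.induction_on with
  | zero => simp
  | add a b ha hb => simp only [map_add, ha, hb]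
  | tmul s c =>
    simp only [LinearMap.lTensor_tmul, Algebra.linearMap_apply, TensorProduct.rid_tmul,
      Algebra.TensorProduct.algebraMap_apply, Algebra.algebraMap_self, RingHom.id_apply]
    rw [Algebra.algebraMap_eq_smul_one c, TensorProduct.tmul_smul, TensorProduct.smul_tmul']

end Groth.Agent.CSA
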