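import Groth.Agent.CSA.Basic

/-!
# Reduced characteristic polynomial
-/

set_option autoImplicit false

open TensorProduct Matrix Polynomial

namespace Groth.Agent.CSA

universe u v w w'

section Inner

/-- algebra endomorphisms of a matrix ring over a local ring are inner -/
theorem exists_conj_of_algHom_matrix {S : Type u} [CommRing S] [IsLocalRing S] {n : Type v}
    [Fintype n] [DecidableEq n] (φ : Matrix n n S →ₐ[S] Matrix n n S) :
    ∃ u : (Matrix n n S)ˣ, ∀ M, φ M = u * M * (u⁻¹ : (Matrix n n S)ˣ) := by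
  classical
  rcases isEmpty_or_nonempty n with hn | hn
  · exact ⟨1, fun M => Subsingleton.elim _ _⟩
  let o : n := Classical.arbitrary n
  let f : n → n → Matrix n n S := fun i j => φ (Matrix.single i j 1)
  have hf : ∀ i j k l, f i j * f k l = if j = k then f i l else 0 := fun i j k l => by
    rcases eq_or_ne j k with rfl | h
    · simp [f, ← map_mul]
    · simp [f, ← map_mul, h]
  let res := IsLocalRing.residue S
  obtain ⟨v, hv⟩ : ∃ v : n → S, (fun i => res ((f o o *ᵥ v) i)) ≠ 0 := by
    by_contra hcon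
    push Not at hcon
    have hoo : (f o o).map res = 0 := by
      ext a b
      have := congrFun (hcon (Pi.single b 1)) a
      simpa [Matrix.mulVec, dotProduct, Pi.single_apply] using this
    have h1 : (1 : Matrix n n S) = ∑ i, f i o * (f o o * f o i) := by
      simp only [hf, if_true]
      show (1 : Matrix n n S) = ∑ i, φ (Matrix.single i i 1)
      rw [← map_sum, ← map_one φ]
      congr 1
      ext a b
      simp [Matrix.sum_apply, Matrix.single_apply, Matrix.one_apply, ite_and]
    have h2 := congrArg res.mapMatrix h1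
    simp only [map_one, map_sum, map_mul, RingHom.mapMatrix_apply, hoo, zero_mul, mul_zero,
      Finset.sum_const_zero] at h2
    simpa using congrFun (congrFun h2 o) o
  let U : Matrix n n S := Matrix.of fun a i => (f i o *ᵥ v) a
  have hUf : ∀ i j, U * Matrix.single i j 1 = f i j * U := fun i j => by
    ext a b
    have h3 : (f i j * U) a b = ((f i j * f b o) *ᵥ v) a := by
      rw [← Matrix.mulVec_mulVec]
      rfl
    rw [h3, hf]
    rcases eq_or_ne j b with rfl | h
    · simp [U]
    · simp [h, Matrix.mul_single_apply_of_ne, Ne.symm h]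
  have hUdet : IsUnit U.det := by
    rw [← IsLocalRing.residue_ne_zero_iff_isUnit, RingHom.map_det]
    intro h0
    obtain ⟨c, hc0, hc⟩ := Matrix.exists_mulVec_eq_zero_iff.2 h0
    obtain ⟨j, hj⟩ : ∃ j, c j ≠ 0 := Function.ne_iff.1 hc0
    apply hv
    have h4 : (f o j).map res *ᵥ (U.map res *ᵥ c) = 0 := by
      rw [show U.map res *ᵥ c = 0 from hc, Matrix.mulVec_zero]
    rw [Matrix.mulVec_mulVec, ← Matrix.map_mul, ← hUf] at h4
    ext a
    have h5 := congrFun h4 a
    simp only [Matrix.mulVec, dotProduct, Matrix.map_apply, Pi.zero_apply] at h5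
    rw [Finset.sum_eq_single j (fun b _ hb => by simp [Matrix.mul_single_apply_of_ne, hb])
      (fun h => absurd (Finset.mem_univ j) h)] at h5
    simpa [U, hj] using h5
  refine ⟨Matrix.nonsingInvUnit U hUdet, fun M => ?_⟩
  have hlin : ∀ M, φ M * U = U * M := by
    intro M
    have : (LinearMap.mulRight S U).comp φ.toLinearMap = LinearMap.mulLeft S U := by
      refine (Matrix.stdBasis S n n).ext fun ⟨i, j⟩ => ?_
      simp only [Matrix.stdBasis_eq_single, LinearMap.coe_comp, Function.comp_apply,
        LinearMap.mulRight_apply, LinearMap.mulLeft_apply]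
      exact (hUf i j).symm
    exact LinearMap.congr_fun this M
  show φ M = U * M * U⁻¹
  rw [← hlin, mul_assoc, Matrix.mul_nonsing_inv U hUdet, mul_one]

/-- base change of matrix rings -/
noncomputable def matrixBaseChange (S : Type u) [CommRing S] (T : Type w) [CommRing T] [Algebra S T]
    (n : Type v) [Fintype n] [DecidableEq n] :
    (T ⊗[S] Matrix n n S) ≃ₐ[T] Matrix n n T :=
  AlgEquiv.ofRingEquiv (f := (matrixEquivTensor n S T).symm.toRingEquiv) fun c => by
    show (matrixEquivTensor n S T).symm (c ⊗ₜ 1) = _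
    ext a b
    simp [Matrix.algebraMap_eq_diagonal, Matrix.diagonal_apply, Matrix.one_apply]

theorem matrixBaseChange_tmul (S : Type u) [CommRing S] (T : Type w) [CommRing T] [Algebra S T]
    (n : Type v) [Fintype n] [DecidableEq n] (t : T) (M : Matrix n n S) :
    matrixBaseChange S T n (t ⊗ₜ M) = t • M.map (algebraMap S T) := rfl

theorem charpoly_algHom {S : Type u} [CommRing S] {n : Type v} [Fintype n] [DecidableEq n]
    (φ : Matrix n n S →ₐ[S] Matrix n n S) (M : Matrix n n S) : (φ M).charpoly = M.charpoly := by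
  classical
  refine Polynomial.ext fun i => ?_
  refine Module.eq_of_localization_maximal (R := S) (fun P _ => Localization.AtPrime P)
    (fun P _ => Algebra.linearMap S (Localization.AtPrime P)) _ _ fun P hP => ?_
  show algebraMap S _ _ = algebraMap S _ _
  let T := Localization.AtPrime P
  let g := matrixBaseChange S T n
  let ψ : Matrix n n T →ₐ[T] Matrix n n T :=
    g.toAlgHom.comp ((Algebra.TensorProduct.map (AlgHom.id T T) φ).comp g.symm.toAlgHom)
  obtain ⟨u, hu⟩ := exists_conj_of_algHom_matrix ψ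
  have key : ψ (M.map (algebraMap S T)) = (φ M).map (algebraMap S T) := by
    have : g.symm (M.map (algebraMap S T)) = 1 ⊗ₜ M := by
      rw [AlgEquiv.symm_apply_eq, matrixBaseChange_tmul, one_smul]
    show g (Algebra.TensorProduct.map (AlgHom.id T T) φ (g.symm (M.map (algebraMap S T)))) = _
    rw [this, Algebra.TensorProduct.map_tmul, AlgHom.id_apply, matrixBaseChange_tmul, one_smul]
  have h := congrArg Matrix.charpoly (hu (M.map (algebraMap S T)))
  rw [key, Matrix.coe_units_inv, Matrix.charpoly_units_conj, Matrix.charpoly_map, Matrix.charpoly_map] at h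
  simpa [Polynomial.coeff_map] using congrArg (fun p => Polynomial.coeff p i) h

end Inner

section Descent

variable (R : Type u) [CommRing R] (A : Type v) [Ring A] [Algebra R A] (n : ℕ)
variable (R' : Type w) [CommRing R'] [Algebra R R']

/-- extension of a splitting to a larger ring -/
theorem exists_extended_splitting (φ : (R' ⊗[R] A) ≃ₐ[R'] Matrix (Fin n) (Fin n) R')
    (T : Type w') [CommRing T] [Algebra R T] [Algebra R' T] [IsScalarTower R R' T] :
    ∃ e : (T ⊗[R] A) ≃ₐ[T] Matrix (Fin n) (Fin n) T,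
      ∀ a, e (1 ⊗ₜ a) = (φ (1 ⊗ₜ a)).map (algebraMap R' T) := by
  let g := matrixBaseChange R' T (Fin n)
  let E : (T ⊗[R] A) ≃ₗ[T] Matrix (Fin n) (Fin n) T :=
    (AlgebraTensorModule.cancelBaseChange R R' T T A).symm ≪≫ₗ
      (AlgebraTensorModule.congr (LinearEquiv.refl T T) φ.toLinearEquiv) ≪≫ₗ g.toLinearEquiv
  have hE : ∀ (t : T) (a : A), E (t ⊗ₜ a) = t • (φ (1 ⊗ₜ a)).map (algebraMap R' T) := fun t a => rfl
  refine ⟨AlgEquiv.ofLinearEquiv E ?_ ?_, fun a => ?_⟩
  · rw [Algebra.TensorProduct.one_def, hE, ← Algebra.TensorProduct.one_def, map_one, one_smul]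
    simp
  · exact (LinearMap.map_mul_iff (E.toLinearMap.restrictScalars R)).2 (by
      refine TensorProduct.ext' fun t a => TensorProduct.ext' fun t' a' => ?_
      show E (t ⊗ₜ a * t' ⊗ₜ a') = E (t ⊗ₜ a) * E (t' ⊗ₜ a')
      rw [Algebra.TensorProduct.tmul_mul_tmul, hE, hE, hE, smul_mul_smul_comm, ← Matrix.map_mul,
        ← map_mul, Algebra.TensorProduct.tmul_mul_tmul, one_mul]) |> fun h x y => h x y
  · show E (1 ⊗ₜ a) = _
    rw [hE, one_smul]

theorem charpoly_eq_of_splittings {T : Type w'} [CommRing T] [Algebra R T]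
    (e e' : (T ⊗[R] A) ≃ₐ[T] Matrix (Fin n) (Fin n) T) (x : T ⊗[R] A) :
    (e x).charpoly = (e' x).charpoly := by
  have := charpoly_algHom (e.symm.trans e').toAlgHom (e x)
  simpa using this.symm

/-- two splittings give the same characteristic polynomial -/
theorem charpoly_compat (φ : (R' ⊗[R] A) ≃ₐ[R'] Matrix (Fin n) (Fin n) R')
    (R'' : Type w') [CommRing R''] [Algebra R R'']
    (ψ : (R'' ⊗[R] A) ≃ₐ[R''] Matrix (Fin n) (Fin n) R'') (a : A) :
    (φ (1 ⊗ₜ a)).charpoly.map (Algebra.TensorProduct.includeLeftRingHom : R' →+* R' ⊗[R] R'') =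
      (ψ (1 ⊗ₜ a)).charpoly.map
        (Algebra.TensorProduct.includeRight.toRingHom : R'' →+* R' ⊗[R] R'') := by
  obtain ⟨e, he⟩ := exists_extended_splitting R A n R' φ (R' ⊗[R] R'')
  let _ : Algebra R'' (R' ⊗[R] R'') := Algebra.TensorProduct.rightAlgebra
  obtain ⟨e', he'⟩ := exists_extended_splitting R A n R'' ψ (R' ⊗[R] R'')
  have h := charpoly_eq_of_splittings R A n e e' (1 ⊗ₜ a)
  rw [he, he', Matrix.charpoly_map, Matrix.charpoly_map] at h
  exact h

/-- the characteristic polynomial of a splitting descends -/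
theorem exists_redCharpoly [Module.FaithfullyFlat R R']
    (φ : (R' ⊗[R] A) ≃ₐ[R'] Matrix (Fin n) (Fin n) R') (a : A) :
    ∃ p : R[X], p.map (algebraMap R R') = (φ (1 ⊗ₜ a)).charpoly := by
  have h := charpoly_compat R A n R' φ R' φ a
  have hmem : (φ (1 ⊗ₜ a)).charpoly ∈ Polynomial.lifts (algebraMap R R') := by
    rw [Polynomial.lifts_iff_coeff_lifts]
    intro i
    have hi := congrArg (fun p => Polynomial.coeff p i) h
    simp only [Polynomial.coeff_map] at hi
    exact ((Algebra.IsEffective.of_faithfullyFlat R R') _).1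
      (by rw [Algebra.TensorProduct.includeLeftSubRight_apply, sub_eq_zero]; exact hi)
  obtain ⟨p, hp⟩ := Polynomial.lifts_iff_ringHom_rangeS _ |>.1 hmem
  exact ⟨p, hp⟩

theorem aeval_redCharpoly [Module.FaithfullyFlat R R']
    (φ : (R' ⊗[R] A) ≃ₐ[R'] Matrix (Fin n) (Fin n) R') (a : A) (p : R[X])
    (hp : p.map (algebraMap R R') = (φ (1 ⊗ₜ a)).charpoly) : Polynomial.aeval a p = 0 := by
  have h0 : φ ((1 : R') ⊗ₜ[R] Polynomial.aeval a p) = 0 := by
    have : (1 : R') ⊗ₜ[R] Polynomial.aeval a p =
        Polynomial.aeval ((1 : R') ⊗ₜ[R] a) (p.map (algebraMap R R')) := by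
      rw [Polynomial.aeval_map_algebraMap]
      exact (Polynomial.aeval_algHom_apply
        (Algebra.TensorProduct.includeRight : A →ₐ[R] R' ⊗[R] A) a p).symm
    rw [this, hp, ← Polynomial.aeval_algHom_apply φ]
    exact Matrix.aeval_self_charpoly _
  exact (Module.FaithfullyFlat.one_tmul_eq_zero_iff R _ _).1 (φ.injective (h0.trans (map_zero φ).symm))

theorem redCharpoly_unique [Module.FaithfullyFlat R R']
    (φ : (R' ⊗[R] A) ≃ₐ[R'] Matrix (Fin n) (Fin n) R')
    (R'' : Type w') [CommRing R''] [Algebra R R''] [Module.FaithfullyFlat R R'']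
    (ψ : (R'' ⊗[R] A) ≃ₐ[R''] Matrix (Fin n) (Fin n) R'') (a : A) (p : R[X])
    (hp : p.map (algebraMap R R') = (φ (1 ⊗ₜ a)).charpoly) :
    p.map (algebraMap R R'') = (ψ (1 ⊗ₜ a)).charpoly := by
  obtain ⟨p', hp'⟩ := exists_redCharpoly R A n R'' ψ a
  have h := charpoly_compat R A n R' φ R'' ψ a
  rw [← hp, ← hp', Polynomial.map_map, Polynomial.map_map] at h
  have e1 : (Algebra.TensorProduct.includeLeftRingHom : R' →+* R' ⊗[R] R'').comp (algebraMap R R') =
      algebraMap R (R' ⊗[R] R'') := rfl
  have e2 : (Algebra.TensorProduct.includeRight.toRingHom : R'' →+* R' ⊗[R] R'').comp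
      (algebraMap R R'') = algebraMap R (R' ⊗[R] R'') :=
    (Algebra.TensorProduct.includeRight : R'' →ₐ[R] R' ⊗[R] R'').comp_algebraMap
  rw [e1, e2] at h
  have hinj : Function.Injective (algebraMap R (R' ⊗[R] R'')) := by
    have : Module.FaithfullyFlat R (R' ⊗[R] R'') := Module.FaithfullyFlat.trans R R' _
    exact FaithfulSMul.algebraMap_injective _ _
  rw [Polynomial.map_injective _ hinj h, hp']

end Descent

end Groth.Agent.CSA
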