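import Groth.Agent.CSA.Ideal

/-!
# Central simple algebras over a field: Skolem–Noether, tensor products, base change
-/

set_option autoImplicit false

open TensorProduct

namespace Groth.Agent.CSA

universe u v w w'

variable (k : Type u) [Field k] (A : Type v) [Ring A] [Algebra k A]

theorem isAzumaya_of_isCentral [Algebra.IsCentral k A] [IsSimpleRing A] [FiniteDimensional k A] :
    IsAzumaya k A := by
  classical
  let E := A ⊗[k] Aᵐᵒᵖ
  let _ : Module E A := instModuleTensorProductMop k A
  have hsmul : ∀ (t : E) (x : A), AlgHom.mulLeftRight k A t x = t • x := fun t x => rfl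
  have hsimp : IsSimpleModule E A := by
    refine isSimpleModule_iff_toSpanSingleton_surjective.2 ⟨inferInstance, fun m hm b => ?_⟩
    let N : Submodule E A := LinearMap.range (LinearMap.toSpanSingleton E A m)
    have hmul : ∀ (p q y : A), y ∈ N → p * y * q ∈ N := fun p q y hy => by
      have : p * y * q = (p ⊗ₜ[k] MulOpposite.op q : E) • y := by
        rw [← hsmul]; simp
      rw [this]; exact N.smul_mem _ hy
    let I : TwoSidedIdeal A := TwoSidedIdeal.mk' (N : Set A) N.zero_mem
      (fun h1 h2 => N.add_mem h1 h2) (fun h => N.neg_mem h)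
      (fun {x y} hy => by simpa using hmul x 1 y hy) (fun {x y} hx => by simpa using hmul 1 y x hx)
    have hmI : m ∈ I := by
      rw [TwoSidedIdeal.mem_mk']
      exact ⟨1, by simp [LinearMap.toSpanSingleton_apply]⟩
    have h1 := IsSimpleRing.one_mem_of_ne_zero_mem I hm hmI
    have hb : b ∈ I := by simpa using I.mul_mem_left b _ h1
    rw [TwoSidedIdeal.mem_mk', SetLike.mem_coe, LinearMap.mem_range] at hb
    exact hb
  refine @IsAzumaya.mk k A _ _ _ inferInstance inferInstance inferInstance ?_
  refine mulLeftRight_bijective_of_surjective k A fun φ => ?_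
  have hφ : ∀ (g : Module.End E A) (x : A), φ (g x) = g (φ x) := by
    intro g x
    have hl : ∀ y, g y = y * g 1 := fun y => by
      have h := g.map_smul (y ⊗ₜ[k] MulOpposite.op 1 : E) 1
      rw [← hsmul, ← hsmul] at h
      simpa using h
    have hr : ∀ y, g y = g 1 * y := fun y => by
      have h := g.map_smul ((1 : A) ⊗ₜ[k] MulOpposite.op y : E) 1
      rw [← hsmul, ← hsmul] at h
      simpa using h
    have hc : g 1 ∈ Subalgebra.center k A :=
      Subalgebra.mem_center_iff.2 fun y => by rw [← hl, ← hr]
    obtain ⟨c, hc⟩ := Algebra.IsCentral.out (K := k) (D := A) hc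
    change algebraMap k A c = g 1 at hc
    rw [hr x, hr (φ x), ← hc, ← Algebra.smul_def, ← Algebra.smul_def, map_smul]
  let f : Module.End (Module.End E A) A :=
    { toFun := φ, map_add' := φ.map_add, map_smul' := hφ }
  let b := Module.finBasis k A
  obtain ⟨t, ht⟩ := jacobson_density f (Finset.univ.image b)
  exact ⟨t, b.ext fun i => by
    rw [hsmul]; exact (ht (b i) (Finset.mem_image_of_mem _ (Finset.mem_univ i))).symm⟩

theorem isArtinianRing_of_finiteDimensional [FiniteDimensional k A] : IsArtinianRing A :=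
  IsArtinianRing.of_finite k A

section Tensor

variable (B : Type w) [Ring B] [Algebra k B]
variable [Algebra.IsCentral k A] [IsSimpleRing A] [FiniteDimensional k A]

theorem isSimpleRing_tensor_left [IsSimpleRing B] : IsSimpleRing (A ⊗[k] B) :=
  have := isAzumaya_of_isCentral k A
  isSimpleRing_tensor k A B

theorem isSimpleRing_tensor_right [IsSimpleRing B] : IsSimpleRing (B ⊗[k] A) :=
  have := isAzumaya_of_isCentral k A
  isSimpleRing_tensor' k A B

theorem isCentral_tensor_csa [Algebra.IsCentral k B] : Algebra.IsCentral k (A ⊗[k] B) :=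
  have := isAzumaya_of_isCentral k A
  isCentral_tensor k A B

omit [IsSimpleRing A] [FiniteDimensional k A] in
theorem isCentral_mulOpposite : Algebra.IsCentral k Aᵐᵒᵖ :=
  ⟨fun x hx => by
    have : x.unop ∈ Subalgebra.center k A := Subalgebra.mem_center_iff.2 fun y => by
      simpa using congrArg MulOpposite.unop (Subalgebra.mem_center_iff.1 hx (MulOpposite.op y)).symm
    obtain ⟨c, hc⟩ := Algebra.IsCentral.out (K := k) (D := A) this
    change algebraMap k A c = x.unop at hc
    exact ⟨c, MulOpposite.unop_injective hc⟩⟩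

omit [Algebra.IsCentral k A] [IsSimpleRing A] in
theorem finiteDimensional_mulOpposite : FiniteDimensional k Aᵐᵒᵖ :=
  Module.Finite.equiv (MulOpposite.opLinearEquiv k (M := A))

end Tensor

section BaseChange

variable (K : Type w) [Field K] [Algebra k K]
variable [Algebra.IsCentral k A] [IsSimpleRing A] [FiniteDimensional k A]

theorem isSimpleRing_baseChange : IsSimpleRing (K ⊗[k] A) :=
  isSimpleRing_tensor_right k A K

theorem isCentral_baseChange : Algebra.IsCentral K (K ⊗[k] A) :=
  have := isAzumaya_of_isCentral k A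
  have := isAzumaya_baseChange k K A
  isCentral K (K ⊗[k] A)

end BaseChange

section IsoOfDim

variable (R : Type v) [Ring R] [Algebra k R] [IsSimpleRing R] [IsArtinianRing R]
variable (M : Type w) [AddCommGroup M] [Module R M] [Module k M] [IsScalarTower k R M]
variable (N : Type w') [AddCommGroup N] [Module R N] [Module k N] [IsScalarTower k R N]

/-- finite modules over a simple artinian algebra with equal dimensions are isomorphic -/
theorem nonempty_linearEquiv_of_finrank_eq [Module.Finite k M] [Module.Finite k N]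
    (h : Module.finrank k M = Module.finrank k N) : Nonempty (M ≃ₗ[R] N) := by
  have : Module.Finite R M := .of_restrictScalars_finite k R M
  have : Module.Finite R N := .of_restrictScalars_finite k R N
  rcases subsingleton_or_nontrivial M with hM | hM
  · have : Subsingleton N := by
      rw [← Module.finrank_zero_iff (R := k), ← h]
      exact Module.finrank_zero_of_subsingleton
    exact ⟨LinearEquiv.ofBijective (0 : M →ₗ[R] N)
      ⟨fun _ _ _ => Subsingleton.elim _ _, fun y => ⟨0, Subsingleton.elim _ _⟩⟩⟩
  have : Nontrivial N := Module.nontrivial_of_finrank_pos (R := k) (h ▸ Module.finrank_pos)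
  obtain ⟨n, hn, S, hS, ⟨e⟩⟩ := (IsSimpleRing.isIsotypic R M).linearEquiv_fun
  obtain ⟨m, hm, T, hT, ⟨e'⟩⟩ := (IsSimpleRing.isIsotypic R N).linearEquiv_fun
  obtain ⟨I, ⟨i⟩⟩ := IsSemisimpleRing.exists_linearEquiv_ideal_of_isSimpleModule R S
  obtain ⟨J, ⟨j⟩⟩ := IsSemisimpleRing.exists_linearEquiv_ideal_of_isSimpleModule R T
  have := IsSimpleModule.congr i.symm
  have := IsSimpleModule.congr j.symm
  obtain ⟨ij⟩ := IsSimpleRing.isIsotypic R R J I
  let st : S ≃ₗ[R] T := i.trans (ij.trans j.symm)
  have hTfin : Module.Finite k T :=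
    Module.Finite.of_injective (T.subtype.restrictScalars k) T.subtype_injective
  have hSfin : Module.Finite k S := Module.Finite.equiv (st.symm.restrictScalars k)
  have hd : Module.finrank k S = Module.finrank k T := (st.restrictScalars k).finrank_eq
  have hpos : 0 < Module.finrank k T := by
    have := IsSimpleModule.nontrivial R T
    exact Module.finrank_pos
  have e1 := (e.restrictScalars k).finrank_eq
  have e2 := (e'.restrictScalars k).finrank_eq
  rw [Module.finrank_pi_fintype, Finset.sum_const, Finset.card_univ, Fintype.card_fin,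
    smul_eq_mul] at e1 e2
  have hnm : n = m := Nat.eq_of_mul_eq_mul_right hpos (by rw [← e2, ← h, e1, hd])
  subst hnm
  exact ⟨e.trans ((LinearEquiv.piCongrRight fun _ => st).trans e'.symm)⟩

end IsoOfDim

section SkolemNoether

variable (B : Type w) [Ring B] [Algebra k B] [IsSimpleRing B]
variable [Algebra.IsCentral k A] [IsSimpleRing A] [FiniteDimensional k A]

/-- the bimodule structure on `A` defined by `f` -/
noncomputable def bimodHom (f : B →ₐ[k] A) : B ⊗[k] Aᵐᵒᵖ →ₐ[k] Module.End k A :=
  (AlgHom.mulLeftRight k A).comp (Algebra.TensorProduct.map f (AlgHom.id k Aᵐᵒᵖ))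

/-- **Skolem–Noether** -/
theorem skolem_noether (f g : B →ₐ[k] A) : ∃ u : Aˣ, ∀ b, g b = u * f b * (u⁻¹ : Aˣ) := by
  have : FiniteDimensional k B :=
    Module.Finite.of_injective f.toLinearMap (RingHom.injective f.toRingHom)
  have := finiteDimensional_mulOpposite k A
  have := isCentral_mulOpposite k A
  have := isSimpleRing_tensor_right k Aᵐᵒᵖ B
  have : IsArtinianRing (B ⊗[k] Aᵐᵒᵖ) := IsArtinianRing.of_finite k _
  let R := B ⊗[k] Aᵐᵒᵖ
  let mf : Module R A := Module.compHom A (bimodHom k A B f).toRingHom
  let mg : Module R A := Module.compHom A (bimodHom k A B g).toRingHom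
  have tf : @IsScalarTower k R A _ mf.toSMul _ := @IsScalarTower.mk k R A _ mf.toSMul _ fun c r x => by
    change bimodHom k A B f (c • r) x = c • bimodHom k A B f r x
    simp
  have tg : @IsScalarTower k R A _ mg.toSMul _ := @IsScalarTower.mk k R A _ mg.toSMul _ fun c r x => by
    change bimodHom k A B g (c • r) x = c • bimodHom k A B g r x
    simp
  obtain ⟨φ⟩ := @nonempty_linearEquiv_of_finrank_eq k _ R _ _ _ _ A _ mf _ tf A _ mg _ tg _ _ rfl
  have hφ : ∀ (b : B) (a x : A), φ (f b * x * a) = g b * φ x * a := fun b a x => by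
    have := @LinearEquiv.map_smul R A A _ _ _ mf mg φ (b ⊗ₜ MulOpposite.op a) x
    change φ (bimodHom k A B f (b ⊗ₜ MulOpposite.op a) x) =
      bimodHom k A B g (b ⊗ₜ MulOpposite.op a) (φ x) at this
    simpa [bimodHom] using this
  have hx : ∀ x, φ x = φ 1 * x := fun x => by simpa using hφ 1 x 1
  obtain ⟨v, hv⟩ : ∃ v, φ v = 1 := ⟨_, φ.apply_symm_apply 1⟩
  have h1 : φ 1 * v = 1 := by rw [← hx, hv]
  have h2 : v * φ 1 = 1 := by
    apply φ.injective
    rw [hx, ← mul_assoc, h1, one_mul]
  refine ⟨⟨φ 1, v, h1, h2⟩, fun b => ?_⟩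
  have := hφ b 1 1
  rw [mul_one, mul_one, mul_one, hx] at this
  show g b = φ 1 * f b * v
  rw [this, mul_assoc, h1, mul_one]

theorem exists_unit_conj_algEquiv (e : A ≃ₐ[k] A) : ∃ u : Aˣ, ∀ a, e a = u * a * (u⁻¹ : Aˣ) :=
  skolem_noether k A A (AlgHom.id k A) e.toAlgHom

end SkolemNoether

end Groth.Agent.CSA
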