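import Groth.Agent.CSA.Ideal

/-!
# Descent of the Azumaya property
-/

set_option autoImplicit false

open TensorProduct

namespace Groth.Agent.CSA

universe u v w

variable (R : Type u) [CommRing R] (S : Type v) [CommRing S] [Algebra R S]

theorem subsingleton_of_baseChange {Q : Type w} [AddCommGroup Q] [Module R Q] [Module.Finite R Q]
    (hS : Function.Surjective (PrimeSpectrum.comap (algebraMap R S)))
    [Subsingleton (S ⊗[R] Q)] : Subsingleton Q := by
  by_contra hQ
  rw [not_subsingleton_iff_nontrivial] at hQ
  obtain ⟨N, hN, -⟩ := (eq_top_or_exists_le_coatom (⊥ : Submodule R Q)).resolve_left bot_ne_top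
  have : IsSimpleModule R (Q ⧸ N) := isSimpleModule_iff_isCoatom.2 hN
  obtain ⟨m, hm, ⟨e⟩⟩ := isSimpleModule_iff_quot_maximal.1 this
  obtain ⟨q, hq⟩ := hS ⟨m, hm.isPrime⟩
  have hle : m ≤ q.asIdeal.comap (algebraMap R S) :=
    (congrArg PrimeSpectrum.asIdeal hq).ge
  let ψ : Q →ₗ[R] S ⧸ q.asIdeal :=
    (Submodule.liftQ m (Algebra.linearMap R (S ⧸ q.asIdeal)) fun r hr => by
      rw [LinearMap.mem_ker, Algebra.linearMap_apply, IsScalarTower.algebraMap_apply R S,
        Ideal.Quotient.algebraMap_eq, Ideal.Quotient.eq_zero_iff_mem]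
      exact hle hr) ∘ₗ e.toLinearMap ∘ₗ N.mkQ
  have hψ : ψ ≠ 0 := by
    intro h
    obtain ⟨x, hx⟩ := N.mkQ_surjective (e.symm (Submodule.Quotient.mk (p := m) 1))
    have := LinearMap.congr_fun h x
    simp only [ψ, LinearMap.coe_comp, LinearEquiv.coe_coe, Function.comp_apply, hx,
      LinearEquiv.apply_symm_apply, Submodule.liftQ_apply, Algebra.linearMap_apply, map_one,
      LinearMap.zero_apply] at this
    exact q.2.ne_top ((Ideal.eq_top_iff_one _).2 (Ideal.Quotient.eq_zero_iff_mem.1 this))
  refine hψ (LinearMap.ext fun x => ?_)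
  have : ψ x = (ψ.liftBaseChange S) ((1 : S) ⊗ₜ x) := by simp
  rw [this, Subsingleton.elim ((1 : S) ⊗ₜ[R] x) 0, map_zero, LinearMap.zero_apply]

theorem surjective_of_lTensor_surjective {M N : Type*} [AddCommGroup M] [Module R M]
    [AddCommGroup N] [Module R N] [Module.Finite R N]
    (hS : Function.Surjective (PrimeSpectrum.comap (algebraMap R S))) (f : M →ₗ[R] N)
    (hf : Function.Surjective (f.lTensor S)) : Function.Surjective f := by
  have hsub : Subsingleton (S ⊗[R] (N ⧸ LinearMap.range f)) := by
    refine ⟨fun a b => ?_⟩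
    suffices ∀ z, z = (0 : S ⊗[R] (N ⧸ LinearMap.range f)) by rw [this a, this b]
    intro z
    obtain ⟨y, rfl⟩ := LinearMap.lTensor_surjective S (Submodule.mkQ_surjective (LinearMap.range f)) z
    obtain ⟨x, rfl⟩ := hf y
    rw [← LinearMap.comp_apply, ← LinearMap.lTensor_comp, LinearMap.range_mkQ_comp,
      LinearMap.lTensor_zero, LinearMap.zero_apply]
  have := subsingleton_of_baseChange R S (Q := N ⧸ LinearMap.range f) hS
  rw [← LinearMap.range_eq_top]
  exact (Submodule.Quotient.subsingleton_iff).1 this

section EndBaseChange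

variable (A : Type w) [AddCommGroup A] [Module R A] [Module.Finite R A] [Module.Projective R A]

theorem endBaseChange_injective :
    Function.Injective ((LinearMap.baseChangeHom R S A A).liftBaseChange S) := by
  obtain ⟨n, e, f, hef⟩ := exists_dual_basis R A
  let F : Fin n → A →ₗ[R] (A →ₗ[R] A) := fun i =>
    { toFun := fun a => (f i).smulRight a
      map_add' := fun a b => by ext; simp
      map_smul' := fun c a => LinearMap.ext fun x => smul_comm (f i x) c a }
  refine Function.LeftInverse.injective
    (g := fun h => ∑ i, (F i).baseChange S (h ((1 : S) ⊗ₜ e i))) fun z => ?_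
  induction z using TensorProduct.induction_on with
  | zero => simp
  | add x y hx hy => simp only [map_add, LinearMap.add_apply, Finset.sum_add_distrib, hx, hy]
  | tmul s φ =>
    simp only [LinearMap.liftBaseChange_tmul, LinearMap.smul_apply, LinearMap.baseChangeHom_apply,
      LinearMap.baseChange_tmul, smul_tmul', smul_eq_mul, mul_one]
    rw [← tmul_sum]
    congr 1
    ext a
    conv_rhs => rw [← hef a]
    simp [F, map_sum]

end EndBaseChange

theorem isAzumaya_of_baseChange (B : Type w) [Ring B] [Algebra R B] [Module.Finite R B]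
    [Module.Projective R B] (hS : Function.Surjective (PrimeSpectrum.comap (algebraMap R S)))
    [IsAzumaya S (S ⊗[R] B)] : IsAzumaya R B := by
  obtain ⟨n, e, f, hef⟩ := exists_dual_basis R B
  have hg : ∃ g : Module.Dual R B, g 1 = 1 := by
    let T : Ideal R := LinearMap.range (Module.Dual.eval R B 1)
    suffices h1 : T = ⊤ from (Ideal.eq_top_iff_one T).1 h1
    by_contra hT
    obtain ⟨m, hm, hTm⟩ := Ideal.exists_le_maximal T hT
    obtain ⟨q, hq⟩ := hS ⟨m, hm.isPrime⟩
    obtain ⟨G, hG⟩ := exists_dual_one_eq_one S (S ⊗[R] B)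
    apply q.2.ne_top
    rw [Ideal.eq_top_iff_one, ← hG, Algebra.TensorProduct.one_def, ← hef 1, tmul_sum, map_sum]
    refine Ideal.sum_mem _ fun i _ => ?_
    rw [tmul_smul, ← IsScalarTower.algebraMap_smul S (f i 1), map_smul, smul_eq_mul]
    refine Ideal.mul_mem_right _ _ ?_
    have : f i 1 ∈ (PrimeSpectrum.comap (algebraMap R S) q).asIdeal := by
      rw [hq]; exact hTm ⟨f i, rfl⟩
    exact this
  obtain ⟨g, hg⟩ := hg
  have : FaithfulSMul R B := ⟨fun {r s} h => by simpa [hg] using congrArg g (h 1)⟩
  refine @IsAzumaya.mk R B _ _ _ inferInstance inferInstance inferInstance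
    (mulLeftRight_bijective_of_surjective R B ?_)
  have := Module.finitePresentation_of_projective R B
  have : Module.Finite R (Module.End R B) := .equiv (dualTensorHomEquiv R B B)
  let φ := (AlgHom.mulLeftRight R B).toLinearMap
  let Ψ := (LinearMap.baseChangeHom R S B B).liftBaseChange S
  refine surjective_of_lTensor_surjective R S hS φ fun z => ?_
  have key : ∀ x : (S ⊗[R] B) ⊗[S] (S ⊗[R] B)ᵐᵒᵖ, ∃ y : S ⊗[R] (B ⊗[R] Bᵐᵒᵖ),
      Ψ (φ.baseChange S y) = AlgHom.mulLeftRight S (S ⊗[R] B) x := by
    suffices H : ∀ a b : S ⊗[R] B, ∃ y : S ⊗[R] (B ⊗[R] Bᵐᵒᵖ),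
        Ψ (φ.baseChange S y) = AlgHom.mulLeftRight S (S ⊗[R] B) (a ⊗ₜ MulOpposite.op b) by
      intro x
      induction x using TensorProduct.induction_on with
      | zero => exact ⟨0, by simp⟩
      | tmul a b => exact H a b.unop
      | add x y hx hy =>
        obtain ⟨u, hu⟩ := hx; obtain ⟨v, hv⟩ := hy
        exact ⟨u + v, by simp only [map_add, hu, hv]⟩
    intro a b
    induction a using TensorProduct.induction_on with
    | zero => exact ⟨0, by simp⟩
    | add a a' ha ha' =>
      obtain ⟨u, hu⟩ := ha; obtain ⟨v, hv⟩ := ha'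
      exact ⟨u + v, by simp only [add_tmul, map_add, hu, hv]⟩
    | tmul s c =>
      induction b using TensorProduct.induction_on with
      | zero => exact ⟨0, by simp⟩
      | add b b' hb hb' =>
        obtain ⟨u, hu⟩ := hb; obtain ⟨v, hv⟩ := hb'
        exact ⟨u + v, by simp only [MulOpposite.op_add, tmul_add, map_add, hu, hv]⟩
      | tmul t d =>
        refine ⟨(s * t) ⊗ₜ (c ⊗ₜ MulOpposite.op d), ?_⟩
        refine LinearMap.ext fun w => ?_
        induction w using TensorProduct.induction_on with
        | zero => simp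
        | add w w' hw hw' => simp only [map_add, hw, hw']
        | tmul r m =>
          simp [Ψ, φ, smul_tmul', mul_comm, mul_assoc, mul_left_comm]
  obtain ⟨x, hx⟩ := (IsAzumaya.bij (R := S) (A := S ⊗[R] B)).2 (Ψ z)
  obtain ⟨y, hy⟩ := key x
  exact ⟨y, endBaseChange_injective R S B (hy.trans hx)⟩

theorem projective_of_faithfullyFlat (B : Type w) [AddCommGroup B] [Module R B]
    [Module.FaithfullyFlat R S] [Module.Finite S (S ⊗[R] B)] [Module.Projective S (S ⊗[R] B)] :
    Module.Finite R B ∧ Module.Projective R B := by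
  have hfin : Module.Finite R B := Module.Finite.of_finite_tensorProduct_of_faithfullyFlat S
  have : Module.Flat R B := Module.Flat.of_flat_tensorProduct R B S
  obtain ⟨n, p, hp⟩ := Module.Finite.exists_fin' R B
  let K := LinearMap.ker p
  have : Module.FinitePresentation R B := by
    refine Module.finitePresentation_of_surjective p hp ?_
    rw [← Module.Finite.iff_fg]
    have hex : Function.Exact K.subtype p := LinearMap.exact_subtype_ker_map p
    have hexS : Function.Exact (K.subtype.baseChange S) (p.baseChange S) :=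
      lTensor_exact S hex hp
    have hinj : Function.Injective (K.subtype.baseChange S) :=
      Module.Flat.lTensor_preserves_injective_linearMap _ K.subtype_injective
    obtain ⟨σ, hσ⟩ := Module.projective_lifting_property (p.baseChange S) LinearMap.id
      (LinearMap.lTensor_surjective S hp)
    have : Module.Finite S (LinearMap.range (K.subtype.baseChange S)) := by
      let π : S ⊗[R] (Fin n → R) →ₗ[S] LinearMap.range (K.subtype.baseChange S) :=
        LinearMap.codRestrict _ (LinearMap.id - σ ∘ₗ p.baseChange S) fun x => by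
          rw [LinearMap.mem_range]
          refine (hexS _).1 ?_
          simp
          rw [show p.baseChange S (σ (p.baseChange S x)) = p.baseChange S x from
            LinearMap.congr_fun hσ _, sub_self]
      refine Module.Finite.of_surjective π fun y => ⟨y.1, Subtype.ext ?_⟩
      have h0 : p.baseChange S y.1 = 0 := (hexS _).2 y.2
      simp [π, h0]
    have : Module.Finite S (S ⊗[R] K) :=
      Module.Finite.equiv (LinearEquiv.ofInjective _ hinj).symm
    exact Module.Finite.of_finite_tensorProduct_of_faithfullyFlat S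
  exact ⟨hfin, Module.Flat.projective_of_finitePresentation⟩

end Groth.Agent.CSA
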