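import Groth.Agent.CSA.BrauerGroup

/-!
# Base change of Brauer classes and splitting fields
-/

set_option autoImplicit false

open TensorProduct Module

namespace Groth.Agent.CSA

universe u v w w'

variable (k : Type u) [Field k]

section ModuleDim

variable {D : Type v} [DivisionRing D] [Algebra k D] [FiniteDimensional k D]

/-- modules over `M_m(D)` have dimension divisible by `m [D : k]` -/
theorem dvd_finrank_module (m : ℕ) (M : Type w) [AddCommGroup M] [Module k M]
    [FiniteDimensional k M] (ρ : Matrix (Fin m) (Fin m) D →ₐ[k] Module.End k M) :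
    m * finrank k D ∣ finrank k M := by
  classical
  rcases Nat.eq_zero_or_pos m with rfl | hm
  · have : Subsingleton M := ⟨fun x y => by
      have h : ρ 1 = ρ 0 := congrArg ρ (Subsingleton.elim 1 0)
      rw [map_one, map_zero] at h
      rw [← Module.End.one_apply (R := k) x, ← Module.End.one_apply (R := k) y, h]
      rfl⟩
    simp [finrank_zero_of_subsingleton]
  let o : Fin m := ⟨0, hm⟩
  let E : Fin m → Fin m → Module.End k M := fun i j => ρ (Matrix.single i j 1)
  have hE : ∀ i j l x, E i j (E j l x) = E i l x := fun i j l x => by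
    show (ρ _ * ρ _) x = _
    rw [← map_mul, Matrix.single_mul_single_same, one_mul]
  have hE0 : ∀ i j j' l x, j ≠ j' → E i j (E j' l x) = 0 := fun i j j' l x h => by
    show (ρ _ * ρ _) x = _
    rw [← map_mul]
    simp [h]
  let W : Submodule k M := LinearMap.range (E o o)
  let s : D →ₐ[k] Module.End k M := ρ.comp (Matrix.scalarAlgHom (Fin m) k)
  have hs : ∀ d, ∀ x ∈ W, s d x ∈ W := by
    rintro d _ ⟨x, rfl⟩
    refine ⟨s d x, ?_⟩
    show (ρ _ * ρ _) x = (ρ _ * ρ _) x
    rw [← map_mul, ← map_mul]
    congr 2
    ext a b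
    show (Matrix.single o o (1 : D) * (Matrix.diagonal fun _ => d : Matrix (Fin m) (Fin m) D)) a b =
      ((Matrix.diagonal fun _ => d : Matrix (Fin m) (Fin m) D) * Matrix.single o o (1 : D)) a b
    simp only [Matrix.diagonal_mul, Matrix.mul_diagonal, Matrix.single_apply]
    split_ifs <;> simp
  let σ : D →ₐ[k] Module.End k W :=
    { toFun := fun d => (s d).restrict (hs d)
      map_one' := by ext; simp
      map_mul' := fun a b => by ext; simp
      map_zero' := by ext; simp
      map_add' := fun a b => by ext; simp
      commutes' := fun c => by ext; simp }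
  let Φ : M ≃ₗ[k] (Fin m → W) :=
    LinearEquiv.ofLinearMap
      (LinearMap.pi fun i => (E o i).codRestrict W fun x => ⟨E o i x, hE o o i x⟩)
      (∑ i, (E i o).comp (W.subtype.comp (LinearMap.proj i)))
      (by
        refine LinearMap.ext fun v => funext fun j => Subtype.ext ?_
        obtain ⟨y, hy⟩ := (v j).2
        show E o j ((∑ i, (E i o).comp (W.subtype.comp (LinearMap.proj i))) v) = _
        rw [LinearMap.sum_apply, map_sum, Finset.sum_eq_single j]
        · show E o j (E j o (v j : M)) = (v j : M)
          rw [hE, ← hy, hE]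
        · exact fun i _ hi => hE0 _ _ _ _ _ (Ne.symm hi)
        · simp)
      (by
        refine LinearMap.ext fun x => ?_
        show (∑ i, (E i o).comp (W.subtype.comp (LinearMap.proj i))) _ = x
        rw [LinearMap.sum_apply]
        show ∑ i, E i o (E o i x) = x
        simp only [hE, E]
        rw [← LinearMap.sum_apply, ← map_sum, Matrix.sum_single_one, map_one]
        rfl)
  letI : Module D W := Module.compHom W σ.toRingHom
  haveI : IsScalarTower k D W := ⟨fun c d x => by
    show σ (c • d) x = c • σ d x
    rw [map_smul, LinearMap.smul_apply]⟩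
  haveI : Module.Finite D W := Module.Finite.of_restrictScalars_finite k D W
  rw [Φ.finrank_eq, finrank_pi_fintype, Finset.sum_const, Finset.card_univ, Fintype.card_fin,
    smul_eq_mul, ← finrank_mul_finrank k D W, ← mul_assoc]
  exact dvd_mul_right _ _

end ModuleDim

section Res

variable (L : Type w) [Field L] [Algebra k L]
variable (A : Type v) [Ring A] [Algebra k A]

/-- base change of matrices over an algebra -/
noncomputable def baseChangeMatrix (n : ℕ) :
    L ⊗[k] Matrix (Fin n) (Fin n) A ≃ₐ[L] Matrix (Fin n) (Fin n) (L ⊗[k] A) :=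
  AlgEquiv.ofRingEquiv
    (f := ((Algebra.TensorProduct.congr AlgEquiv.refl (matrixEquivTensor (Fin n) k A)).trans
      ((Algebra.TensorProduct.assoc k k k L A _).symm.trans
        (matrixEquivTensor (Fin n) k (L ⊗[k] A)).symm)).toRingEquiv)
    fun c => by
      show (matrixEquivTensor (Fin n) k (L ⊗[k] A)).symm
        ((Algebra.TensorProduct.assoc k k k L A _).symm
          (Algebra.TensorProduct.congr AlgEquiv.refl (matrixEquivTensor (Fin n) k A) (c ⊗ₜ 1))) = _
      rw [Algebra.TensorProduct.congr_apply, Algebra.TensorProduct.map_tmul, map_one,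
        Algebra.TensorProduct.one_def, Algebra.TensorProduct.assoc_symm_tmul]
      show (matrixEquivTensor (Fin n) k (L ⊗[k] A)).symm ((c ⊗ₜ (1 : A)) ⊗ₜ 1) = _
      rw [matrixEquivTensor_apply_symm]
      ext a b
      simp [Matrix.algebraMap_eq_diagonal, Matrix.diagonal_apply, Matrix.one_apply]

/-- cancellation of a base change, for noncommutative algebras -/
noncomputable def cancelBC (B : Type w') [Ring B] [Algebra L B] [Algebra k B] [IsScalarTower k L B] :
    B ⊗[L] (L ⊗[k] A) ≃ₐ[L] B ⊗[k] A :=
  AlgEquiv.symm <| AlgEquiv.ofLinearEquiv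
    (TensorProduct.AlgebraTensorModule.cancelBaseChange k L L B A).symm
    (by simp [Algebra.TensorProduct.one_def]) <|
      LinearMap.map_mul_of_map_mul_tmul (fun _ _ _ _ ↦ by simp)

/-- cancellation of a base change along a tower -/
noncomputable def cancelTower (M : Type w') [Field M] [Algebra L M] [Algebra k M] [IsScalarTower k L M] :
    M ⊗[L] (L ⊗[k] A) ≃ₐ[M] M ⊗[k] A :=
  AlgEquiv.symm <| AlgEquiv.ofLinearEquiv
    (TensorProduct.AlgebraTensorModule.cancelBaseChange k L M M A).symm
    (by simp [Algebra.TensorProduct.one_def]) <|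
      LinearMap.map_mul_of_map_mul_tmul (fun _ _ _ _ ↦ by simp)

variable [Algebra.IsCentral k A] [IsSimpleRing A] [FiniteDimensional k A]

instance instIsSimpleRingBaseChange : IsSimpleRing (L ⊗[k] A) := isSimpleRing_baseChange k A L

instance instIsCentralBaseChange : Algebra.IsCentral L (L ⊗[k] A) := isCentral_baseChange k A L

end Res

section ResHom

variable (L : Type w) [Field L] [Algebra k L]

theorem brEq_baseChange {A : Type v} [Ring A] [Algebra k A] {B : Type w'} [Ring B] [Algebra k B]
    (h : BrEq k A B) : BrEq L (L ⊗[k] A) (L ⊗[k] B) := by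
  obtain ⟨n, m, hn, hm, ⟨e⟩⟩ := h
  exact ⟨n, m, hn, hm, ⟨(baseChangeMatrix k L A n).symm.trans
    ((Algebra.TensorProduct.congr AlgEquiv.refl e).trans (baseChangeMatrix k L B m))⟩⟩

/-- base change of Brauer classes -/
noncomputable def res : Br k →* Br L where
  toFun := Quotient.lift (fun X : CSAlg k => cl L (L ⊗[k] X.S))
    fun _ _ h => (cl_eq_cl_iff L _ _).2 (brEq_baseChange k L h)
  map_one' := (cl_congr L _ _ (Algebra.TensorProduct.congr AlgEquiv.refl (regEquiv k k).symm)).trans
    (cl_congr L _ _ (Algebra.TensorProduct.rid k L L))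
  map_mul' x y := by
    induction x using Quotient.ind with
    | _ X =>
      induction y using Quotient.ind with
      | _ Y =>
        show cl L (L ⊗[k] (toCSAlg k (X.S ⊗[k] Y.S)).S) = cl L (L ⊗[k] X.S) * cl L (L ⊗[k] Y.S)
        rw [← cl_tensor]
        exact cl_congr L _ _ (((Algebra.TensorProduct.congr AlgEquiv.refl (regEquiv k _).symm).trans
          (Algebra.TensorProduct.assoc k k L L X.S Y.S).symm).trans
          (cancelBC k L Y.S (L ⊗[k] X.S)).symm)

theorem res_cl (A : Type v) [Ring A] [Algebra k A] [Algebra.IsCentral k A] [IsSimpleRing A]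
    [FiniteDimensional k A] : res k L (cl k A) = cl L (L ⊗[k] A) :=
  cl_congr L _ _ (Algebra.TensorProduct.congr AlgEquiv.refl (regEquiv k A).symm)

theorem res_res (M : Type w') [Field M] [Algebra k M] [Algebra L M] [IsScalarTower k L M] (x : Br k) :
    res L M (res k L x) = res k M x := by
  induction x using Br.ind with
  | h X =>
    rw [res_cl, res_cl, res_cl]
    exact cl_congr M _ _ (cancelTower k L X.S M)

theorem splits_iff (A : Type v) [Ring A] [Algebra k A] [Algebra.IsCentral k A] [IsSimpleRing A]
    [FiniteDimensional k A] : Curves.Splits k A L ↔ res k L (cl k A) = 1 := by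
  rw [res_cl, cl_eq_one_iff]
  exact ⟨fun ⟨n, hn, ⟨e⟩⟩ => ⟨n, hn, ⟨(Algebra.TensorProduct.lid L _).trans e⟩⟩,
    fun ⟨n, hn, ⟨e⟩⟩ => ⟨n, hn, ⟨(Algebra.TensorProduct.lid L _).symm.trans e⟩⟩⟩

/-- the index divides the degree of a splitting field -/
theorem ind_dvd_finrank [FiniteDimensional k L] {x : Br k} (h : res k L x = 1) :
    ind k x ∣ finrank k L := by
  induction x using Br.ind with
  | h X =>
    obtain ⟨m, D, _, _, _, _, hm, -, hD, hA, ⟨e⟩⟩ := exists_matrix_division k X.S
    obtain ⟨n, hn, ⟨φ⟩⟩ := (splits_iff k L X.S).2 h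
    have hnd : n = m * ind k (cl k X.S) := Nat.pow_left_injective two_ne_zero (by
      show n ^ 2 = _ ^ 2
      rw [← hA, ← Module.finrank_baseChange (R := L), φ.toLinearEquiv.finrank_eq, finrank_matrix]
      simp [sq])
    let ρ : X.S →ₐ[k] Module.End k (Fin n → L) :=
      (mulVecHom k L (Fin n)).comp
        ((φ.toAlgHom.restrictScalars k).comp Algebra.TensorProduct.includeRight)
    obtain ⟨c, hc⟩ := dvd_finrank_module k m (Fin n → L) (ρ.comp e.symm.toAlgHom)
    rw [finrank_pi_fintype, Finset.sum_const, Finset.card_univ, Fintype.card_fin, smul_eq_mul, hD,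
      hnd] at hc
    refine ⟨c, Nat.eq_of_mul_eq_mul_left
      (Nat.mul_pos (Nat.pos_of_ne_zero hm) (ind_pos k (cl k X.S))) ?_⟩
    rw [hc]; ring

end ResHom

section Maximal

variable (D : Type v) [DivisionRing D] [Algebra k D] [Algebra.IsCentral k D] [FiniteDimensional k D]

/-- a self-centralizing commutative subalgebra as a field -/
@[reducible] noncomputable def fieldOfComm (L : Subalgebra k D) (hc : ∀ x ∈ L, ∀ y ∈ L, x * y = y * x) :
    Field L :=
  { (inferInstance : Ring L), divisionRingOfFiniteDimensional k L with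
    mul_comm := fun a b => Subtype.ext (hc a a.2 b b.2) }

/-- self-centralizing subfields split -/
theorem splitting_of_centralizer_eq (L : Subalgebra k D) (hc : ∀ x ∈ L, ∀ y ∈ L, x * y = y * x)
    (hL : Subalgebra.centralizer k (L : Set D) = L) :
    letI := fieldOfComm k D L hc
    finrank k L = ind k (cl k D) ∧ res k L (cl k D) = 1 := by
  classical
  letI := fieldOfComm k D L hc
  have hC : finrank k L * finrank k L = finrank k D := by
    have h1 := hL
    have := CSACentralizer.isSimpleRing_subalgebra k D L
    have h2 := CSACentralizer.finrank_mul_finrank_centralizer k D L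
    rwa [h1] at h2
  have hd : finrank k L = ind k (cl k D) :=
    Nat.pow_left_injective two_ne_zero (by
      show _ ^ 2 = _ ^ 2
      rw [← finrank_eq_ind_sq k (D := D), sq, hC])
  refine ⟨hd, ?_⟩
  haveI : Module.Finite L D := Module.Finite.of_restrictScalars_finite k L D
  let f : Dᵐᵒᵖ →ₐ[k] Module.End L D :=
    { toFun := fun d =>
        { toFun := fun x => x * d.unop
          map_add' := fun x y => add_mul x y _
          map_smul' := fun l x => mul_assoc (l : D) x _ }
      map_one' := LinearMap.ext fun x => mul_one x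
      map_mul' := fun a b => LinearMap.ext fun x => (mul_assoc x _ _).symm
      map_zero' := LinearMap.ext fun x => mul_zero x
      map_add' := fun a b => LinearMap.ext fun x => mul_add x _ _
      commutes' := fun c => LinearMap.ext fun x => by
        show x * algebraMap k D c = c • x
        rw [← Algebra.commutes, Algebra.smul_def] }
  let F : L ⊗[k] Dᵐᵒᵖ →ₐ[L] Module.End L D :=
    Algebra.TensorProduct.lift (Algebra.ofId L (Module.End L D)) f fun l d => Algebra.commutes l _
  have hdim : finrank L D = finrank k L :=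
    Nat.eq_of_mul_eq_mul_left Module.finrank_pos ((finrank_mul_finrank k L D).trans hC.symm)
  haveI : IsSimpleRing (L ⊗[k] Dᵐᵒᵖ) := instIsSimpleRingBaseChange k L Dᵐᵒᵖ
  have hinj : Function.Injective F := RingHom.injective F.toRingHom
  have hfr : finrank L (L ⊗[k] Dᵐᵒᵖ) = finrank L (Module.End L D) := by
    rw [Module.finrank_baseChange, Module.finrank_linearMap, hdim, hC,
      (MulOpposite.opLinearEquiv k (M := D)).finrank_eq]
  have hbij : Function.Bijective F := ⟨hinj,
    (LinearMap.injective_iff_surjective_of_finrank_eq_finrank hfr (f := F.toLinearMap)).1 hinj⟩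
  have h1 : res k L (cl k Dᵐᵒᵖ) = 1 := by
    rw [res_cl, one_def, cl_eq_cl_iff]
    exact (BrEq.of_algEquiv ((AlgEquiv.ofBijective F hbij).trans
      (algEquivMatrix (Module.finBasis L D)))).trans (BrEq.matrix _ Module.finrank_pos.ne')
  have h2 := congrArg (res k L) (cl_mul_cl_mulOpposite k D)
  rwa [map_mul, h1, mul_one, map_one] at h2

/-- maximal separable subfields split -/
theorem exists_separable_splitting_division :
    ∃ (L : Type v) (_ : Field L) (_ : Algebra k L), FiniteDimensional k L ∧ Algebra.IsSeparable k L ∧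
      finrank k L = ind k (cl k D) ∧ res k L (cl k D) = 1 := by
  obtain ⟨L, hc, hmax, hsep⟩ := CSACentralizer.exists_separable_maximal k D
  letI := fieldOfComm k D L hc
  obtain ⟨h1, h2⟩ := splitting_of_centralizer_eq k D L hc
    (CSACentralizer.centralizer_eq_of_maximal k D L hc hmax)
  exact ⟨L, inferInstance, inferInstance, inferInstance, hsep, h1, h2⟩

end Maximal

section Consequences

theorem exists_separable_splitting (x : Br k) :
    ∃ (L : Type u) (_ : Field L) (_ : Algebra k L), FiniteDimensional k L ∧ Algebra.IsSeparable k L ∧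
      finrank k L = ind k x ∧ res k L x = 1 := by
  obtain ⟨D, _, _, _, _, rfl⟩ := exists_division k x
  exact exists_separable_splitting_division k D

theorem ind_pow_dvd (x : Br k) (i : ℕ) : ind k (x ^ i) ∣ ind k x := by
  obtain ⟨L, _, _, _, -, hL, hx⟩ := exists_separable_splitting k x
  rw [← hL]
  exact ind_dvd_finrank k L (by rw [map_pow, hx, one_pow])

theorem ind_inv (x : Br k) : ind k x⁻¹ = ind k x := by
  have key : ∀ y : Br k, ind k y⁻¹ ∣ ind k y := fun y => by
    obtain ⟨L, _, _, _, -, hL, hy⟩ := exists_separable_splitting k y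
    rw [← hL]
    exact ind_dvd_finrank k L (by rw [map_inv, hy, inv_one])
  exact Nat.dvd_antisymm (key x) (by simpa using key x⁻¹)

theorem ind_mul_dvd (x y : Br k) : ind k (x * y) ∣ ind k x * ind k y := by
  obtain ⟨D, _, _, _, _, rfl⟩ := exists_division k x
  obtain ⟨E, _, _, _, _, rfl⟩ := exists_division k y
  rw [← cl_tensor]
  refine ind_dvd k ?_
  rw [finrank_tensorProduct, finrank_eq_ind_sq k (D := D), finrank_eq_ind_sq k (D := E), mul_pow]

theorem ind_prod_dvd {ι : Type*} (s : Finset ι) (x : ι → Br k) :
    ind k (∏ i ∈ s, x i) ∣ ∏ i ∈ s, ind k (x i) := by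
  classical
  induction s using Finset.induction_on with
  | empty => simp [ind_one]
  | @insert a s ha ih =>
    rw [Finset.prod_insert ha, Finset.prod_insert ha]
    exact (ind_mul_dvd k _ _).trans (mul_dvd_mul_left _ ih)

variable (L : Type w) [Field L] [Algebra k L]

theorem ind_res_dvd (x : Br k) : ind L (res k L x) ∣ ind k x := by
  obtain ⟨D, _, _, _, _, rfl⟩ := exists_division k x
  obtain ⟨d, -, hd⟩ := exists_deg k D
  rw [res_cl, ind_eq_of_finrank k hd]
  exact ind_dvd L ((Module.finrank_baseChange (R := L)).trans hd)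

theorem ind_dvd_finrank_mul [FiniteDimensional k L] (x : Br k) :
    ind k x ∣ finrank k L * ind L (res k L x) := by
  obtain ⟨M, _, _, _, -, hM, hx⟩ := exists_separable_splitting L (res k L x)
  letI : Algebra k M := ((algebraMap L M).comp (algebraMap k L)).toAlgebra
  haveI : IsScalarTower k L M := .of_algebraMap_eq fun _ => rfl
  haveI : FiniteDimensional k M := Module.Finite.trans L M
  rw [← hM, finrank_mul_finrank k L M]
  exact ind_dvd_finrank k M (by rw [← res_res k L M, hx])

end Consequences

end Groth.Agent.CSA
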