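import Mathlib

/-!
# The antisymmetriser on tensor powers, as a matrix
-/

set_option autoImplicit false

open Matrix Module Equiv

namespace Groth.Agent.CSA

universe u

variable (K : Type u) [Field K] (r n : ℕ)

/-- permutation of the tensor factors -/
def permMat (σ : Perm (Fin r)) : Matrix (Fin r → Fin n) (Fin r → Fin n) K :=
  Matrix.of fun s t => if t = s ∘ σ then 1 else 0

theorem permMat_one : permMat K r n 1 = 1 := by
  ext s t
  simp [permMat, Matrix.one_apply, eq_comm]

theorem permMat_mul (σ τ : Perm (Fin r)) :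
    permMat K r n σ * permMat K r n τ = permMat K r n (σ * τ) := by
  ext s t
  simp only [permMat, Matrix.mul_apply, Matrix.of_apply, ite_mul, one_mul, zero_mul,
    Finset.sum_ite_eq', Finset.mem_univ, if_true]
  rfl

/-- the antisymmetriser -/
def altMat : Matrix (Fin r → Fin n) (Fin r → Fin n) K :=
  ∑ σ : Perm (Fin r), ((Perm.sign σ : ℤ) : K) • permMat K r n σ

theorem vecMul_altMat (v : (Fin r → Fin n) → K) (t : Fin r → Fin n) :
    (v ᵥ* altMat K r n) t = ∑ σ : Perm (Fin r), ((Perm.sign σ : ℤ) : K) * v (t ∘ ⇑σ) := by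
  simp only [altMat, Matrix.vecMul_sum, Finset.sum_apply, Matrix.vecMul_smul, Pi.smul_apply,
    smul_eq_mul]
  refine Fintype.sum_equiv (Equiv.inv (Perm (Fin r))) _ _ fun σ => ?_
  simp only [Equiv.inv_apply, Perm.sign_inv]
  congr 1
  simp only [Matrix.vecMul, dotProduct, permMat, Matrix.of_apply, mul_ite, mul_one, mul_zero]
  rw [Finset.sum_eq_single (t ∘ ⇑σ⁻¹)]
  · rw [if_pos]
    funext i
    simp
  · intro s _ hs
    rw [if_neg]
    rintro rfl
    apply hs
    funext i
    simp
  · simp

theorem vecMul_altMat_comp (v : (Fin r → Fin n) → K) (t : Fin r → Fin n) (τ : Perm (Fin r)) :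
    (v ᵥ* altMat K r n) (t ∘ ⇑τ) = ((Perm.sign τ : ℤ) : K) * (v ᵥ* altMat K r n) t := by
  rw [vecMul_altMat, vecMul_altMat, Finset.mul_sum]
  refine Fintype.sum_equiv (Equiv.mulLeft τ) _ _ fun σ => ?_
  simp only [Equiv.coe_mulLeft, map_mul, Units.val_mul, Int.cast_mul, Perm.coe_mul]
  rw [← mul_assoc, ← mul_assoc, ← Int.cast_mul ((Perm.sign τ : ℤ)) _, ← Units.val_mul,
    Int.units_mul_self]
  simp [Function.comp_assoc]

theorem vecMul_altMat_eq_zero (v : (Fin r → Fin n) → K) (t : Fin r → Fin n)
    (ht : ¬ Function.Injective t) : (v ᵥ* altMat K r n) t = 0 := by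
  obtain ⟨a, b, hab, hne⟩ := Function.not_injective_iff.1 ht
  rw [vecMul_altMat]
  have htab : t ∘ ⇑(Equiv.swap a b) = t := by
    funext c
    simp only [Function.comp_apply, Equiv.swap_apply_def]
    split_ifs with h1 h2
    · rw [h1, hab]
    · rw [h2, hab]
    · rfl
  refine Finset.sum_involution (fun σ _ => Equiv.swap a b * σ) (fun σ _ => ?_) (fun σ _ _ => ?_)
    (fun σ _ => Finset.mem_univ _) (fun σ _ => ?_)
  · rw [show t ∘ ⇑(Equiv.swap a b * σ) = t ∘ ⇑σ by rw [Perm.coe_mul, ← Function.comp_assoc, htab],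
      map_mul, Perm.sign_swap hne]
    simp
  · intro h
    have : Equiv.swap a b = 1 := mul_right_cancel (h.trans (one_mul σ).symm)
    exact hne (Equiv.swap_eq_refl_iff.1 this)
  · rw [← mul_assoc, Equiv.swap_mul_self, one_mul]

/-- strictly increasing tuples -/
abbrev Incr := {s : Fin r → Fin n // StrictMono s}

theorem exists_sort (t : Fin r → Fin n) (ht : Function.Injective t) :
    ∃ (s : Incr r n) (σ : Perm (Fin r)), t = s.1 ∘ ⇑σ := by
  refine ⟨⟨t ∘ ⇑(Tuple.sort t), (Tuple.monotone_sort t).strictMono_of_injective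
    (ht.comp (Tuple.sort t).injective)⟩, (Tuple.sort t)⁻¹, ?_⟩
  funext i
  simp

theorem eq_one_of_comp_eq (s s' : Incr r n) (σ : Perm (Fin r)) (h : s.1 ∘ ⇑σ = s'.1) :
    σ = 1 ∧ s = s' := by
  have hσ : StrictMono σ := fun a b hab => by
    have : (s.1 ∘ ⇑σ) a < (s.1 ∘ ⇑σ) b := by rw [h]; exact s'.2 hab
    exact s.2.lt_iff_lt.1 this
  have h1 : σ = 1 := by
    ext1 x
    exact DFunLike.congr_fun
      (Subsingleton.elim (hσ.orderIsoOfSurjective _ σ.surjective) (OrderIso.refl _)) x
  subst h1
  exact ⟨rfl, Subtype.ext (by simpa using h)⟩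

theorem card_incr : Fintype.card (Incr r n) = n.choose r := by
  classical
  rw [← Fintype.card_fin n, ← Fintype.card_finset_len r]
  refine Fintype.card_congr ?_
  rw [Fintype.card_fin]
  exact
    { toFun := fun s => ⟨Finset.univ.image s.1, by
        rw [Finset.card_image_of_injective _ s.2.injective, Finset.card_univ, Fintype.card_fin]⟩
      invFun := fun S => ⟨S.1.orderEmbOfFin S.2, (S.1.orderEmbOfFin S.2).strictMono⟩
      left_inv := fun s => Subtype.ext (Finset.orderEmbOfFin_unique _
        (fun x => Finset.mem_image_of_mem _ (Finset.mem_univ x)) s.2).symm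
      right_inv := fun S => Subtype.ext (Finset.image_orderEmbOfFin_univ S.1 S.2) }

theorem finrank_range_altMat :
    finrank K (LinearMap.range (altMat K r n).vecMulLinear) = n.choose r := by
  classical
  let R : ((Fin r → Fin n) → K) →ₗ[K] (Incr r n → K) := LinearMap.funLeft K K Subtype.val
  let W := LinearMap.range (altMat K r n).vecMulLinear
  have hinj : Function.Injective (R.comp W.subtype) := by
    refine (injective_iff_map_eq_zero _).2 fun ⟨w, v, hv⟩ hw => Subtype.ext (funext fun t => ?_)
    subst hv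
    show (v ᵥ* altMat K r n) t = 0
    by_cases ht : Function.Injective t
    · obtain ⟨s, σ, rfl⟩ := exists_sort r n t ht
      rw [vecMul_altMat_comp]
      have : (v ᵥ* altMat K r n) s.1 = 0 := congrFun hw s
      rw [this, mul_zero]
    · exact vecMul_altMat_eq_zero K r n v t ht
  have hsurj : Function.Surjective (R.comp W.subtype) := fun f => by
    let v : (Fin r → Fin n) → K := fun t => if h : StrictMono t then f ⟨t, h⟩ else 0
    refine ⟨⟨v ᵥ* altMat K r n, v, rfl⟩, funext fun s => ?_⟩
    show (v ᵥ* altMat K r n) s.1 = f s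
    rw [vecMul_altMat, Finset.sum_eq_single 1]
    · simp [v, s.2]
    · intro σ _ hσ
      have : ¬ StrictMono (s.1 ∘ ⇑σ) := fun h => hσ (eq_one_of_comp_eq r n s ⟨_, h⟩ σ rfl).1
      simp [v, this]
    · simp
  rw [(LinearEquiv.ofBijective _ ⟨hinj, hsurj⟩).finrank_eq, finrank_pi, card_incr]

theorem finrank_ker_mulRight_altMat :
    finrank K (LinearMap.ker (LinearMap.mulRight K (altMat K r n))) + n ^ r * n.choose r =
      n ^ r * n ^ r := by
  classical
  let f := (altMat K r n).vecMulLinear
  let Φ : LinearMap.ker (LinearMap.mulRight K (altMat K r n)) ≃ₗ[K]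
      ((Fin r → Fin n) → LinearMap.ker f) :=
    { toFun := fun X s => ⟨X.1 s, by
        have h : (X.1 : Matrix (Fin r → Fin n) (Fin r → Fin n) K) * altMat K r n = 0 :=
          LinearMap.mem_ker.1 X.2
        show (X.1 : Matrix (Fin r → Fin n) (Fin r → Fin n) K) s ᵥ* altMat K r n = 0
        funext t
        exact congrFun (congrFun h s) t⟩
      map_add' := fun _ _ => rfl
      map_smul' := fun _ _ => rfl
      invFun := fun g => ⟨Matrix.of fun s => (g s : (Fin r → Fin n) → K), by
        rw [LinearMap.mem_ker]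
        show (Matrix.of fun s => (g s : (Fin r → Fin n) → K)) * altMat K r n = 0
        ext s t
        exact congrFun (LinearMap.mem_ker.1 (g s).2) t⟩
      left_inv := fun _ => rfl
      right_inv := fun _ => rfl }
  have h1 := LinearMap.finrank_range_add_finrank_ker f
  rw [finrank_range_altMat, finrank_pi, Fintype.card_fun, Fintype.card_fin, Fintype.card_fin] at h1
  rw [Φ.finrank_eq, finrank_pi_fintype, Finset.sum_const, Finset.card_univ, Fintype.card_fun,
    Fintype.card_fin, Fintype.card_fin, smul_eq_mul, ← mul_add, add_comm, h1]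

end Groth.Agent.CSA
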