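import Mathlib

/-!
# Azumaya algebras: criteria, centre, two-sided ideals
-/

set_option autoImplicit false

open TensorProduct

namespace Groth.Agent.CSA

universe u v w

section DualBasis

variable (R : Type*) [CommRing R] (M : Type*) [AddCommGroup M] [Module R M]

theorem exists_dual_basis [Module.Finite R M] [Module.Projective R M] :
    ∃ (n : ℕ) (e : Fin n → M) (f : Fin n → Module.Dual R M), ∀ a, ∑ i, f i a • e i = a := by
  obtain ⟨n, p, s, hp, _, hps⟩ := Module.Finite.exists_comp_eq_id_of_projective R M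
  refine ⟨n, fun i => p (Pi.single i 1), fun i => (LinearMap.proj i).comp s, fun a => ?_⟩
  have : p (s a) = a := LinearMap.congr_fun hps a
  conv_rhs => rw [← this, pi_eq_sum_univ' (s a)]
  simp [map_sum]

end DualBasis

section Rank

variable (R : Type*) [CommRing R] (M N : Type*) [AddCommGroup M] [Module R M] [AddCommGroup N]
  [Module R N]

open Module in
attribute [local instance] Module.free_of_flat_of_isLocalRing in
theorem rankAtStalk_linearMap [Module.Finite R M] [Module.Projective R M] [Module.Finite R N]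
    [Module.Projective R N] (p : PrimeSpectrum R) :
    rankAtStalk (R := R) (M →ₗ[R] N) p = rankAtStalk (R := R) M p * rankAtStalk (R := R) N p := by
  have := Module.finitePresentation_of_projective R M
  let S := p.asIdeal.primeCompl
  have e := (Module.FinitePresentation.linearEquivMapExtendScalars S (M := M) (N := N)).extendScalarsOfIsLocalization
    S (Localization S)
  rw [rankAtStalk, e.finrank_eq, Module.finrank_linearMap]
  rfl

end Rank

section Criterion

variable (R : Type u) [CommRing R] (A : Type v) [Ring A] [Algebra R A]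

/-- surjectivity criterion through a dual basis -/
theorem mulLeftRight_surjective_of_dualBasis {ι : Type*} [Fintype ι] (e : ι → A)
    (f : ι → Module.Dual R A) (hef : ∀ a, ∑ i, f i a • e i = a)
    (h : ∀ i, ∃ t, ∀ x, AlgHom.mulLeftRight R A t x = f i x • (1 : A)) :
    Function.Surjective (AlgHom.mulLeftRight R A) := by
  intro φ
  choose t ht using h
  refine ⟨∑ i, φ (e i) ⊗ₜ[R] MulOpposite.op 1 * t i, LinearMap.ext fun x => ?_⟩
  conv_rhs => rw [← hef x]
  simp [map_sum, ht, Module.End.mul_apply, LinearMap.sum_apply]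

theorem mulLeftRight_bijective_of_surjective [Module.Finite R A] [Module.Projective R A]
    (h : Function.Surjective (AlgHom.mulLeftRight R A)) :
    Function.Bijective (AlgHom.mulLeftRight R A) := by
  have : Module.Projective R Aᵐᵒᵖ := .of_equiv (MulOpposite.opLinearEquiv R)
  have : Module.Finite R Aᵐᵒᵖ := .equiv (MulOpposite.opLinearEquiv R)
  have := Module.finitePresentation_of_projective R A
  have : Module.Finite R (Module.End R A) := .equiv (dualTensorHomEquiv R A A)
  have : Module.Projective R (Module.End R A) :=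
    .of_equiv (dualTensorHomEquiv R A A)
  refine Module.bijective_of_surjective_of_rankAtStalk_eq
    (φ := (AlgHom.mulLeftRight R A).toLinearMap) h fun m _ => ?_
  rw [rankAtStalk_linearMap, Module.rankAtStalk_tensorProduct, Pi.mul_apply,
    ← Module.rankAtStalk_eq_of_equiv (MulOpposite.opLinearEquiv R (M := A))]

theorem isAzumaya_of_dualBasis [FaithfulSMul R A] {ι : Type*} [Fintype ι] (e : ι → A)
    (f : ι → Module.Dual R A) (hef : ∀ a, ∑ i, f i a • e i = a)
    (h : ∀ i, ∃ t, ∀ x, AlgHom.mulLeftRight R A t x = f i x • (1 : A)) :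
    IsAzumaya R A := by
  classical
  let s : A →ₗ[R] (ι → R) := LinearMap.pi f
  let p : (ι → R) →ₗ[R] A := Fintype.linearCombination R e
  have hps : p.comp s = LinearMap.id :=
    LinearMap.ext fun a => by simpa [p, s, Fintype.linearCombination_apply] using hef a
  have : Module.Projective R A := .of_split s p hps
  have : Module.Finite R A := .of_surjective p
    (fun a => ⟨s a, LinearMap.congr_fun hps a⟩)
  exact ⟨mulLeftRight_bijective_of_surjective R A
    (mulLeftRight_surjective_of_dualBasis R A e f hef h)⟩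

theorem exists_mulLeftRight_eq [IsAzumaya R A] (f : Module.Dual R A) :
    ∃ t, ∀ x, AlgHom.mulLeftRight R A t x = f x • (1 : A) := by
  obtain ⟨t, ht⟩ := (IsAzumaya.bij (R := R) (A := A)).2 (f.smulRight (1 : A))
  exact ⟨t, fun x => by rw [ht]; rfl⟩

/-- A finite projective faithful algebra has a linear form taking the value `1` at `1`. -/
theorem exists_dual_one_eq_one [Module.Finite R A] [Module.Projective R A] [FaithfulSMul R A] :
    ∃ g : Module.Dual R A, g 1 = 1 := by
  let T : Ideal R := LinearMap.range (Module.Dual.eval R A 1)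
  suffices h1 : T = ⊤ from (Ideal.eq_top_iff_one T).1 h1
  by_contra hT
  obtain ⟨m, hm, hTm⟩ := Ideal.exists_le_maximal T hT
  obtain ⟨n, e, f, hef⟩ := exists_dual_basis R A
  have hone : (1 : A) ∈ m • (⊤ : Submodule R A) := by
    rw [← hef 1]
    exact Submodule.sum_mem _ fun i _ =>
      Submodule.smul_mem_smul (hTm ⟨f i, rfl⟩) Submodule.mem_top
  have htop : (⊤ : Submodule R A) ≤ m • (⊤ : Submodule R A) := by
    intro a _
    have : a • (1 : A) ∈ m • (⊤ : Submodule R A) := by
      refine Submodule.smul_induction_on hone (fun r hr x _ => ?_) (fun x y hx hy => ?_)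
      · rw [smul_comm]; exact Submodule.smul_mem_smul hr Submodule.mem_top
      · rw [smul_add]; exact add_mem hx hy
    simpa using this
  obtain ⟨r, hr, hr0⟩ := Submodule.exists_sub_one_mem_and_smul_eq_zero_of_fg_of_le_smul m
    (⊤ : Submodule R A) Module.Finite.fg_top htop
  have : r = 0 := eq_of_smul_eq_smul (α := A) fun a => by rw [hr0 a trivial, zero_smul]
  exact hm.ne_top ((Ideal.eq_top_iff_one m).2 (by simpa [this] using hr))

end Criterion

section Construct

variable (R : Type u) [CommRing R]

set_option synthInstance.maxHeartbeats 400000 in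
set_option maxHeartbeats 1000000 in
theorem isAzumaya_tensorProduct (A : Type v) [Ring A] [Algebra R A] [IsAzumaya R A]
    (B : Type w) [Ring B] [Algebra R B] [IsAzumaya R B] : IsAzumaya R (A ⊗[R] B) := by
  obtain ⟨n, e, f, hef⟩ := exists_dual_basis R A
  obtain ⟨m, e', f', hef'⟩ := exists_dual_basis R B
  obtain ⟨g, hg⟩ := exists_dual_one_eq_one R A
  obtain ⟨g', hg'⟩ := exists_dual_one_eq_one R B
  let G : Module.Dual R (A ⊗[R] B) := LinearMap.mul' R R ∘ₗ map g g'
  have : FaithfulSMul R (A ⊗[R] B) := ⟨fun {r s} h => by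
    have := congrArg G (h 1)
    simpa [G, Algebra.TensorProduct.one_def, hg, hg'] using this⟩
  refine isAzumaya_of_dualBasis R (A ⊗[R] B) (fun p : Fin n × Fin m => e p.1 ⊗ₜ[R] e' p.2)
    (fun p => LinearMap.mul' R R ∘ₗ map (f p.1) (f' p.2)) (fun a => ?_) (fun p => ?_)
  · induction a using TensorProduct.induction_on with
    | zero => simp
    | tmul a b =>
      conv_rhs => rw [← hef a, ← hef' b, sum_tmul]
      rw [Fintype.sum_prod_type]
      refine Finset.sum_congr rfl fun i _ => ?_
      rw [tmul_sum]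
      refine Finset.sum_congr rfl fun j _ => ?_
      simp only [LinearMap.coe_comp, Function.comp_apply, map_tmul, LinearMap.mul'_apply]
      rw [smul_tmul, smul_smul, tmul_smul]
    | add x y hx hy => conv_rhs => rw [← hx, ← hy]
                       simp only [map_add, add_smul, Finset.sum_add_distrib]
  · obtain ⟨t, ht⟩ := exists_mulLeftRight_eq R A (f p.1)
    obtain ⟨t', ht'⟩ := exists_mulLeftRight_eq R B (f' p.2)
    let Φ : (A ⊗[R] Aᵐᵒᵖ) ⊗[R] (B ⊗[R] Bᵐᵒᵖ) ≃ₗ[R] (A ⊗[R] B) ⊗[R] (Aᵐᵒᵖ ⊗[R] Bᵐᵒᵖ) :=
      tensorTensorTensorComm R _ _ _ _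
    let Ψ : (A ⊗[R] B) ⊗[R] (Aᵐᵒᵖ ⊗[R] Bᵐᵒᵖ) →ₗ[R] (A ⊗[R] B) ⊗[R] (A ⊗[R] B)ᵐᵒᵖ :=
      map LinearMap.id (Algebra.TensorProduct.opAlgEquiv R R A B).toLinearMap
    have key : ∀ u v x y, AlgHom.mulLeftRight R (A ⊗[R] B) (Ψ (Φ (u ⊗ₜ v))) (x ⊗ₜ y) =
        AlgHom.mulLeftRight R A u x ⊗ₜ AlgHom.mulLeftRight R B v y := by
      intro u v x y
      induction u using TensorProduct.induction_on with
      | zero => simp
      | add u₁ u₂ h₁ h₂ =>
        simp only [add_tmul, map_add, LinearMap.add_apply, h₁, h₂]
      | tmul a a' =>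
        induction v using TensorProduct.induction_on with
        | zero => simp
        | add v₁ v₂ h₁ h₂ =>
          simp only [tmul_add, map_add, LinearMap.add_apply, h₁, h₂]
        | tmul b b' => simp [Φ, Ψ]
    refine ⟨Ψ (Φ (t ⊗ₜ t')), fun x => ?_⟩
    induction x using TensorProduct.induction_on with
    | zero => simp
    | tmul a b =>
      rw [key, ht, ht']
      simp only [LinearMap.coe_comp, Function.comp_apply, map_tmul, LinearMap.mul'_apply]
      rw [smul_tmul, smul_smul, tmul_smul, Algebra.TensorProduct.one_def]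
    | add x y hx hy => simp only [map_add, add_smul, hx, hy]

theorem isAzumaya_baseChange (S : Type v) [CommRing S] [Algebra R S]
    (A : Type w) [Ring A] [Algebra R A] [IsAzumaya R A] : IsAzumaya S (S ⊗[R] A) := by
  obtain ⟨n, e, f, hef⟩ := exists_dual_basis R A
  obtain ⟨g, hg⟩ := exists_dual_one_eq_one R A
  let bc : Module.Dual R A → Module.Dual S (S ⊗[R] A) := fun φ => φ.baseChange S
  have : FaithfulSMul S (S ⊗[R] A) := ⟨fun {r s} h => by
    have := congrArg (bc g) (h 1)
    simpa [bc, Algebra.TensorProduct.one_def, hg] using this⟩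
  refine isAzumaya_of_dualBasis S (S ⊗[R] A) (fun i => (1 : S) ⊗ₜ[R] e i) (fun i => bc (f i))
    (fun a => ?_) (fun i => ?_)
  · induction a using TensorProduct.induction_on with
    | zero => simp
    | tmul s a =>
      conv_rhs => rw [← hef a, tmul_sum]
      refine Finset.sum_congr rfl fun i _ => ?_
      rw [Module.Dual.baseChange_apply_tmul, smul_tmul', smul_eq_mul, mul_one, smul_tmul]
    | add x y hx hy => conv_rhs => rw [← hx, ← hy]
                       simp only [map_add, add_smul, Finset.sum_add_distrib]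
  · obtain ⟨t, ht⟩ := exists_mulLeftRight_eq R A (f i)
    let ι₀ : A ⊗[R] Aᵐᵒᵖ →ₗ[R] (S ⊗[R] A) ⊗[S] (S ⊗[R] A)ᵐᵒᵖ :=
      TensorProduct.lift (LinearMap.mk₂ R
        (fun a b => ((1 : S) ⊗ₜ[R] a) ⊗ₜ[S] MulOpposite.op ((1 : S) ⊗ₜ[R] b.unop))
        (fun a a' b => by simp [tmul_add, add_tmul])
        (fun c a b => by simp [tmul_smul, smul_tmul'])
        (fun a b b' => by simp [tmul_add])
        (fun c a b => by simp [tmul_smul, MulOpposite.op_smul]))
    refine ⟨ι₀ t, fun x => ?_⟩
    have key : ∀ (u : A ⊗[R] Aᵐᵒᵖ) (s : S) (a : A),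
        AlgHom.mulLeftRight S (S ⊗[R] A) (ι₀ u) (s ⊗ₜ a) = s ⊗ₜ AlgHom.mulLeftRight R A u a := by
      intro u s a
      induction u using TensorProduct.induction_on with
      | zero => simp
      | add u₁ u₂ h₁ h₂ => simp only [tmul_add, map_add, LinearMap.add_apply, h₁, h₂]
      | tmul c d =>
        rw [show ι₀ (c ⊗ₜ d) = ((1 : S) ⊗ₜ[R] c) ⊗ₜ[S] MulOpposite.op ((1 : S) ⊗ₜ[R] d.unop) from rfl,
          AlgHom.mulLeftRight_apply, AlgHom.mulLeftRight_apply]
        simp
    induction x using TensorProduct.induction_on with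
    | zero => simp
    | tmul s a =>
      rw [key, ht]
      rw [Module.Dual.baseChange_apply_tmul, Algebra.TensorProduct.one_def, smul_tmul',
        smul_eq_mul, mul_one, smul_tmul]
    | add x y hx hy => simp only [map_add, add_smul, hx, hy]

theorem isAzumaya_moduleEnd (P : Type v) [AddCommGroup P] [Module R P] [Module.Finite R P]
    [Module.Projective R P] [FaithfulSMul R P] : IsAzumaya R (Module.End R P) := by
  obtain ⟨n, p, ω, hp⟩ := exists_dual_basis R P
  have : FaithfulSMul R (Module.End R P) := ⟨fun {r s} h =>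
    eq_of_smul_eq_smul (α := P) fun x => by simpa using LinearMap.congr_fun (h 1) x⟩
  refine isAzumaya_of_dualBasis R (Module.End R P) (fun q : Fin n × Fin n => (ω q.2).smulRight (p q.1))
    (fun q => (ω q.1) ∘ₗ (LinearMap.applyₗ (p q.2))) (fun φ => LinearMap.ext fun x => ?_)
    (fun q => ?_)
  · rw [Fintype.sum_prod_type, Finset.sum_comm]
    simp only [LinearMap.sum_apply, LinearMap.coe_comp, Function.comp_apply, LinearMap.smul_apply,
      LinearMap.applyₗ_apply_apply, LinearMap.smulRight_apply, smul_comm _ (ω _ x), ← Finset.smul_sum, hp]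
    conv_rhs => rw [← hp x]
    simp [map_sum]
  · refine ⟨∑ i, ((ω q.1).smulRight (p i)) ⊗ₜ[R] MulOpposite.op ((ω i).smulRight (p q.2)),
      fun φ => LinearMap.ext fun x => ?_⟩
    simp only [map_sum, LinearMap.sum_apply, AlgHom.mulLeftRight_apply, MulOpposite.unop_op,
      Module.End.mul_apply, LinearMap.smulRight_apply, map_smul, LinearMap.coe_comp,
      Function.comp_apply, LinearMap.applyₗ_apply_apply, LinearMap.smul_apply, Module.End.one_apply]
    conv_rhs => rw [← hp x, Finset.smul_sum]
    refine Finset.sum_congr rfl fun i _ => ?_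
    simp only [smul_smul, mul_comm]

end Construct

end Groth.Agent.CSA
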