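import Groth.Agent.CSA.Morita
import Groth.Agent.CSACentralizer.DivisionRing
import Groth.Prelude.Def_Curves

/-!
# Brauer equivalence, Wedderburn decomposition, splitting
-/

set_option autoImplicit false

open TensorProduct Matrix

namespace Groth.Agent.CSA

universe u v w w'

variable (k : Type u) [Field k]

/-- Brauer equivalence of algebras -/
def BrEq (A : Type v) [Ring A] [Algebra k A] (B : Type w) [Ring B] [Algebra k B] : Prop :=
  ∃ n m : ℕ, n ≠ 0 ∧ m ≠ 0 ∧ Nonempty (Matrix (Fin n) (Fin n) A ≃ₐ[k] Matrix (Fin m) (Fin m) B)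

/-- matrices of matrices -/
noncomputable def matMatEquiv (A : Type v) [Ring A] [Algebra k A] (p n : ℕ) :
    Matrix (Fin p) (Fin p) (Matrix (Fin n) (Fin n) A) ≃ₐ[k] Matrix (Fin (p * n)) (Fin (p * n)) A :=
  (Matrix.compAlgEquiv _ _ _ _).trans (Matrix.reindexAlgEquiv _ _ finProdFinEquiv)

/-- `1 × 1` matrices -/
noncomputable def matOneEquiv (A : Type v) [Ring A] [Algebra k A] :
    Matrix (Fin 1) (Fin 1) A ≃ₐ[k] A where
  toFun M := M 0 0
  invFun a := Matrix.of fun _ _ => a
  left_inv M := by ext i j; fin_cases i; fin_cases j; rfl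
  right_inv a := rfl
  map_mul' M N := by simp [Matrix.mul_apply]
  map_add' M N := rfl
  commutes' r := by simp [Matrix.algebraMap_matrix_apply]

variable {k}

section Equiv

variable {A : Type v} [Ring A] [Algebra k A] {B : Type w} [Ring B] [Algebra k B]
  {C : Type w'} [Ring C] [Algebra k C]

theorem BrEq.of_algEquiv (e : A ≃ₐ[k] B) : BrEq k A B :=
  ⟨1, 1, one_ne_zero, one_ne_zero, ⟨e.mapMatrix⟩⟩

theorem BrEq.refl : BrEq k A A := .of_algEquiv AlgEquiv.refl

theorem BrEq.symm (h : BrEq k A B) : BrEq k B A := by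
  obtain ⟨n, m, hn, hm, ⟨e⟩⟩ := h
  exact ⟨m, n, hm, hn, ⟨e.symm⟩⟩

theorem BrEq.trans (h : BrEq k A B) (h' : BrEq k B C) : BrEq k A C := by
  obtain ⟨n, m, hn, hm, ⟨e⟩⟩ := h
  obtain ⟨p, q, hp, hq, ⟨e'⟩⟩ := h'
  refine ⟨p * n, m * q, mul_ne_zero hp hn, mul_ne_zero hm hq, ⟨?_⟩⟩
  exact ((matMatEquiv k A p n).symm.trans (e.mapMatrix (m := Fin p))).trans <|
    (matMatEquiv k B p m).trans <| (Matrix.reindexAlgEquiv k B (finCongr (mul_comm p m))).trans <|
    (matMatEquiv k B m p).symm.trans <| (e'.mapMatrix (m := Fin m)).trans (matMatEquiv k C m q)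

theorem BrEq.matrix (n : ℕ) (hn : n ≠ 0) : BrEq k (Matrix (Fin n) (Fin n) A) A :=
  ⟨1, n, one_ne_zero, hn, ⟨matOneEquiv k _⟩⟩

/-- matrices over a tensor product -/
noncomputable def matrixTensorLeft (A : Type v) [Ring A] [Algebra k A] (B : Type w) [Ring B]
    [Algebra k B] (n : ℕ) :
    Matrix (Fin n) (Fin n) A ⊗[k] B ≃ₐ[k] Matrix (Fin n) (Fin n) (A ⊗[k] B) :=
  (Algebra.TensorProduct.congr (matrixEquivTensor (Fin n) k A) AlgEquiv.refl).trans <|
    (Algebra.TensorProduct.assoc k k k A _ B).trans <|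
    (Algebra.TensorProduct.congr AlgEquiv.refl (Algebra.TensorProduct.comm k _ B)).trans <|
    (Algebra.TensorProduct.assoc k k k A B _).symm.trans <|
    (matrixEquivTensor (Fin n) k (A ⊗[k] B)).symm

theorem BrEq.tensor_right (h : BrEq k A B) : BrEq k (A ⊗[k] C) (B ⊗[k] C) := by
  obtain ⟨n, m, hn, hm, ⟨e⟩⟩ := h
  exact ⟨n, m, hn, hm, ⟨(matrixTensorLeft A C n).symm.trans
    ((Algebra.TensorProduct.congr e AlgEquiv.refl).trans (matrixTensorLeft B C m))⟩⟩

theorem BrEq.tensor_left (h : BrEq k A B) : BrEq k (C ⊗[k] A) (C ⊗[k] B) :=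
  (BrEq.of_algEquiv (Algebra.TensorProduct.comm k C A)).trans
    ((h.tensor_right).trans (BrEq.of_algEquiv (Algebra.TensorProduct.comm k B C)))

theorem BrEq.tensor {D : Type v} [Ring D] [Algebra k D] (h : BrEq k A B) (h' : BrEq k C D) :
    BrEq k (A ⊗[k] C) (B ⊗[k] D) :=
  h.tensor_right.trans h'.tensor_left

end Equiv

section CSA

variable (k)

theorem isCentral_of_matrix (D : Type v) [Ring D] [Algebra k D] (n : ℕ) [NeZero n]
    [hc : Algebra.IsCentral k (Matrix (Fin n) (Fin n) D)] : Algebra.IsCentral k D :=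
  ⟨fun x hx => by
    have hx' : Matrix.scalar (Fin n) x ∈ Subalgebra.center k (Matrix (Fin n) (Fin n) D) :=
      Subalgebra.mem_center_iff.2 fun M =>
        ((Matrix.scalar_commute x (fun r => (Subalgebra.mem_center_iff.1 hx r).symm) M).eq).symm
    obtain ⟨c, hc'⟩ := hc.out hx'
    refine ⟨c, ?_⟩
    simpa [Algebra.ofId_apply, Matrix.algebraMap_eq_diagonal] using congrFun (congrFun hc' 0) 0⟩

variable (A : Type v) [Ring A] [Algebra k A] [Algebra.IsCentral k A] [IsSimpleRing A]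
  [FiniteDimensional k A]

/-- Wedderburn: division algebra part -/
theorem exists_divisionPart :
    ∃ (m : ℕ) (D : Type v) (_ : DivisionRing D) (_ : Algebra k D),
      m ≠ 0 ∧ Algebra.IsCentral k D ∧ FiniteDimensional k D ∧
      Nonempty (A ≃ₐ[k] Matrix (Fin m) (Fin m) D) := by
  have : IsArtinianRing A := IsArtinianRing.of_finite k A
  obtain ⟨n, hn, D, _, _, _, ⟨e⟩⟩ := IsSimpleRing.exists_algEquiv_matrix_divisionRing_finite k A
  have := Algebra.IsCentral.of_algEquiv k _ _ e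
  exact ⟨n, D, _, _, NeZero.ne n, isCentral_of_matrix k D n, ‹_›, ⟨e⟩⟩

theorem exists_deg : ∃ d : ℕ, 0 < d ∧ Module.finrank k A = d ^ 2 := by
  obtain ⟨d, hd⟩ := CSACentralizer.isSquare_finrank k A
  refine ⟨d, Nat.pos_of_ne_zero fun h => ?_, by rw [hd, sq]⟩
  subst h
  exact Module.finrank_pos.ne' hd

end CSA

section Division

variable {D : Type v} [DivisionRing D] [Algebra k D] [FiniteDimensional k D]
  {D' : Type w} [DivisionRing D'] [Algebra k D'] [FiniteDimensional k D']

/-- uniqueness in the Wedderburn theorem -/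
theorem division_unique {n m : ℕ} (hn : n ≠ 0) (hm : m ≠ 0)
    (e : Matrix (Fin n) (Fin n) D ≃ₐ[k] Matrix (Fin m) (Fin m) D') :
    n = m ∧ Nonempty (D ≃ₐ[k] D') := by
  classical
  have : Nonempty (Fin n) := ⟨⟨0, Nat.pos_of_ne_zero hn⟩⟩
  have : Nonempty (Fin m) := ⟨⟨0, Nat.pos_of_ne_zero hm⟩⟩
  let R := Matrix (Fin n) (Fin n) D
  have : IsArtinianRing R := IsArtinianRing.of_finite k R
  have hR := IsSimpleRing.isIsotypic R R
  let mf : Module R (Fin n → D) :=
    Module.compHom (Fin n → D) (mulVecHom k D (Fin n)).toRingHom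
  let mg : Module R (Fin m → D') :=
    Module.compHom (Fin m → D') ((mulVecHom k D' (Fin m)).comp e.toAlgHom).toRingHom
  have hf : @IsSimpleModule R _ (Fin n → D) _ mf := by
    refine isSimpleModule_iff_toSpanSingleton_surjective.2 ⟨inferInstance, fun v hv w => ?_⟩
    obtain ⟨i, hi⟩ := Function.ne_iff.1 hv
    refine ⟨Matrix.of fun j l => if l = i then w j * (v i)⁻¹ else 0, ?_⟩
    show Matrix.mulVec _ v = w
    ext j
    simp [Matrix.mulVec, dotProduct, mul_assoc, inv_mul_cancel₀ (show v i ≠ 0 from hi)]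
  have hg : @IsSimpleModule R _ (Fin m → D') _ mg := by
    refine isSimpleModule_iff_toSpanSingleton_surjective.2 ⟨inferInstance, fun v hv w => ?_⟩
    obtain ⟨i, hi⟩ := Function.ne_iff.1 hv
    refine ⟨e.symm (Matrix.of fun j l => if l = i then w j * (v i)⁻¹ else 0), ?_⟩
    show Matrix.mulVec (e (e.symm _)) v = w
    rw [AlgEquiv.apply_symm_apply]
    ext j
    simp [Matrix.mulVec, dotProduct, mul_assoc, inv_mul_cancel₀ (show v i ≠ 0 from hi)]
  obtain ⟨I, ⟨i⟩⟩ := @IsSemisimpleRing.exists_linearEquiv_ideal_of_isSimpleModule R _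
    (Fin n → D) _ mf _ hf
  obtain ⟨J, ⟨j⟩⟩ := @IsSemisimpleRing.exists_linearEquiv_ideal_of_isSimpleModule R _
    (Fin m → D') _ mg _ hg
  have := @IsSimpleModule.congr _ _ _ _ _ _ _ _ i.symm hf
  have := @IsSimpleModule.congr _ _ _ _ _ _ _ _ j.symm hg
  obtain ⟨ij⟩ := hR J I
  let φ := i.trans (ij.trans j.symm)
  have hscal : ∀ (c : k) (v : Fin n → D), φ (c • v) = c • φ v := fun c v => by
    have h := φ.map_smul (algebraMap k R c) v
    change φ (mulVecHom k D (Fin n) (algebraMap k R c) v) =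
      mulVecHom k D' (Fin m) (e (algebraMap k R c)) (φ v) at h
    rwa [AlgEquiv.commutes, AlgHom.commutes, AlgHom.commutes, Module.algebraMap_end_apply,
      Module.algebraMap_end_apply] at h
  let φk : (Fin n → D) ≃ₗ[k] (Fin m → D') :=
    { toFun := φ, invFun := φ.symm, map_add' := map_add φ, map_smul' := hscal,
      left_inv := φ.symm_apply_apply, right_inv := φ.apply_symm_apply }
  have h1 := φk.finrank_eq
  have h2 := e.toLinearEquiv.finrank_eq
  rw [Module.finrank_pi_fintype, Module.finrank_pi_fintype, Finset.sum_const, Finset.sum_const,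
    Finset.card_univ, Finset.card_univ, Fintype.card_fin, Fintype.card_fin, smul_eq_mul,
    smul_eq_mul] at h1
  rw [Module.finrank_matrix, Module.finrank_matrix, Fintype.card_fin, Fintype.card_fin,
    mul_assoc, mul_assoc, h1] at h2
  refine ⟨Nat.eq_of_mul_eq_mul_right (Nat.mul_pos (Nat.pos_of_ne_zero hm) Module.finrank_pos) h2,
    nonempty_algEquiv_of_matrix k e ?_⟩
  rwa [Fintype.card_fin, Fintype.card_fin]

theorem BrEq.division_iso (h : BrEq k D D') : Nonempty (D ≃ₐ[k] D') := by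
  obtain ⟨n, m, hn, hm, ⟨e⟩⟩ := h
  exact (division_unique hn hm e).2

end Division

end Groth.Agent.CSA
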