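import Mathlib

/-!
# Tensor products of families of algebras: reindexing, empty and `Option` index types
-/

set_option autoImplicit false

open TensorProduct Function

namespace Groth.Agent.CSA

universe u v w

variable (k : Type u) [CommRing k]

section Reindex

variable {ι : Type w} {κ : Type*} (E : ι → Type v) [∀ i, Ring (E i)] [∀ i, Algebra k (E i)]

/-- reindexing, as algebras -/
noncomputable def piReindexAlg (e : ι ≃ κ) : (⨂[k] i, E i) ≃ₐ[k] ⨂[k] j, E (e.symm j) :=
  AlgEquiv.ofLinearEquiv (PiTensorProduct.reindex k E e)
    (by
      show PiTensorProduct.reindex k E e (PiTensorProduct.tprod k 1) = _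
      rw [PiTensorProduct.reindex_tprod]
      rfl)
    (fun x y => by
      induction x using PiTensorProduct.induction_on with
      | smul_tprod r x =>
        induction y using PiTensorProduct.induction_on with
        | smul_tprod s y =>
          simp only [smul_mul_smul_comm, PiTensorProduct.tprod_mul_tprod, map_smul,
            PiTensorProduct.reindex_tprod]
          rfl
        | add a b ha hb => simp only [mul_add, map_add, ha, hb]
      | add a b ha hb => simp only [add_mul, map_add, ha, hb])

/-- empty index type -/
noncomputable def piEmptyAlg [IsEmpty ι] : (⨂[k] i, E i) ≃ₐ[k] k :=
  AlgEquiv.ofLinearEquiv (PiTensorProduct.isEmptyEquiv ι)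
    (by
      show PiTensorProduct.isEmptyEquiv ι (PiTensorProduct.tprod k 1) = _
      rw [PiTensorProduct.isEmptyEquiv_apply_tprod])
    (fun x y => by
      induction x using PiTensorProduct.induction_on with
      | smul_tprod r x =>
        induction y using PiTensorProduct.induction_on with
        | smul_tprod s y =>
          simp only [smul_mul_smul_comm, PiTensorProduct.tprod_mul_tprod, map_smul,
            PiTensorProduct.isEmptyEquiv_apply_tprod, mul_one]
        | add a b ha hb => simp only [mul_add, map_add, ha, hb]
      | add a b ha hb => simp only [add_mul, map_add, ha, hb])

end Reindex

section Option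

variable {ι : Type w} (E : Option ι → Type v) [∀ i, Ring (E i)] [∀ i, Algebra k (E i)]

/-- one factor split off -/
noncomputable def optionToTensor :
    (⨂[k] i, E i) →ₐ[k] E none ⊗[k] (⨂[k] i, E (some i)) :=
  PiTensorProduct.liftAlgHom
    { toFun := fun x => x none ⊗ₜ PiTensorProduct.tprod k fun i => x (some i)
      map_update_add' := by
        intro dec x i a b
        classical
        cases i with
        | none =>
          have h : ∀ c, (fun j => update x none c (some j)) = fun j => x (some j) := fun c =>
            funext fun j => update_of_ne (by simp) _ _
          simp only [update_self, h, add_tmul]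
        | some i =>
          have h : ∀ c, (fun j => update x (some i) c (some j)) = update (fun j => x (some j)) i c :=
            fun c => funext fun j => by
              rcases eq_or_ne j i with rfl | hj
              · simp
              · rw [update_of_ne hj, update_of_ne (by simpa using hj)]
          simp only [ne_eq, reduceCtorEq, not_false_eq_true, update_of_ne, h,
            MultilinearMap.map_update_add, tmul_add]
      map_update_smul' := by
        intro dec x i c a
        classical
        cases i with
        | none =>
          have h : ∀ c, (fun j => update x none c (some j)) = fun j => x (some j) := fun c =>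
            funext fun j => update_of_ne (by simp) _ _
          simp only [update_self, h, smul_tmul']
        | some i =>
          have h : ∀ c, (fun j => update x (some i) c (some j)) = update (fun j => x (some j)) i c :=
            fun c => funext fun j => by
              rcases eq_or_ne j i with rfl | hj
              · simp
              · rw [update_of_ne hj, update_of_ne (by simpa using hj)]
          simp only [ne_eq, reduceCtorEq, not_false_eq_true, update_of_ne, h,
            MultilinearMap.map_update_smul, tmul_smul] }
    rfl
    (fun x y => by
      show (x none * y none) ⊗ₜ PiTensorProduct.tprod k (fun i => x (some i) * y (some i)) =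
        (x none ⊗ₜ PiTensorProduct.tprod k fun i => x (some i)) *
          (y none ⊗ₜ PiTensorProduct.tprod k fun i => y (some i))
      rw [Algebra.TensorProduct.tmul_mul_tmul, PiTensorProduct.tprod_mul_tprod]
      rfl)

theorem optionToTensor_tprod (x : Π i, E i) :
    optionToTensor k E (PiTensorProduct.tprod k x) =
      x none ⊗ₜ PiTensorProduct.tprod k fun i => x (some i) :=
  PiTensorProduct.lift.tprod _

/-- extension of a tuple by `1` at `none` -/
def extOne (y : Π i, E (some i)) : Π i, E i := fun i => Option.rec (1 : E none) y i

theorem extOne_update [DecidableEq ι] [DecidableEq (Option ι)] (y : Π i, E (some i)) (i : ι) (c : E (some i)) :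
    extOne E (update y i c) = update (extOne E y) (some i) c := by
  funext j
  cases j with
  | none => simp [extOne]
  | some j =>
    rcases eq_or_ne j i with rfl | hj
    · simp [extOne]
    · rw [update_of_ne (by simpa using hj)]
      simp [extOne, update_of_ne hj]

/-- inclusion of the tensor product of the other factors -/
noncomputable def restToPi : (⨂[k] i, E (some i)) →ₐ[k] ⨂[k] i, E i :=
  PiTensorProduct.liftAlgHom
    { toFun := fun y => PiTensorProduct.tprod k (extOne E y)
      map_update_add' := by
        intro dec y i a b
        classical
        simp only [extOne_update, MultilinearMap.map_update_add]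
      map_update_smul' := by
        intro dec y i c a
        classical
        simp only [extOne_update, MultilinearMap.map_update_smul] }
    (by
      show PiTensorProduct.tprod k (extOne E 1) = PiTensorProduct.tprod k 1
      congr 1
      funext i
      cases i <;> rfl)
    (fun x y => by
      show PiTensorProduct.tprod k (extOne E (x * y)) = _
      rw [show extOne E (x * y) = extOne E x * extOne E y by
        funext i; cases i <;> simp [extOne]]
      exact (PiTensorProduct.tprod_mul_tprod _ _).symm)

theorem restToPi_tprod (y : Π i, E (some i)) :
    restToPi k E (PiTensorProduct.tprod k y) = PiTensorProduct.tprod k (extOne E y) :=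
  PiTensorProduct.lift.tprod _

/-- splitting off one factor of a tensor product of algebras -/
noncomputable def piOptionAlg :
    (⨂[k] i, E i) ≃ₐ[k] E none ⊗[k] (⨂[k] i, E (some i)) :=
  letI : DecidableEq (Option ι) := Classical.decEq _
  let G : E none ⊗[k] (⨂[k] i, E (some i)) →ₐ[k] ⨂[k] i, E i :=
    Algebra.TensorProduct.lift (PiTensorProduct.singleAlgHom none) (restToPi k E) fun a y => by
      induction y using PiTensorProduct.induction_on with
      | smul_tprod r y =>
        rw [map_smul, restToPi_tprod]
        refine Commute.smul_right ?_ r
        apply Commute.tprod
        show _ * _ = _ * _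
        funext j
        cases j with
        | none => simp [extOne]
        | some j => simp [extOne]
      | add x y hx hy => rw [map_add]; exact hx.add_right hy
  AlgEquiv.ofAlgHom (optionToTensor k E) G
    (by
      refine Algebra.TensorProduct.ext ?_ ?_
      · ext a
        show optionToTensor k E (G (a ⊗ₜ 1)) = a ⊗ₜ 1
        simp only [G, Algebra.TensorProduct.lift_tmul, map_one, mul_one,
          PiTensorProduct.singleAlgHom_apply, optionToTensor_tprod, MonoidHom.mulSingle_apply,
          Pi.mulSingle_eq_same]
        congr 1
        show _ = PiTensorProduct.tprod k 1
        congr 1
        funext i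
        simp
      · refine AlgHom.toLinearMap_injective (PiTensorProduct.ext (MultilinearMap.ext fun y => ?_))
        show optionToTensor k E (G (1 ⊗ₜ PiTensorProduct.tprod k y)) = 1 ⊗ₜ PiTensorProduct.tprod k y
        simp only [G, Algebra.TensorProduct.lift_tmul, map_one, one_mul, restToPi_tprod,
          optionToTensor_tprod]
        rfl)
    (by
      refine AlgHom.toLinearMap_injective (PiTensorProduct.ext (MultilinearMap.ext fun x => ?_))
      show G (optionToTensor k E (PiTensorProduct.tprod k x)) = PiTensorProduct.tprod k x
      simp only [G, optionToTensor_tprod, Algebra.TensorProduct.lift_tmul,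
        PiTensorProduct.singleAlgHom_apply, restToPi_tprod, PiTensorProduct.tprod_mul_tprod]
      congr 1
      funext j
      cases j with
      | none => simp [extOne]
      | some j => simp [extOne])

end Option

end Groth.Agent.CSA
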