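import Groth.Agent.CSA.BrauerEq
import Groth.Agent.CSA.PiTensor
import Groth.Prelude.Def_GSzCSA

/-!
# The Brauer group of a field (in the universe of the field) and the index
-/

set_option autoImplicit false

open TensorProduct Module

namespace Groth.Agent.CSA

universe u v w w'

variable (k : Type u) [Field k]

theorem isCentral_congr {A : Type v} [Ring A] [Algebra k A] {B : Type w} [Ring B] [Algebra k B]
    [h : Algebra.IsCentral k A] (e : A ≃ₐ[k] B) : Algebra.IsCentral k B :=
  ⟨fun x hx => by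
    have hx' : e.symm x ∈ Subalgebra.center k A := Subalgebra.mem_center_iff.2 fun a => by
      simpa using congrArg e.symm (Subalgebra.mem_center_iff.1 hx (e a))
    obtain ⟨c, hc⟩ := h.out hx'
    exact ⟨c, by simpa [Algebra.ofId_apply] using congrArg e hc⟩⟩

/-- centrality, simplicity and finite dimensionality -/
def IsCSA (A : Type v) [Ring A] [Algebra k A] : Prop :=
  Algebra.IsCentral k A ∧ IsSimpleRing A ∧ FiniteDimensional k A

variable {k} in
theorem IsCSA.congr {A : Type v} [Ring A] [Algebra k A] {B : Type w} [Ring B] [Algebra k B]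
    (e : A ≃ₐ[k] B) (h : IsCSA k A) : IsCSA k B := by
  obtain ⟨h1, h2, h3⟩ := h
  exact ⟨isCentral_congr k e, IsSimpleRing.of_ringEquiv e.toRingEquiv h2,
    Module.Finite.equiv e.toLinearEquiv⟩

section Small

variable (A : Type v) [Ring A] [Algebra k A]

/-- a model of a finite dimensional algebra in the universe of the field -/
noncomputable def reg [FiniteDimensional k A] :
    Subalgebra k (Matrix (Fin (finrank k A)) (Fin (finrank k A)) k) :=
  (Algebra.leftMulMatrix (Module.finBasis k A)).range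

/-- the model is isomorphic to the algebra -/
noncomputable def regEquiv [FiniteDimensional k A] : A ≃ₐ[k] reg k A :=
  AlgEquiv.ofInjective _ (Algebra.leftMulMatrix_injective _)

end Small

/-- a small central simple algebra -/
structure CSAlg : Type u where
  /-- size of the ambient matrix algebra -/
  N : ℕ
  /-- the algebra -/
  S : Subalgebra k (Matrix (Fin N) (Fin N) k)
  isCSA : IsCSA k S

instance (X : CSAlg k) : Algebra.IsCentral k X.S := X.isCSA.1
instance (X : CSAlg k) : IsSimpleRing X.S := X.isCSA.2.1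

instance csAlgSetoid : Setoid (CSAlg k) where
  r X Y := BrEq k X.S Y.S
  iseqv := ⟨fun _ => BrEq.refl, BrEq.symm, BrEq.trans⟩

/-- the Brauer group -/
def Br : Type u := Quotient (csAlgSetoid k)

section Cl

variable (A : Type v) [Ring A] [Algebra k A] [Algebra.IsCentral k A] [IsSimpleRing A]
  [FiniteDimensional k A]

/-- small model of a central simple algebra -/
noncomputable def toCSAlg : CSAlg k :=
  ⟨_, reg k A, IsCSA.congr (regEquiv k A) ⟨‹_›, ‹_›, ‹_›⟩⟩

/-- the Brauer class -/
noncomputable def cl : Br k := Quotient.mk (csAlgSetoid k) (toCSAlg k A)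

theorem cl_eq_cl_iff (B : Type w) [Ring B] [Algebra k B] [Algebra.IsCentral k B] [IsSimpleRing B]
    [FiniteDimensional k B] : cl k A = cl k B ↔ BrEq k A B := by
  show Quotient.mk (csAlgSetoid k) _ = Quotient.mk (csAlgSetoid k) _ ↔ _
  rw [Quotient.eq]
  exact ⟨fun h => (BrEq.of_algEquiv (regEquiv k A)).trans
      (BrEq.trans h (BrEq.of_algEquiv (regEquiv k B).symm)),
    fun h => (BrEq.of_algEquiv (regEquiv k A).symm).trans
      (BrEq.trans h (BrEq.of_algEquiv (regEquiv k B)))⟩

theorem cl_congr (B : Type w) [Ring B] [Algebra k B] [Algebra.IsCentral k B] [IsSimpleRing B]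
    [FiniteDimensional k B] (e : A ≃ₐ[k] B) : cl k A = cl k B :=
  (cl_eq_cl_iff k A B).2 (BrEq.of_algEquiv e)

end Cl

theorem cl_coe (X : CSAlg k) : cl k X.S = Quotient.mk (csAlgSetoid k) X :=
  Quotient.sound (BrEq.of_algEquiv (regEquiv k X.S).symm)

@[elab_as_elim]
theorem Br.ind {P : Br k → Prop} (h : ∀ X : CSAlg k, P (cl k X.S)) (x : Br k) : P x := by
  induction x using Quotient.ind with
  | _ X => rw [← cl_coe]; exact h X

section Instances

variable (A : Type v) [Ring A] [Algebra k A] [Algebra.IsCentral k A] [IsSimpleRing A]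
  [FiniteDimensional k A] (B : Type w) [Ring B] [Algebra k B]

instance instIsCentralTensor [Algebra.IsCentral k B] : Algebra.IsCentral k (A ⊗[k] B) :=
  isCentral_tensor_csa k A B

instance instIsSimpleRingTensor [IsSimpleRing B] : IsSimpleRing (A ⊗[k] B) :=
  isSimpleRing_tensor_left k A B

instance instFiniteMulOpposite : FiniteDimensional k Aᵐᵒᵖ := finiteDimensional_mulOpposite k A

theorem brEq_tensor_mulOpposite : BrEq k (A ⊗[k] Aᵐᵒᵖ) k := by
  classical
  have := isAzumaya_of_isCentral k A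
  let e : A ⊗[k] Aᵐᵒᵖ ≃ₐ[k] Matrix (Fin (finrank k A)) (Fin (finrank k A)) k :=
    (AlgEquiv.ofBijective _ (IsAzumaya.bij (R := k) (A := A))).trans
      (algEquivMatrix (Module.finBasis k A))
  exact (BrEq.of_algEquiv e).trans (BrEq.matrix _ Module.finrank_pos.ne')

end Instances

noncomputable instance : Mul (Br k) :=
  ⟨Quotient.lift₂ (fun X Y : CSAlg k => cl k (X.S ⊗[k] Y.S))
    (fun _ _ _ _ h h' => (cl_eq_cl_iff k _ _).2 (BrEq.tensor h h'))⟩

noncomputable instance : One (Br k) := ⟨cl k k⟩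

theorem cl_tensor (A : Type v) [Ring A] [Algebra k A] [Algebra.IsCentral k A] [IsSimpleRing A]
    [FiniteDimensional k A] (B : Type w) [Ring B] [Algebra k B] [Algebra.IsCentral k B]
    [IsSimpleRing B] [FiniteDimensional k B] : cl k (A ⊗[k] B) = cl k A * cl k B :=
  cl_congr k _ _ (Algebra.TensorProduct.congr (regEquiv k A) (regEquiv k B))

theorem one_def : (1 : Br k) = cl k k := rfl

noncomputable instance : CommMonoid (Br k) where
  mul_assoc x y z := by
    induction x using Br.ind with
    | h X =>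
      induction y using Br.ind with
      | h Y =>
        induction z using Br.ind with
        | h Z =>
          simp only [← cl_tensor]
          exact cl_congr k _ _ (Algebra.TensorProduct.assoc k k k _ _ _)
  mul_comm x y := by
    induction x using Br.ind with
    | h X =>
      induction y using Br.ind with
      | h Y =>
        simp only [← cl_tensor]
        exact cl_congr k _ _ (Algebra.TensorProduct.comm k _ _)
  one_mul x := by
    induction x using Br.ind with
    | h X =>
      simp only [one_def, ← cl_tensor]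
      exact cl_congr k _ _ (Algebra.TensorProduct.lid k _)
  mul_one x := by
    induction x using Br.ind with
    | h X =>
      simp only [one_def, ← cl_tensor]
      exact cl_congr k _ _ (Algebra.TensorProduct.rid k k _)

theorem cl_mul_cl_mulOpposite (A : Type v) [Ring A] [Algebra k A] [Algebra.IsCentral k A]
    [IsSimpleRing A] [FiniteDimensional k A] : cl k A * cl k Aᵐᵒᵖ = 1 := by
  rw [← cl_tensor, one_def, cl_eq_cl_iff]
  exact brEq_tensor_mulOpposite k A

noncomputable instance : CommGroup (Br k) :=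
  commGroupOfIsUnit fun x => by
    induction x using Br.ind with
    | h X => exact IsUnit.of_mul_eq_one _ (cl_mul_cl_mulOpposite k X.S)

theorem cl_eq_one_iff (A : Type v) [Ring A] [Algebra k A] [Algebra.IsCentral k A] [IsSimpleRing A]
    [FiniteDimensional k A] : cl k A = 1 ↔ Curves.Splits k A k := by
  rw [one_def, cl_eq_cl_iff]
  constructor
  · intro h
    obtain ⟨m, D, _, _, hm, _, _, ⟨e⟩⟩ := exists_divisionPart k A
    have hD : BrEq k D k := (BrEq.matrix m hm).symm.trans ((BrEq.of_algEquiv e.symm).trans h)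
    obtain ⟨f⟩ := hD.division_iso
    exact ⟨m, hm, ⟨(Algebra.TensorProduct.lid k A).trans (e.trans f.mapMatrix)⟩⟩
  · rintro ⟨n, hn, ⟨e⟩⟩
    exact (BrEq.of_algEquiv ((Algebra.TensorProduct.lid k A).symm.trans e)).trans (BrEq.matrix n hn)

theorem cl_matrix (A : Type v) [Ring A] [Algebra k A] [Algebra.IsCentral k A] [IsSimpleRing A]
    [FiniteDimensional k A] (n : ℕ) [NeZero n] : cl k (Matrix (Fin n) (Fin n) A) = cl k A :=
  (cl_eq_cl_iff k _ _).2 (BrEq.matrix n (NeZero.ne n))

theorem cl_of_matrix_equiv (A : Type v) [Ring A] [Algebra k A] [Algebra.IsCentral k A]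
    [IsSimpleRing A] [FiniteDimensional k A] (B : Type w) [Ring B] [Algebra k B]
    [Algebra.IsCentral k B] [IsSimpleRing B] [FiniteDimensional k B] {n : ℕ} (hn : n ≠ 0)
    (e : A ≃ₐ[k] Matrix (Fin n) (Fin n) B) : cl k A = cl k B :=
  (cl_eq_cl_iff k _ _).2 ((BrEq.of_algEquiv e).trans (BrEq.matrix n hn))

section Pi

theorem exists_isCSA_pi {ι : Type w} [Fintype ι] :
    ∀ (E : ι → Type v) [∀ i, Ring (E i)] [∀ i, Algebra k (E i)] [∀ i, Algebra.IsCentral k (E i)]
      [∀ i, IsSimpleRing (E i)] [∀ i, FiniteDimensional k (E i)],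
      ∃ (_ : Algebra.IsCentral k (⨂[k] i, E i)) (_ : IsSimpleRing (⨂[k] i, E i))
        (_ : FiniteDimensional k (⨂[k] i, E i)), cl k (⨂[k] i, E i) = ∏ i, cl k (E i) := by
  refine Fintype.induction_empty_option (P := fun ι _ =>
    ∀ (E : ι → Type v) [∀ i, Ring (E i)] [∀ i, Algebra k (E i)] [∀ i, Algebra.IsCentral k (E i)]
      [∀ i, IsSimpleRing (E i)] [∀ i, FiniteDimensional k (E i)],
      ∃ (_ : Algebra.IsCentral k (⨂[k] i, E i)) (_ : IsSimpleRing (⨂[k] i, E i))
        (_ : FiniteDimensional k (⨂[k] i, E i)), cl k (⨂[k] i, E i) = ∏ i, cl k (E i)) ?_ ?_ ?_ ι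
  · intro α β _ e ih E _ _ _ _ _
    let _ : Fintype α := Fintype.ofEquiv β e.symm
    obtain ⟨h1, h2, h3, h4⟩ := ih (fun a => E (e a))
    let f : (⨂[k] b, E b) ≃ₐ[k] ⨂[k] a, E (e a) := piReindexAlg k E e.symm
    obtain ⟨i1, i2, i3⟩ := IsCSA.congr f.symm ⟨h1, h2, h3⟩
    refine ⟨i1, i2, i3, ?_⟩
    rw [cl_congr k _ _ f, h4]
    exact e.prod_comp fun b => cl k (E b)
  · intro E _ _ _ _ _
    obtain ⟨i1, i2, i3⟩ := IsCSA.congr (piEmptyAlg k E).symm
      (⟨inferInstance, inferInstance, inferInstance⟩ : IsCSA k k)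
    exact ⟨i1, i2, i3, by rw [Fintype.prod_empty, cl_congr k _ _ (piEmptyAlg k E), one_def]⟩
  · intro α _ ih E _ _ _ _ _
    obtain ⟨h1, h2, h3, h4⟩ := ih (fun a => E (some a))
    let f := piOptionAlg k E
    obtain ⟨i1, i2, i3⟩ := IsCSA.congr f.symm ⟨inferInstance, inferInstance, inferInstance⟩
    refine ⟨i1, i2, i3, ?_⟩
    rw [cl_congr k _ _ f, cl_tensor, h4, Fintype.prod_option]

variable {ι : Type w} [Finite ι] (E : ι → Type v) [∀ i, Ring (E i)] [∀ i, Algebra k (E i)]
  [∀ i, Algebra.IsCentral k (E i)] [∀ i, IsSimpleRing (E i)] [∀ i, FiniteDimensional k (E i)]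

instance instIsCentralPi : Algebra.IsCentral k (⨂[k] i, E i) :=
  letI := Fintype.ofFinite ι
  (exists_isCSA_pi k E).1

instance instIsSimpleRingPi : IsSimpleRing (⨂[k] i, E i) :=
  letI := Fintype.ofFinite ι
  (exists_isCSA_pi k E).2.1

instance instFinitePi : FiniteDimensional k (⨂[k] i, E i) :=
  letI := Fintype.ofFinite ι
  (exists_isCSA_pi k E).2.2.1

theorem cl_pi {ι : Type w} [Fintype ι] (E : ι → Type v) [∀ i, Ring (E i)] [∀ i, Algebra k (E i)]
    [∀ i, Algebra.IsCentral k (E i)] [∀ i, IsSimpleRing (E i)] [∀ i, FiniteDimensional k (E i)] :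
    cl k (⨂[k] i, E i) = ∏ i, cl k (E i) :=
  (exists_isCSA_pi k E).2.2.2

end Pi

theorem cl_tpow (A : Type v) [Ring A] [Algebra k A] [Algebra.IsCentral k A] [IsSimpleRing A]
    [FiniteDimensional k A] (e : ℕ) : cl k (CSAGal.tpow k A e) = cl k A ^ e := by
  rw [cl_pi, Finset.prod_const, Finset.card_univ, Fintype.card_fin]

section Index

theorem exists_division (x : Br k) :
    ∃ (D : Type u) (_ : DivisionRing D) (_ : Algebra k D) (_ : Algebra.IsCentral k D)
      (_ : FiniteDimensional k D), cl k D = x := by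
  induction x using Br.ind with
  | h X =>
    obtain ⟨m, D, _, _, hm, hc, hf, ⟨e⟩⟩ := exists_divisionPart k X.S
    exact ⟨D, _, _, hc, hf, (cl_of_matrix_equiv k _ D hm e).symm⟩

theorem exists_ind (x : Br k) :
    ∃ d : ℕ, ∃ (D : Type u) (_ : DivisionRing D) (_ : Algebra k D) (_ : Algebra.IsCentral k D)
      (_ : FiniteDimensional k D), cl k D = x ∧ finrank k D = d ^ 2 := by
  obtain ⟨D, i1, i2, i3, i4, h⟩ := exists_division k x
  obtain ⟨d, -, hd⟩ := exists_deg k D
  exact ⟨d, D, i1, i2, i3, i4, h, hd⟩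

/-- the index of a Brauer class -/
noncomputable def ind (x : Br k) : ℕ := (exists_ind k x).choose

theorem finrank_eq_ind_sq {D : Type v} [DivisionRing D] [Algebra k D] [Algebra.IsCentral k D]
    [FiniteDimensional k D] : finrank k D = ind k (cl k D) ^ 2 := by
  obtain ⟨D', _, _, _, _, he, hd⟩ := (exists_ind k (cl k D)).choose_spec
  obtain ⟨f⟩ := ((cl_eq_cl_iff k _ _).1 he).division_iso
  show finrank k D = (exists_ind k (cl k D)).choose ^ 2
  rw [← hd, f.toLinearEquiv.finrank_eq]

theorem ind_eq_of_finrank {D : Type v} [DivisionRing D] [Algebra k D] [Algebra.IsCentral k D]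
    [FiniteDimensional k D] {d : ℕ} (hd : finrank k D = d ^ 2) : ind k (cl k D) = d :=
  Nat.pow_left_injective two_ne_zero ((finrank_eq_ind_sq k (D := D)).symm.trans hd)

theorem ind_pos (x : Br k) : 0 < ind k x := by
  obtain ⟨D, _, _, _, _, rfl⟩ := exists_division k x
  have h := finrank_eq_ind_sq k (D := D)
  refine Nat.pos_of_ne_zero fun h0 => ?_
  rw [h0] at h
  exact Module.finrank_pos.ne' h

theorem exists_matrix_division (A : Type v) [Ring A] [Algebra k A] [Algebra.IsCentral k A]
    [IsSimpleRing A] [FiniteDimensional k A] :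
    ∃ (m : ℕ) (D : Type v) (_ : DivisionRing D) (_ : Algebra k D) (_ : Algebra.IsCentral k D)
      (_ : FiniteDimensional k D), m ≠ 0 ∧ cl k A = cl k D ∧
      finrank k D = ind k (cl k A) ^ 2 ∧ finrank k A = (m * ind k (cl k A)) ^ 2 ∧
      Nonempty (A ≃ₐ[k] Matrix (Fin m) (Fin m) D) := by
  obtain ⟨m, D, _, _, hm, hc, hf, ⟨e⟩⟩ := exists_divisionPart k A
  have h := cl_of_matrix_equiv k A D hm e
  refine ⟨m, D, _, _, hc, hf, hm, h, h ▸ finrank_eq_ind_sq k, ?_, ⟨e⟩⟩
  rw [e.toLinearEquiv.finrank_eq, finrank_matrix, Fintype.card_fin, h, finrank_eq_ind_sq k (D := D),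
    mul_pow, sq m]

theorem ind_dvd {A : Type v} [Ring A] [Algebra k A] [Algebra.IsCentral k A]
    [IsSimpleRing A] [FiniteDimensional k A] {n : ℕ} (hn : finrank k A = n ^ 2) :
    ind k (cl k A) ∣ n := by
  obtain ⟨m, D, _, _, _, _, -, -, -, h, -⟩ := exists_matrix_division k A
  exact ⟨m, by rw [Nat.pow_left_injective two_ne_zero (hn.symm.trans h), mul_comm]⟩

theorem ind_one : ind k 1 = 1 := ind_eq_of_finrank k (D := k) (by simp)

theorem eq_one_of_ind_eq_one {x : Br k} (h : ind k x = 1) : x = 1 := by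
  obtain ⟨D, _, _, _, _, rfl⟩ := exists_division k x
  have hd := finrank_eq_ind_sq k (D := D)
  rw [h, one_pow] at hd
  refine (cl_congr k k D (AlgEquiv.ofBijective (Algebra.ofId k D) ?_)).symm
  exact bijective_algebraMap_of_linearEquiv (Module.nonempty_linearEquiv_of_finrank_eq_one hd).some

theorem isIndex_iff {A : Type v} [Ring A] [Algebra k A] [Algebra.IsCentral k A]
    [IsSimpleRing A] [FiniteDimensional k A] {d : ℕ} :
    CSAGal.IsIndex k A d ↔ d = ind k (cl k A) := by
  constructor
  · rintro ⟨hd, m, D, _, _, hm, hD, ⟨e⟩⟩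
    have : NeZero m := ⟨hm.ne'⟩
    have := isCentral_congr k e
    have : Algebra.IsCentral k D := isCentral_of_matrix k D m
    have : FiniteDimensional k D := Module.finite_of_finrank_pos (by rw [hD]; positivity)
    rw [cl_of_matrix_equiv k A D hm.ne' e, ind_eq_of_finrank k hD]
  · rintro rfl
    obtain ⟨m, D, _, _, _, _, hm, -, hD, -, he⟩ := exists_matrix_division k A
    exact ⟨ind_pos k _, m, D, _, _, Nat.pos_of_ne_zero hm, hD, he⟩

end Index

end Groth.Agent.CSA
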