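import Groth.Agent.CSA.RedNorm

/-!
# Ranges of reduced norms
-/

set_option autoImplicit false

open TensorProduct Module Matrix

namespace Groth.Agent.CSA

universe u v w w'

section BlockDet

variable {k : Type u} [Field k] {D : Type v} [DivisionRing D] [Algebra k D]
  {L : Type w} [Field L] [Algebra k L] {n : ℕ} (ψ : D →ₐ[k] Matrix (Fin n) (Fin n) L)

/-- determinant of a matrix over `D`, computed in `L` -/
noncomputable def bdet {ι : Type w'} [Fintype ι] [DecidableEq ι] (M : Matrix ι ι D) : L :=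
  (Matrix.comp ι ι (Fin n) (Fin n) L (M.map ψ)).det

theorem bdet_mul {ι : Type w'} [Fintype ι] [DecidableEq ι] (M N : Matrix ι ι D) :
    bdet ψ (M * N) = bdet ψ M * bdet ψ N := by
  unfold bdet
  rw [show (M * N).map ψ = M.map ψ * N.map ψ from Matrix.map_mul, ← Matrix.det_mul]
  congr 1
  exact map_mul (Matrix.compRingEquiv ι (Fin n) L) _ _

theorem bdet_reindex {ι : Type w'} [Fintype ι] [DecidableEq ι] {κ : Type*} [Fintype κ] [DecidableEq κ]
    (e : ι ≃ κ) (M : Matrix ι ι D) : bdet ψ (Matrix.reindex e e M) = bdet ψ M := by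
  unfold bdet
  rw [← Matrix.det_reindex_self (e.prodCongr (Equiv.refl (Fin n))) (Matrix.comp ι ι _ _ L (M.map ψ))]
  rfl

/-- splitting off the index `none` -/
def optionProdEquiv (α : Type w') (β : Type*) : Option α × β ≃ β ⊕ (α × β) where
  toFun x := match x.1 with
    | none => Sum.inl x.2
    | some a => Sum.inr (a, x.2)
  invFun x := match x with
    | Sum.inl b => (none, b)
    | Sum.inr (a, b) => (some a, b)
  left_inv := by rintro ⟨_ | a, b⟩ <;> rfl
  right_inv := by rintro (b | ⟨a, b⟩) <;> rfl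

theorem bdet_option {α : Type w'} [Fintype α] [DecidableEq α] (M : Matrix (Option α) (Option α) D) :
    bdet ψ M = (Matrix.fromBlocks (ψ (M none none))
      (Matrix.of fun i (x : α × Fin n) => ψ (M none (some x.1)) i x.2)
      (Matrix.of fun (x : α × Fin n) j => ψ (M (some x.1) none) x.2 j)
      (Matrix.comp α α (Fin n) (Fin n) L ((M.submatrix some some).map ψ))).det := by
  unfold bdet
  rw [← Matrix.det_reindex_self (optionProdEquiv α (Fin n))
    (Matrix.comp (Option α) (Option α) _ _ L (M.map ψ))]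
  congr 1
  ext (i | ⟨a, i⟩) (j | ⟨b, j⟩) <;> rfl

theorem bdet_of_column_zero {α : Type w'} [Fintype α] [DecidableEq α] [NeZero n]
    (M : Matrix (Option α) (Option α) D) (h : ∀ i, M i none = 0) : bdet ψ M = 0 := by
  refine Matrix.det_eq_zero_of_column_eq_zero (none, 0) ?_
  rintro ⟨i, a⟩
  show ψ (M i none) a 0 = 0
  rw [h, map_zero]
  rfl

theorem bdet_diag {α : Type w'} [Fintype α] [DecidableEq α] (d : D) :
    bdet ψ (Matrix.diagonal fun i : Option α => i.elim d fun _ => 1) = (ψ d).det := by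
  rw [bdet_option, show (Matrix.of fun i (x : α × Fin n) =>
      ψ ((Matrix.diagonal fun i : Option α => i.elim d fun _ => 1) none (some x.1)) i x.2) = 0 by
    ext i x
    simp, Matrix.det_fromBlocks_zero₁₂]
  rw [show Matrix.comp α α (Fin n) (Fin n) L (((Matrix.diagonal fun i : Option α => i.elim d fun _ => 1).submatrix
      some some).map ψ) = 1 by
    ext ⟨a, i⟩ ⟨b, j⟩
    rcases eq_or_ne a b with rfl | hab
    · simp [Matrix.one_apply]
    · simp [hab]]
  simp

theorem bdet_transvection {α : Type w'} [Fintype α] [DecidableEq α] (a : α) (c : D) :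
    bdet ψ (1 + Matrix.single (none : Option α) (some a) c) = 1 := by
  rw [bdet_option, show (Matrix.of fun (x : α × Fin n) j =>
      ψ ((1 + Matrix.single (none : Option α) (some a) c) (some x.1) none) x.2 j) = 0 by
    ext x j
    simp, Matrix.det_fromBlocks_zero₂₁]
  rw [show Matrix.comp α α (Fin n) (Fin n) L
      (((1 + Matrix.single (none : Option α) (some a) c).submatrix some some).map ψ) = 1 by
    ext ⟨b, i⟩ ⟨b', j⟩
    rcases eq_or_ne b b' with rfl | hb
    · simp [Matrix.one_apply]
    · simp [hb, Matrix.one_apply_ne]]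
  simp [Matrix.one_apply]

theorem exists_bdet_eq_det [NeZero n] (ι : Type w') [Fintype ι] :
    ∀ [DecidableEq ι] (M : Matrix ι ι D), ∃ d : D, bdet ψ M = (ψ d).det := by
  refine Fintype.induction_empty_option (P := fun ι _ =>
    ∀ [DecidableEq ι] (M : Matrix ι ι D), ∃ d : D, bdet ψ M = (ψ d).det) ?_ ?_ ?_ ι
  · intro α β _ e ih _ M
    letI : Fintype α := Fintype.ofEquiv β e.symm
    letI : DecidableEq α := e.injective.decidableEq
    obtain ⟨d, hd⟩ := ih (Matrix.reindex e.symm e.symm M)
    exact ⟨d, by rw [← hd, bdet_reindex]⟩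
  · intro _ M
    exact ⟨1, by simp [bdet]⟩
  · intro α _ ih
    letI : DecidableEq α := Classical.decEq α
    let d0 : DecidableEq (Option α) := inferInstance
    intro dec M
    obtain rfl : dec = d0 := Subsingleton.elim _ _
    classical
    by_cases hz : ∀ i, M i none = 0
    · exact ⟨0, by rw [bdet_of_column_zero ψ M hz, map_zero, Matrix.det_zero]⟩
    obtain ⟨i, hi⟩ := not_forall.1 hz
    suffices h : ∀ M : Matrix (Option α) (Option α) D, M none none ≠ 0 →
        ∃ d, bdet ψ M = (ψ d).det by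
      by_cases h0 : M none none = 0
      · obtain ⟨a, rfl⟩ : ∃ a, i = some a := by
          cases i with
          | none => exact absurd h0 hi
          | some a => exact ⟨a, rfl⟩
        obtain ⟨d, hd⟩ := h ((1 + Matrix.single (none : Option α) (some a) (1 : D)) * M)
          (by simpa [add_mul, h0] using hi)
        refine ⟨d, ?_⟩
        rw [← hd, bdet_mul, bdet_transvection, one_mul]
      · exact h M h0
    intro M h0
    let a := M none none
    let S : Matrix α α D := Matrix.of fun b c => M (some b) (some c) - M (some b) none * a⁻¹ * M none (some c)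
    obtain ⟨d, hd⟩ := ih S
    refine ⟨a * d, ?_⟩
    have hinv : Invertible (ψ a) := ⟨ψ a⁻¹, by rw [← map_mul, inv_mul_cancel₀ h0, map_one],
      by rw [← map_mul, mul_inv_cancel₀ h0, map_one]⟩
    rw [bdet_option, Matrix.det_fromBlocks₁₁, map_mul, Matrix.det_mul, ← hd]
    congr 2
    ext ⟨b, i⟩ ⟨c, j⟩
    have h1 : ⅟(ψ (M none none)) = ψ (M none none)⁻¹ :=
      invOf_eq_right_inv (by rw [← map_mul, mul_inv_cancel₀ h0, map_one])
    simp only [Matrix.sub_apply, Matrix.comp_apply, Matrix.map_apply, Matrix.submatrix_apply,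
      Matrix.of_apply, S, a, map_sub, map_mul, h1]
    rfl

end BlockDet

section Range

variable (k : Type u) [Field k]

theorem rn_congr {A : Type v} [Ring A] [Algebra k A] [Algebra.IsCentral k A] [IsSimpleRing A]
    [FiniteDimensional k A] {B : Type w} [Ring B] [Algebra k B] [Algebra.IsCentral k B]
    [IsSimpleRing B] [FiniteDimensional k B] (e : A ≃ₐ[k] B) (a : A) : rn k B (e a) = rn k A a := by
  let ψ := ((closureSplitting k B).toAlgHom.restrictScalars k).comp
    (Algebra.TensorProduct.includeRight : B →ₐ[k] AlgebraicClosure k ⊗[k] B)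
  apply (algebraMap k (AlgebraicClosure k)).injective
  rw [rn_map k B (finrank_eq_deg_sq k B) ψ,
    rn_map k A (e.toLinearEquiv.finrank_eq.trans (finrank_eq_deg_sq k B)) (ψ.comp e.toAlgHom)]
  rfl

variable {k} {D : Type v} [DivisionRing D] [Algebra k D] [Algebra.IsCentral k D] [FiniteDimensional k D]

theorem rn_matrix (m : ℕ) [NeZero m] {n : ℕ} (hn : finrank k D = n ^ 2) {L : Type w} [Field L]
    [Algebra k L] (ψ : D →ₐ[k] Matrix (Fin n) (Fin n) L) (M : Matrix (Fin m) (Fin m) D) :
    algebraMap k L (rn k (Matrix (Fin m) (Fin m) D) M) = bdet ψ M := by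
  let Ψ : Matrix (Fin m) (Fin m) D →ₐ[k] Matrix (Fin (m * n)) (Fin (m * n)) L :=
    (Matrix.reindexAlgEquiv k L finProdFinEquiv).toAlgHom.comp
      ((Matrix.compAlgEquiv (Fin m) (Fin n) L k).toAlgHom.comp ψ.mapMatrix)
  rw [rn_map k _ (n := m * n) (by rw [finrank_matrix, hn, Fintype.card_fin, mul_pow, sq m]) Ψ]
  exact Matrix.det_reindex_self (R := L) finProdFinEquiv (Matrix.comp (Fin m) (Fin m) (Fin n) (Fin n) L (M.map ψ))

theorem exists_rn_matrix_eq (m : ℕ) [NeZero m] (c : k) :
    (∃ M : Matrix (Fin m) (Fin m) D, rn k _ M = c) ↔ ∃ d : D, rn k D d = c := by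
  let n := deg k D
  let ψ := ((closureSplitting k D).toAlgHom.restrictScalars k).comp
    (Algebra.TensorProduct.includeRight : D →ₐ[k] AlgebraicClosure k ⊗[k] D)
  have hn := finrank_eq_deg_sq k D
  constructor
  · rintro ⟨M, rfl⟩
    obtain ⟨d, hd⟩ := exists_bdet_eq_det ψ (Fin m) M
    exact ⟨d, (algebraMap k (AlgebraicClosure k)).injective (by
      rw [rn_map k D hn ψ, rn_matrix m hn ψ, hd])⟩
  · rintro ⟨d, rfl⟩
    obtain ⟨j, rfl⟩ : ∃ j, m = j + 1 := ⟨m - 1, (Nat.succ_pred_eq_of_ne_zero (NeZero.ne m)).symm⟩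
    refine ⟨Matrix.reindex (finSuccEquiv j).symm (finSuccEquiv j).symm
      (Matrix.diagonal fun i : Option (Fin j) => i.elim d fun _ => 1), ?_⟩
    apply (algebraMap k (AlgebraicClosure k)).injective
    rw [rn_map k D hn ψ, rn_matrix (j + 1) hn ψ, bdet_reindex, bdet_diag]

theorem exists_rn_eq_iff_division {A : Type w} [Ring A] [Algebra k A] [Algebra.IsCentral k A]
    [IsSimpleRing A] [FiniteDimensional k A] {m : ℕ} (hm : m ≠ 0)
    (e : A ≃ₐ[k] Matrix (Fin m) (Fin m) D) (c : k) :
    (∃ a : A, rn k A a = c) ↔ ∃ d : D, rn k D d = c := by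
  have : NeZero m := ⟨hm⟩
  rw [← exists_rn_matrix_eq m c]
  exact ⟨fun ⟨a, h⟩ => ⟨e a, by rw [rn_congr, h]⟩,
    fun ⟨M, h⟩ => ⟨e.symm M, by rw [rn_congr, h]⟩⟩

variable (k)

/-- Brauer equivalent algebras have the same nonzero reduced norms -/
theorem exists_rn_eq_iff_of_cl_eq {A : Type w} [Ring A] [Algebra k A] [Algebra.IsCentral k A]
    [IsSimpleRing A] [FiniteDimensional k A] {B : Type w'} [Ring B] [Algebra k B]
    [Algebra.IsCentral k B] [IsSimpleRing B] [FiniteDimensional k B] (h : cl k A = cl k B) (c : k) :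
    (∃ a : A, rn k A a = c) ↔ ∃ b : B, rn k B b = c := by
  obtain ⟨m, D, _, _, _, _, hm, hA, -, -, ⟨e⟩⟩ := exists_matrix_division k A
  obtain ⟨m', D', _, _, _, _, hm', hB, -, -, ⟨e'⟩⟩ := exists_matrix_division k B
  obtain ⟨f⟩ := ((cl_eq_cl_iff k D D').1 (hA.symm.trans (h.trans hB))).division_iso
  rw [exists_rn_eq_iff_division hm e, exists_rn_eq_iff_division hm' e']
  exact ⟨fun ⟨a, h⟩ => ⟨f a, by rw [rn_congr, h]⟩, fun ⟨a, h⟩ => ⟨f.symm a, by rw [rn_congr, h]⟩⟩

end Range

section SplitNorm

variable (k : Type u) [Field k] (K : Type w) [Field K] [Algebra k K] [FiniteDimensional k K]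
variable {A : Type v} [Ring A] [Algebra k A] [Algebra.IsCentral k A] [IsSimpleRing A]
  [FiniteDimensional k A]

/-- a splitting field is a subfield of a Brauer equivalent algebra of the same degree -/
theorem exists_brEq_subfield (h : res k K (cl k A) = 1) :
    ∃ (B : Type w) (_ : Ring B) (_ : Algebra k B) (_ : Algebra.IsCentral k B) (_ : IsSimpleRing B)
      (_ : FiniteDimensional k B) (_ : K →ₐ[k] B),
      cl k B = cl k A ∧ finrank k B = finrank k K ^ 2 := by
  classical
  obtain ⟨n, hn, ⟨φ⟩⟩ := (splits_iff k K Aᵐᵒᵖ).2 (by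
    have h2 := congrArg (res k K) (cl_mul_cl_mulOpposite k A)
    rwa [map_mul, h, one_mul, map_one] at h2)
  have : Nonempty (Fin n) := ⟨⟨0, Nat.pos_of_ne_zero hn⟩⟩
  let V := Fin n → K
  let E := Module.End k V
  haveI : IsSimpleRing E :=
    .of_ringEquiv (algEquivMatrix (Module.finBasis k V)).symm.toRingEquiv
      (by
        have : Nonempty (Fin (finrank k V)) := ⟨⟨0, Module.finrank_pos⟩⟩
        infer_instance)
  haveI : Algebra.IsCentral k E := isCentral_congr k (algEquivMatrix (Module.finBasis k V)).symm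
  let ρ : Aᵐᵒᵖ →ₐ[k] E := (mulVecHom k K (Fin n)).comp
    ((φ.toAlgHom.restrictScalars k).comp Algebra.TensorProduct.includeRight)
  let eρ : Aᵐᵒᵖ ≃ₐ[k] ρ.range := AlgEquiv.ofInjective ρ (RingHom.injective ρ.toRingHom)
  obtain ⟨i1, i2, i3⟩ := IsCSA.congr (k := k) (A := Aᵐᵒᵖ) (B := ρ.range) eρ ⟨inferInstance, inferInstance, inferInstance⟩
  let C := Subalgebra.centralizer k (ρ.range : Set E)
  haveI : IsSimpleRing C := CSACentralizer.isSimpleRing_centralizer k E ρ.range
  have hbij := CSACentralizer.bijective_lift k E ρ.range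
  let Φ := AlgEquiv.ofBijective _ hbij
  haveI : Algebra.IsCentral k C := ⟨fun x hx => by
    have hxE : (x : E) ∈ Subalgebra.center k E := Subalgebra.mem_center_iff.2 fun y => by
      obtain ⟨z, rfl⟩ := hbij.2 y
      induction z using TensorProduct.induction_on with
      | zero => simp
      | tmul b c =>
        rw [Algebra.TensorProduct.lift_tmul]
        show (b : E) * c * x = x * (b * c)
        rw [mul_assoc, show (c : E) * x = x * c from congrArg Subtype.val (Subalgebra.mem_center_iff.1 hx c),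
          ← mul_assoc, x.2 b b.2, mul_assoc]
      | add a b ha hb => rw [map_add, add_mul, mul_add, ha, hb]
    obtain ⟨c, hc⟩ := Algebra.IsCentral.out (K := k) (D := E) hxE
    exact ⟨c, Subtype.ext hc⟩⟩
  have hdim : finrank k C = finrank k K ^ 2 := by
    have h1 := CSACentralizer.finrank_mul_finrank_centralizer k E ρ.range
    rw [← eρ.toLinearEquiv.finrank_eq, Module.finrank_linearMap, finrank_pi_fintype, Finset.sum_const,
      Finset.card_univ, Fintype.card_fin, smul_eq_mul] at h1
    have hA : finrank k Aᵐᵒᵖ = n ^ 2 := by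
      rw [← Module.finrank_baseChange (R := K), φ.toLinearEquiv.finrank_eq, finrank_matrix]
      simp [sq]
    rw [hA] at h1
    refine Nat.eq_of_mul_eq_mul_left (n := n ^ 2) (pow_pos (Nat.pos_of_ne_zero hn) 2) (h1.trans ?_)
    ring
  have hcl : cl k C = cl k A := by
    have h1 : cl k ρ.range * cl k C = 1 := by
      rw [← cl_tensor, one_def, cl_eq_cl_iff]
      exact (BrEq.of_algEquiv (Φ.trans (algEquivMatrix (Module.finBasis k V)))).trans
        (BrEq.matrix _ Module.finrank_pos.ne')
    rw [← cl_congr k _ _ eρ] at h1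
    have h2 := cl_mul_cl_mulOpposite k A
    calc cl k C = cl k A * cl k Aᵐᵒᵖ * cl k C := by rw [h2, one_mul]
      _ = cl k A := by rw [mul_assoc, h1, mul_one]
  let j : K →ₐ[k] E := Algebra.lsmul k k V
  have hj : ∀ x, j x ∈ C := fun x y hy => by
    obtain ⟨a, rfl⟩ := hy
    refine LinearMap.ext fun v => ?_
    show Matrix.mulVec _ (x • v) = x • Matrix.mulVec _ v
    rw [Matrix.mulVec_smul]
  exact ⟨C, inferInstance, inferInstance, inferInstance, inferInstance, inferInstance,
    j.codRestrict C hj, hcl, hdim⟩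

theorem norm_mem_range_of_splits (h : res k K (cl k A) = 1) (x : K) :
    ∃ a : A, rn k A a = Algebra.norm k x := by
  obtain ⟨B, _, _, _, _, _, ι, hcl, hd⟩ := exists_brEq_subfield k K h
  refine (exists_rn_eq_iff_of_cl_eq k hcl _).1 ⟨ι x, ?_⟩
  show rnFun k B (ι x) = _
  rw [rnFun, redPoly_subfield k B hd rfl ι x, deg_eq k B hd,
    Algebra.norm_eq_matrix_det (Module.finBasis k K), Matrix.det_eq_sign_charpoly_coeff,
    Fintype.card_fin]

end SplitNorm

end Groth.Agent.CSA
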