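import Groth.Agent.CSA.EtaleSplit

/-!
# Existence of etale maximal subalgebras over local rings
-/

set_option autoImplicit false

open TensorProduct Polynomial IsLocalRing

namespace Groth.Agent.CSA

universe u v

theorem separable_minpoly_of_adjoin (k : Type u) [Field k] {B : Type v} [Ring B] [Algebra k B] (x : B)
    (h : Algebra.IsSeparable k (Algebra.adjoin k ({x} : Set B))) : (minpoly k x).Separable := by
  let S := Algebra.adjoin k ({x} : Set B)
  let y : S := ⟨x, Algebra.self_mem_adjoin_singleton k x⟩
  have h1 : (minpoly k y).Separable := h.isSeparable' y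
  have h2 : minpoly k (S.val y) = minpoly k y := minpoly.algHom_eq S.val Subtype.val_injective y
  rw [← h2] at h1
  exact h1

theorem minpoly_natDegree_of_adjoin (k : Type u) [Field k] {B : Type v} [Ring B] [Algebra k B]
    [Module.Finite k B] (x : B) (r : ℕ)
    (h : Module.finrank k (Algebra.adjoin k ({x} : Set B)) = r) : (minpoly k x).natDegree = r := by
  rw [← finrank_adjoin_eq k x, h]

variable {R : Type u} [CommRing R] {A : Type v} [Ring A] [Algebra R A]

/-- the map `R[X]/P → A` sending the root to `a` -/
noncomputable def rootHom (P : R[X]) (a : A) (h : aeval a P = 0) : AdjoinRoot P →ₐ[R] A :=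
  Ideal.Quotient.liftₐ (Ideal.span {P}) (aeval a) (fun p hp => by
    obtain ⟨q, rfl⟩ := Ideal.mem_span_singleton'.1 hp
    rw [map_mul, h, mul_zero])

theorem rootHom_root (P : R[X]) (a : A) (h : aeval a P = 0) :
    rootHom P a h (AdjoinRoot.root P) = a := aeval_X a

theorem rootHom_powerBasis (P : R[X]) (hP : P.Monic) (a : A) (h : aeval a P = 0)
    (j : Fin (AdjoinRoot.powerBasis' hP).dim) :
    rootHom P a h ((AdjoinRoot.powerBasis' hP).basis j) = a ^ (j : ℕ) := by
  rw [PowerBasis.basis_eq_pow, map_pow]
  exact congrArg (· ^ (j : ℕ)) (rootHom_root P a h)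

theorem finrank_adjoinRoot [Nontrivial R] (P : R[X]) (hP : P.Monic) :
    Module.finrank R (AdjoinRoot P) = P.natDegree := by
  rw [(AdjoinRoot.powerBasis' hP).finrank, AdjoinRoot.powerBasis'_dim]

theorem rootHom_residual_injective [IsLocalRing R] [Module.Free R A] [Module.Finite R A]
    (P : R[X]) (hP : P.Monic) (a : A) (h : aeval a P = 0)
    (hdeg : (minpoly (ResidueField R) ((1 : ResidueField R) ⊗ₜ[R] a)).natDegree = P.natDegree) :
    Function.Injective ((rootHom P a h).toLinearMap.lTensor (ResidueField R)) := by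
  let k := ResidueField R
  let pb := AdjoinRoot.powerBasis' hP
  let b := pb.basis.baseChange k
  show Function.Injective ((rootHom P a h).toLinearMap.baseChange k)
  refine LinearMap.injective_of_linearIndependent (v := b) b.span_eq ?_
  have hd : pb.dim = (minpoly k ((1 : k) ⊗ₜ[R] a)).natDegree := by
    rw [AdjoinRoot.powerBasis'_dim, hdeg]
  have hv : ((rootHom P a h).toLinearMap.baseChange k) ∘ b =
      (fun i : Fin (minpoly k ((1 : k) ⊗ₜ[R] a)).natDegree => ((1 : k) ⊗ₜ[R] a) ^ (i : ℕ)) ∘
        Fin.cast hd := by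
    funext j
    simp [b, pb, rootHom_powerBasis, rootHom_root, Algebra.TensorProduct.tmul_pow]
  rw [hv]
  exact (linearIndependent_pow _).comp _ (Fin.cast_injective hd)

end Groth.Agent.CSA
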