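import Groth.Agent.CSA.Descent
import Groth.Agent.CSA.Basic

/-!
# The Azumaya property is tested on closed fibres
-/

set_option autoImplicit false

open TensorProduct

namespace Groth.Agent.CSA

universe u v w

variable (R : Type u) [CommRing R]

theorem subsingleton_of_residueField_tensor {Q : Type w} [AddCommGroup Q] [Module R Q]
    [Module.Finite R Q]
    (h : ∀ (m : Ideal R) [m.IsMaximal], ∃ (S : Type u) (_ : Field S) (_ : Algebra R S),
      (∀ r ∈ m, algebraMap R S r = 0) ∧ Subsingleton (S ⊗[R] Q)) : Subsingleton Q := by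
  by_contra hQ
  rw [not_subsingleton_iff_nontrivial] at hQ
  obtain ⟨N, hN, -⟩ := (eq_top_or_exists_le_coatom (⊥ : Submodule R Q)).resolve_left bot_ne_top
  have : IsSimpleModule R (Q ⧸ N) := isSimpleModule_iff_isCoatom.2 hN
  obtain ⟨m, hm, ⟨e⟩⟩ := isSimpleModule_iff_quot_maximal.1 this
  obtain ⟨S, _, _, hS, _⟩ := h m
  let ψ : Q →ₗ[R] S :=
    (Submodule.liftQ m (Algebra.linearMap R S) fun r hr => by
      rw [LinearMap.mem_ker, Algebra.linearMap_apply]
      exact hS r hr) ∘ₗ e.toLinearMap ∘ₗ N.mkQ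
  obtain ⟨x, hx⟩ := N.mkQ_surjective (e.symm (Submodule.Quotient.mk (p := m) 1))
  have h1 : ψ x = 1 := by
    simp only [ψ, LinearMap.coe_comp, LinearEquiv.coe_coe, Function.comp_apply, hx,
      LinearEquiv.apply_symm_apply, Submodule.liftQ_apply, Algebra.linearMap_apply, map_one]
  have h2 : ψ x = (ψ.liftBaseChange S) ((1 : S) ⊗ₜ x) := by simp
  rw [Subsingleton.elim ((1 : S) ⊗ₜ[R] x) 0, map_zero] at h2
  exact one_ne_zero (h1.symm.trans h2)

theorem surjective_of_residueField_lTensor {M N : Type*} [AddCommGroup M] [Module R M]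
    [AddCommGroup N] [Module R N] [Module.Finite R N] (f : M →ₗ[R] N)
    (hf : ∀ (m : Ideal R) [m.IsMaximal], ∃ (S : Type u) (_ : Field S) (_ : Algebra R S),
      (∀ r ∈ m, algebraMap R S r = 0) ∧ Function.Surjective (f.lTensor S)) :
    Function.Surjective f := by
  have := subsingleton_of_residueField_tensor R (Q := N ⧸ LinearMap.range f) fun m _ => by
    obtain ⟨S, i₁, i₂, hS, hfS⟩ := hf m
    refine ⟨S, i₁, i₂, hS, ⟨fun a b => ?_⟩⟩
    suffices ∀ z, z = (0 : S ⊗[R] (N ⧸ LinearMap.range f)) by rw [this a, this b]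
    intro z
    obtain ⟨y, rfl⟩ := LinearMap.lTensor_surjective _
      (Submodule.mkQ_surjective (LinearMap.range f)) z
    obtain ⟨x, rfl⟩ := hfS y
    rw [← LinearMap.comp_apply, ← LinearMap.lTensor_comp, LinearMap.range_mkQ_comp,
      LinearMap.lTensor_zero, LinearMap.zero_apply]
  rw [← LinearMap.range_eq_top]
  exact (Submodule.Quotient.subsingleton_iff).1 this

theorem isSimpleRing_of_isAzumaya (k : Type u) [Field k] (A : Type v) [Ring A] [Algebra k A]
    [IsAzumaya k A] : IsSimpleRing A :=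
  have := isSimpleRing_tensor' k A k
  .of_ringEquiv (Algebra.TensorProduct.lid k A).toRingEquiv this

theorem isAzumaya_of_fibres (B : Type w) [Ring B] [Algebra R B] [Module.Finite R B]
    [Module.Projective R B]
    (h : ∀ (m : Ideal R) [m.IsMaximal], ∃ (S : Type u) (_ : Field S) (_ : Algebra R S),
      (∀ r ∈ m, algebraMap R S r = 0) ∧ IsAzumaya S (S ⊗[R] B)) :
    IsAzumaya R B := by
  obtain ⟨n, e, f, hef⟩ := exists_dual_basis R B
  obtain ⟨g, hg⟩ : ∃ g : Module.Dual R B, g 1 = 1 := by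
    let T : Ideal R := LinearMap.range (Module.Dual.eval R B 1)
    suffices h1 : T = ⊤ from (Ideal.eq_top_iff_one T).1 h1
    by_contra hT
    obtain ⟨m, hm, hTm⟩ := Ideal.exists_le_maximal T hT
    obtain ⟨S, _, _, hS, _⟩ := h m
    obtain ⟨G, hG⟩ := exists_dual_one_eq_one S (S ⊗[R] B)
    rw [Algebra.TensorProduct.one_def, ← hef 1, tmul_sum, map_sum] at hG
    refine one_ne_zero (hG.symm.trans (Finset.sum_eq_zero fun i _ => ?_))
    rw [tmul_smul, ← IsScalarTower.algebraMap_smul S (f i 1),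
      hS (f i 1) (hTm ⟨f i, rfl⟩), zero_smul, map_zero]
  have : FaithfulSMul R B := ⟨fun {r s} h => by simpa [hg] using congrArg g (h 1)⟩
  refine @IsAzumaya.mk R B _ _ _ inferInstance inferInstance inferInstance
    (mulLeftRight_bijective_of_surjective R B ?_)
  have := Module.finitePresentation_of_projective R B
  have : Module.Finite R (Module.End R B) := .equiv (dualTensorHomEquiv R B B)
  let φ := (AlgHom.mulLeftRight R B).toLinearMap
  refine surjective_of_residueField_lTensor R φ fun m _ => ?_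
  obtain ⟨S, i₁, i₂, hS, _⟩ := h m
  refine ⟨S, i₁, i₂, hS, fun z => ?_⟩
  let Ψ := (LinearMap.baseChangeHom R S B B).liftBaseChange S
  have key : ∀ x : (S ⊗[R] B) ⊗[S] (S ⊗[R] B)ᵐᵒᵖ, ∃ y : S ⊗[R] (B ⊗[R] Bᵐᵒᵖ),
      Ψ (φ.baseChange S y) = AlgHom.mulLeftRight S (S ⊗[R] B) x := by
    suffices H : ∀ a b : S ⊗[R] B, ∃ y : S ⊗[R] (B ⊗[R] Bᵐᵒᵖ),
        Ψ (φ.baseChange S y) = AlgHom.mulLeftRight S (S ⊗[R] B) (a ⊗ₜ MulOpposite.op b) by
      intro x
      induction x using TensorProduct.induction_on with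
      | zero => exact ⟨0, by simp⟩
      | tmul a b => exact H a b.unop
      | add x y hx hy =>
        obtain ⟨u, hu⟩ := hx; obtain ⟨v, hv⟩ := hy
        exact ⟨u + v, by simp only [map_add, hu, hv]⟩
    intro a b
    induction a using TensorProduct.induction_on with
    | zero => exact ⟨0, by simp⟩
    | add a a' ha ha' =>
      obtain ⟨u, hu⟩ := ha; obtain ⟨v, hv⟩ := ha'
      exact ⟨u + v, by simp only [add_tmul, map_add, hu, hv]⟩
    | tmul s c =>
      induction b using TensorProduct.induction_on with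
      | zero => exact ⟨0, by simp⟩
      | add b b' hb hb' =>
        obtain ⟨u, hu⟩ := hb; obtain ⟨v, hv⟩ := hb'
        exact ⟨u + v, by simp only [MulOpposite.op_add, tmul_add, map_add, hu, hv]⟩
      | tmul t d =>
        refine ⟨(s * t) ⊗ₜ (c ⊗ₜ MulOpposite.op d), ?_⟩
        refine LinearMap.ext fun w => ?_
        induction w using TensorProduct.induction_on with
        | zero => simp
        | add w w' hw hw' => simp only [map_add, hw, hw']
        | tmul r m =>
          simp [Ψ, φ, smul_tmul', mul_comm, mul_assoc, mul_left_comm]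
  obtain ⟨x, hx⟩ := (IsAzumaya.bij (R := S) (A := S ⊗[R] B)).2 (Ψ z)
  obtain ⟨y, hy⟩ := key x
  exact ⟨y, endBaseChange_injective R S B (hy.trans hx)⟩

theorem isAzumaya_iff_fibres (A : Type u) [Ring A] [Algebra R A] [Module.Finite R A]
    [Module.Projective R A] :
    IsAzumaya R A ↔ ∀ (p : Ideal R) [p.IsPrime],
      Algebra.IsCentral p.ResidueField (p.ResidueField ⊗[R] A) ∧
        IsSimpleRing (p.ResidueField ⊗[R] A) := by
  refine ⟨fun _ p _ => ?_, fun h => isAzumaya_of_fibres R A fun m _ => ?_⟩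
  · have := isAzumaya_baseChange R p.ResidueField A
    exact ⟨isCentral p.ResidueField (p.ResidueField ⊗[R] A),
      isSimpleRing_of_isAzumaya p.ResidueField (p.ResidueField ⊗[R] A)⟩
  · obtain ⟨_, _⟩ := h m
    exact ⟨m.ResidueField, inferInstance, inferInstance,
      fun r hr => Ideal.algebraMap_residueField_eq_zero.mpr hr,
      isAzumaya_of_isCentral m.ResidueField (m.ResidueField ⊗[R] A)⟩

end Groth.Agent.CSA
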