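import Groth.Agent.CSA.Splitting
import Groth.Agent.CSA.Antisym
import Groth.Agent.CSA.RedCharpoly
import Groth.Agent.CSA.InvolutionForms

/-!
# Tensor powers: the index of `A^{⊗ r}` divides `choose n r`
-/

set_option autoImplicit false

open TensorProduct Module Matrix

namespace Groth.Agent.CSA

universe u v

variable (k : Type u) [Field k] (A : Type v) [Ring A] [Algebra k A]

section Phi

variable {k} {A} {K : Type u} [Field K] [Algebra k K] {n : ℕ}
  (ψ : A →ₐ[k] Matrix (Fin n) (Fin n) K) (r : ℕ)

/-- entry functional -/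
noncomputable def entryLin (p q : Fin n) : A →ₗ[k] K :=
  (Matrix.entryLinearMap k K p q).comp ψ.toLinearMap

/-- Kronecker power as a multilinear map -/
noncomputable def kronMulti :
    MultilinearMap k (fun _ : Fin r => A) (Matrix (Fin r → Fin n) (Fin r → Fin n) K) :=
  (Matrix.ofLinearEquiv k).toLinearMap.compMultilinearMap
    (MultilinearMap.pi fun s => MultilinearMap.pi fun t =>
      (MultilinearMap.mkPiAlgebra k (Fin r) K).compLinearMap fun c => entryLin ψ (s c) (t c))

theorem kronMulti_apply (x : Fin r → A) (s t : Fin r → Fin n) :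
    kronMulti ψ r x s t = ∏ c, ψ (x c) (s c) (t c) := by
  simp [kronMulti, entryLin]

/-- representation of the tensor power -/
noncomputable def kronHom :
    CSAGal.tpow k A r →ₐ[k] Matrix (Fin r → Fin n) (Fin r → Fin n) K :=
  PiTensorProduct.liftAlgHom (kronMulti ψ r)
    (by
      ext s t
      simp only [kronMulti_apply, Pi.one_apply, map_one, Matrix.one_apply, Fintype.prod_boole,
        funext_iff]
      congr)
    (fun x y => by
      ext s t
      simp only [kronMulti_apply, Pi.mul_apply, map_mul, Matrix.mul_apply, Fintype.prod_sum,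
        Finset.prod_mul_distrib])

theorem kronHom_tprod (x : Fin r → A) (s t : Fin r → Fin n) :
    kronHom ψ r (PiTensorProduct.tprod k x) s t = ∏ c, ψ (x c) (s c) (t c) := by
  show PiTensorProduct.lift (kronMulti ψ r) (PiTensorProduct.tprod k x) s t = _
  rw [PiTensorProduct.lift.tprod, kronMulti_apply]

/-- one tensor factor -/
noncomputable def singleHom (c : Fin r) : A →ₐ[k] CSAGal.tpow k A r :=
  PiTensorProduct.singleAlgHom (A := fun _ : Fin r => A) c

/-- two tensor factors -/
noncomputable def pairHom (a b : Fin r) (hab : a ≠ b) : A ⊗[k] A →ₐ[k] CSAGal.tpow k A r :=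
  Algebra.TensorProduct.lift (singleHom r a) (singleHom r b)
    fun x y => by
      show Commute (PiTensorProduct.tprod k (MonoidHom.mulSingle (fun _ : Fin r => A) a x))
        (PiTensorProduct.tprod k (MonoidHom.mulSingle (fun _ : Fin r => A) b y))
      apply Commute.tprod
      exact Pi.mulSingle_commute (f := fun _ : Fin r => A) hab x y

theorem kronHom_pairHom_swap {g : A ⊗[k] A}
    (hg : ∀ p q p' q', (TensorProduct.lift ((LinearMap.mul k K).compl₁₂ (entryLin ψ p q)
      (entryLin ψ p' q'))) g = if p = q' ∧ q = p' then 1 else 0)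
    (a b : Fin r) (hab : a ≠ b) :
    kronHom ψ r (pairHom r a b hab g) = permMat K r n (Equiv.swap a b) := by
  classical
  ext s t
  let R : K := ∏ c ∈ ({a, b} : Finset (Fin r))ᶜ, (1 : Matrix (Fin n) (Fin n) K) (s c) (t c)
  have key : ((Matrix.entryLinearMap k K s t).comp
      ((kronHom ψ r).comp (pairHom r a b hab)).toLinearMap) =
      R • TensorProduct.lift ((LinearMap.mul k K).compl₁₂ (entryLin ψ (s a) (t a))
        (entryLin ψ (s b) (t b))) := by
    refine TensorProduct.ext' fun x y => ?_
    show kronHom ψ r (pairHom r a b hab (x ⊗ₜ y)) s t = R * (ψ x (s a) (t a) * ψ y (s b) (t b))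
    have hxy : pairHom r a b hab (x ⊗ₜ y) =
        PiTensorProduct.tprod k (Pi.mulSingle a x * Pi.mulSingle b y) := by
      simp [pairHom, singleHom]
    rw [hxy, kronHom_tprod, ← Finset.prod_compl_mul_prod ({a, b} : Finset (Fin r)),
      Finset.prod_pair hab]
    congr 1
    · refine Finset.prod_congr rfl fun c hc => ?_
      simp only [Finset.mem_compl, Finset.mem_insert, Finset.mem_singleton, not_or] at hc
      simp [hc.1, hc.2]
    · simp [hab, hab.symm]
  have h := LinearMap.congr_fun key g
  rw [LinearMap.smul_apply, hg] at h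
  show ((Matrix.entryLinearMap k K s t).comp
      ((kronHom ψ r).comp (pairHom r a b hab)).toLinearMap) g = _
  rw [h, smul_eq_mul, permMat, Matrix.of_apply]
  by_cases ht : t = s ∘ ⇑(Equiv.swap a b)
  · subst ht
    rw [if_pos rfl, if_pos ⟨by simp, by simp⟩, mul_one]
    refine Finset.prod_eq_one fun c hc => ?_
    simp only [Finset.mem_compl, Finset.mem_insert, Finset.mem_singleton, not_or] at hc
    rw [Function.comp_apply, Equiv.swap_apply_of_ne_of_ne hc.1 hc.2, Matrix.one_apply_eq]
  · rw [if_neg ht]
    obtain ⟨c, hc⟩ := Function.ne_iff.1 ht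
    by_cases hca : c = a
    · subst hca
      rw [if_neg (fun h' => hc (by simp [← h'.2])), mul_zero]
    by_cases hcb : c = b
    · subst hcb
      rw [if_neg (fun h' => hc (by simp [h'.1])), mul_zero]
    have h0 : R = 0 := Finset.prod_eq_zero (i := c) (by simp [hca, hcb]) (by
      rw [Matrix.one_apply_ne]
      intro h'
      exact hc (by simp [Equiv.swap_apply_of_ne_of_ne hca hcb, h']))
    rw [h0, zero_mul]

end Phi

section Main

variable [Algebra.IsCentral k A] [IsSimpleRing A] [FiniteDimensional k A]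

theorem exists_splitting_closure (n : ℕ) (hn : finrank k A = n ^ 2) :
    Nonempty ((AlgebraicClosure k ⊗[k] A) ≃ₐ[AlgebraicClosure k]
      Matrix (Fin n) (Fin n) (AlgebraicClosure k)) := by
  obtain ⟨m, -, ⟨e⟩⟩ := IsSimpleRing.exists_algEquiv_matrix_of_isAlgClosed (AlgebraicClosure k)
    (AlgebraicClosure k ⊗[k] A)
  have : n = m := Nat.pow_left_injective two_ne_zero (by
    show n ^ 2 = m ^ 2
    rw [← hn, ← Module.finrank_baseChange (R := AlgebraicClosure k), e.toLinearEquiv.finrank_eq,
      finrank_matrix]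
    simp [sq])
  subst this
  exact ⟨e⟩

theorem exists_goldman {K : Type u} [Field K] [Algebra k K] {n : ℕ} [NeZero n]
    (φ : (K ⊗[k] A) ≃ₐ[K] Matrix (Fin n) (Fin n) K) :
    ∃ g : A ⊗[k] A, ∀ p q p' q',
      (TensorProduct.lift ((LinearMap.mul k K).compl₁₂
        (entryLin (k := k) ((φ.toAlgHom.restrictScalars k).comp Algebra.TensorProduct.includeRight) p q)
        (entryLin ((φ.toAlgHom.restrictScalars k).comp Algebra.TensorProduct.includeRight) p' q')))
        g = if p = q' ∧ q = p' then 1 else 0 := by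
  classical
  set ψ := (φ.toAlgHom.restrictScalars k).comp
    (Algebra.TensorProduct.includeRight : A →ₐ[k] K ⊗[k] A) with hψ
  let τ : A →ₗ[k] K := (Matrix.traceLinearMap (Fin n) k K).comp ψ.toLinearMap
  have hτ : ∀ a, ∃ c, algebraMap k K c = τ a := fun a => by
    obtain ⟨p, hp⟩ := exists_redCharpoly k A n K φ a
    refine ⟨-p.coeff (n - 1), ?_⟩
    show _ = Matrix.trace (ψ a)
    rw [Matrix.trace_eq_neg_charpoly_coeff, Fintype.card_fin, map_neg, ← Polynomial.coeff_map, hp]
    rfl
  obtain ⟨π, hπ⟩ := LinearMap.exists_leftInverse_of_injective (Algebra.linearMap k K)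
    (LinearMap.ker_eq_bot.2 (algebraMap k K).injective)
  have hT : ∀ a, algebraMap k K (π (τ a)) = τ a := fun a => by
    obtain ⟨c, hc⟩ := hτ a
    rw [← hc]
    exact congrArg _ (LinearMap.congr_fun hπ c)
  have := isAzumaya_of_isCentral k A
  obtain ⟨t, ht⟩ := exists_mulLeftRight_eq k A (π.comp τ)
  refine ⟨TensorProduct.map LinearMap.id (MulOpposite.opLinearEquiv k).symm.toLinearMap t,
    fun p q p' q' => ?_⟩
  let Ψ : Matrix (Fin n) (Fin n) K → (A ⊗[k] Aᵐᵒᵖ →ₗ[k] Matrix (Fin n) (Fin n) K) := fun X =>
    TensorProduct.lift ((LinearMap.mul k _).compl₁₂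
      ((LinearMap.mulRight k X).comp ψ.toLinearMap)
      (ψ.toLinearMap.comp (MulOpposite.opLinearEquiv k).symm.toLinearMap))
  have hΨ : ∀ X x y, Ψ X (x ⊗ₜ y) = ψ x * X * ψ y.unop := fun X x y => rfl
  have hsmul : ∀ (c : K) X z, Ψ (c • X) z = c • Ψ X z := fun c X z => by
    induction z using TensorProduct.induction_on with
    | zero => simp
    | tmul x y => rw [hΨ, hΨ, Matrix.mul_smul, Matrix.smul_mul]
    | add a b ha hb => rw [map_add, map_add, ha, hb, smul_add]
  have hadd : ∀ X Y z, Ψ (X + Y) z = Ψ X z + Ψ Y z := fun X Y z => by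
    induction z using TensorProduct.induction_on with
    | zero => simp
    | tmul x y => rw [hΨ, hΨ, hΨ, mul_add, add_mul]
    | add a b ha hb => rw [map_add, map_add, map_add, ha, hb]; abel
  have hA : ∀ a z, Ψ (ψ a) z = ψ (AlgHom.mulLeftRight k A z a) := fun a z => by
    induction z using TensorProduct.induction_on with
    | zero => simp
    | tmul x y =>
      rw [hΨ, AlgHom.mulLeftRight_apply, map_mul, map_mul]
    | add a' b' ha hb => rw [map_add, map_add, LinearMap.add_apply, map_add, ha, hb]
  have hX : ∀ X, Ψ X t = Matrix.trace X • (1 : Matrix (Fin n) (Fin n) K) := fun X => by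
    obtain ⟨z, rfl⟩ := φ.surjective X
    induction z using TensorProduct.induction_on with
    | zero =>
      rw [map_zero, ← zero_smul K (0 : Matrix (Fin n) (Fin n) K), hsmul]
      simp
    | tmul c a =>
      have : φ (c ⊗ₜ a) = c • ψ a := by
        rw [← mul_one c, ← smul_eq_mul, ← smul_tmul', map_smul, smul_eq_mul, mul_one]
        rfl
      rw [this, hsmul, hA, ht, map_smul, map_one, Matrix.trace_smul, smul_eq_mul, ← smul_smul]
      congr 1
      show (π (τ a)) • (1 : Matrix (Fin n) (Fin n) K) = _
      rw [← algebraMap_smul K (π (τ a)), hT]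
      rfl
    | add a b ha hb => rw [map_add, hadd, ha, hb, Matrix.trace_add, add_smul]
  have hlin : ((Matrix.entryLinearMap k K p q').comp (Ψ (Matrix.single q p' (1 : K)))) =
      (TensorProduct.lift ((LinearMap.mul k K).compl₁₂ (entryLin ψ p q) (entryLin ψ p' q'))).comp
        (TensorProduct.map LinearMap.id (MulOpposite.opLinearEquiv k).symm.toLinearMap) := by
    refine TensorProduct.ext' fun x y => ?_
    show Ψ (Matrix.single q p' (1 : K)) (x ⊗ₜ y) p q' = ψ x p q * ψ y.unop p' q'
    rw [hΨ]
    simp [Matrix.mul_apply, Matrix.single_apply, mul_ite, ite_and, Finset.sum_ite_eq']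
  refine (LinearMap.congr_fun hlin t).symm.trans ?_
  show Ψ (Matrix.single q p' (1 : K)) t p q' = _
  rw [hX, Matrix.smul_apply, Matrix.one_apply]
  by_cases h : p = q' <;> by_cases h' : q = p' <;>
    simp [h, h', Matrix.trace_single_eq_of_ne, Matrix.trace_single_eq_same]

/-- the index of the `r`-th power divides `choose n r` -/
theorem ind_pow_dvd_choose (n : ℕ) (hn : finrank k A = n ^ 2) (r : ℕ) :
    ind k (cl k A ^ r) ∣ n.choose r := by
  classical
  have hn0 : NeZero n := ⟨fun h => by subst h; exact Module.finrank_pos.ne' hn⟩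
  let K := AlgebraicClosure k
  obtain ⟨φ⟩ := exists_splitting_closure k A n hn
  set ψ := (φ.toAlgHom.restrictScalars k).comp
    (Algebra.TensorProduct.includeRight : A →ₐ[k] K ⊗[k] A) with hψ
  obtain ⟨g, hg⟩ := exists_goldman k A φ
  let R := CSAGal.tpow k A r
  let Φ := kronHom ψ r
  have hperm : ∀ σ : Equiv.Perm (Fin r), ∃ z : R, Φ z = permMat K r n σ := fun σ => by
    induction σ using Equiv.Perm.swap_induction_on with
    | one => exact ⟨1, by rw [map_one, permMat_one]⟩
    | swap_mul f x y hxy ih =>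
      obtain ⟨z, hz⟩ := ih
      exact ⟨pairHom r x y hxy g * z, by
        rw [map_mul, hz, kronHom_pairHom_swap ψ r hg x y hxy, permMat_mul]⟩
  choose z hz using hperm
  let ε : R := ∑ σ, ((Equiv.Perm.sign σ : ℤ) : k) • z σ
  have hε : Φ ε = altMat K r n := by
    simp only [ε, map_sum, map_smul, hz, altMat]
    exact Finset.sum_congr rfl fun σ _ => by rw [← algebraMap_smul K, map_intCast]
  have hR : finrank k R = (n ^ r) ^ 2 := by
    rw [finrank_eq_card_basis (Basis.piTensorProduct fun _ : Fin r => Module.finBasis k A),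
      Fintype.card_pi, Finset.prod_const, Finset.card_univ, Fintype.card_fin, Fintype.card_fin, hn,
      ← pow_mul, ← pow_mul, mul_comm]
  let ΦK : K ⊗[k] R →ₐ[K] Matrix (Fin r → Fin n) (Fin r → Fin n) K :=
    Algebra.TensorProduct.lift (Algebra.ofId K _) Φ fun c x => Algebra.commutes c _
  have hinj : Function.Injective ΦK := RingHom.injective ΦK.toRingHom
  have hdim : finrank K (K ⊗[k] R) = finrank K (Matrix (Fin r → Fin n) (Fin r → Fin n) K) := by
    rw [Module.finrank_baseChange, hR, finrank_matrix, Fintype.card_fun, Fintype.card_fin,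
      Fintype.card_fin, Module.finrank_self, mul_one, sq]
  let Θ : K ⊗[k] R ≃ₗ[K] Matrix (Fin r → Fin n) (Fin r → Fin n) K :=
    LinearEquiv.ofBijective ΦK.toLinearMap ⟨hinj,
      (LinearMap.injective_iff_surjective_of_finrank_eq_finrank hdim (f := ΦK.toLinearMap)).1 hinj⟩
  let f : R →ₗ[k] R := LinearMap.mulRight k ε
  have hker : finrank k (LinearMap.ker f) + n ^ r * n.choose r = n ^ r * n ^ r := by
    rw [← finrank_ker_mulRight_altMat K r n]
    congr 1
    rw [← finrank_ker_baseChange k K f]
    refine LinearEquiv.finrank_eq (Θ.ofSubmodules _ _ ?_)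
    have hc : ∀ x, Θ (f.baseChange K x) = Θ x * altMat K r n := fun x => by
      induction x using TensorProduct.induction_on with
      | zero => simp
      | tmul c a =>
        show ΦK (c ⊗ₜ (a * ε)) = ΦK (c ⊗ₜ a) * altMat K r n
        simp [ΦK, hε, mul_assoc]
      | add x y hx hy => rw [map_add, map_add, hx, hy, map_add, add_mul]
    ext Y
    simp only [Submodule.mem_map, LinearMap.mem_ker, LinearMap.mulRight_apply, LinearEquiv.coe_coe]
    refine ⟨fun ⟨x, hx, h⟩ => ?_, fun hY => ⟨Θ.symm Y, ?_, Θ.apply_symm_apply Y⟩⟩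
    · rw [← h, ← hc, hx, map_zero]
    · exact Θ.injective (by rw [hc, Θ.apply_symm_apply, hY, map_zero])
  obtain ⟨m, D, _, _, _, _, hm, -, hD, hA, ⟨e⟩⟩ := exists_matrix_division k R
  rw [cl_tpow] at hD hA
  set d := ind k (cl k A ^ r)
  have hmd : n ^ r = m * d := Nat.pow_left_injective two_ne_zero (hR.symm.trans hA)
  let ρ : R →ₐ[k] Module.End k (LinearMap.ker f) :=
    { toFun := fun x => (LinearMap.mulLeft k x).restrict (p := LinearMap.ker f) (fun y hy => by
        show x * y * ε = 0
        rw [mul_assoc, show y * ε = 0 from hy, mul_zero])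
      map_one' := by ext y; simp
      map_mul' := fun a b => by ext y; simp [mul_assoc]
      map_zero' := by ext y; simp
      map_add' := fun a b => by ext y; simp [add_mul]
      commutes' := fun c => by ext y; simp [Algebra.smul_def] }
  obtain ⟨c, hc⟩ := dvd_finrank_module k m (LinearMap.ker f) (ρ.comp e.symm.toAlgHom)
  have h3 : n ^ r * d ∣ n ^ r * n.choose r := by
    have hk : n ^ r * n.choose r = n ^ r * n ^ r - finrank k (LinearMap.ker f) := by omega
    rw [hk, hc, hD]
    refine Nat.dvd_sub ?_ ⟨c, ?_⟩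
    · exact mul_dvd_mul_left _ ⟨m, hmd.trans (mul_comm _ _)⟩
    · rw [hmd]; ring
  exact Nat.dvd_of_mul_dvd_mul_left (pow_pos (Nat.pos_of_ne_zero hn0.1) r) h3

end Main

end Groth.Agent.CSA
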