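import Groth.Agent.CSA.SplitLocal

/-!
# Lifting isomorphisms of Azumaya algebras over henselian local rings
-/

set_option autoImplicit false
set_option backward.isDefEq.respectTransparency false

open TensorProduct IsLocalRing

namespace Groth.Agent.CSA

universe u v

section

variable {R : Type u} [CommRing R] [IsLocalRing R]

theorem one_tmul_eq_iff {M : Type*} [AddCommGroup M] [Module R M] (x y : M) :
    (1 : ResidueField R) ⊗ₜ[R] x = 1 ⊗ₜ[R] y ↔ x - y ∈ maximalIdeal R • (⊤ : Submodule R M) := by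
  rw [← sub_eq_zero, ← TensorProduct.tmul_sub]
  refine (TensorProduct.quotTensorEquivQuotSMul M (maximalIdeal R)).map_eq_zero_iff.symm.trans ?_
  show (TensorProduct.quotTensorEquivQuotSMul M (maximalIdeal R))
    (Ideal.Quotient.mk (maximalIdeal R) 1 ⊗ₜ (x - y)) = 0 ↔ _
  rw [TensorProduct.quotTensorEquivQuotSMul_mk_tmul, one_smul, Submodule.Quotient.mk_eq_zero]

/-- a linear map between free modules of the same rank, surjective on the closed fibre -/
theorem bijective_of_residue {M N : Type*} [AddCommGroup M] [Module R M] [Module.Free R M]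
    [Module.Finite R M] [AddCommGroup N] [Module R N] [Module.Free R N] [Module.Finite R N]
    (f : M →ₗ[R] N) (hr : Module.finrank R M = Module.finrank R N)
    (hs : ∀ y, ∃ x, (1 : ResidueField R) ⊗ₜ[R] f x = 1 ⊗ₜ y) : Function.Bijective f := by
  have hsurj : Function.Surjective f := by
    rw [← LinearMap.range_eq_top, eq_top_iff]
    refine Submodule.le_of_le_smul_of_le_jacobson_bot Module.Finite.fg_top (maximalIdeal_le_jacobson _) ?_
    intro y _
    obtain ⟨x, hx⟩ := hs y
    exact Submodule.mem_sup.2 ⟨_, LinearMap.mem_range_self f x, y - f x,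
      (one_tmul_eq_iff _ _).1 hx.symm, by abel⟩
  have E := LinearEquiv.ofFinrankEq N M hr.symm
  exact ⟨fun x y h => OrzechProperty.injective_of_surjective_endomorphism (E.toLinearMap ∘ₗ f)
    (E.surjective.comp hsurj) (congrArg E h), hsurj⟩

end

theorem exists_algEquiv_lift (R : Type u) [CommRing R] [HenselianLocalRing R] (A : Type u) [Ring A]
    [Algebra R A] [IsAzumaya R A] (B : Type u) [Ring B] [Algebra R B] [IsAzumaya R B]
    (e₀ : (ResidueField R ⊗[R] A) ≃ₐ[ResidueField R] (ResidueField R ⊗[R] B)) :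
    ∃ e : A ≃ₐ[R] B, ∀ a : A,
      e₀ ((1 : ResidueField R) ⊗ₜ[R] a) = (1 : ResidueField R) ⊗ₜ[R] (e a) := by
  classical
  let k := ResidueField R
  let Bk := k ⊗[R] B
  let C := A ⊗[R] Bᵐᵒᵖ
  have : Module.Free R A := Module.free_of_flat_of_isLocalRing
  have : Module.Free R B := Module.free_of_flat_of_isLocalRing
  have : Module.Projective R Bᵐᵒᵖ := Module.Projective.of_equiv (MulOpposite.opLinearEquiv R)
  have : Module.Finite R Bᵐᵒᵖ := Module.Finite.equiv (MulOpposite.opLinearEquiv R)
  have : Module.Free R Bᵐᵒᵖ := Module.Free.of_equiv (MulOpposite.opLinearEquiv R)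
  have := isAzumaya_baseChange k B (R := R)
  have hsurjk := TensorProduct.mk_surjective R B k residue_surjective
  let f₁ : A →ₐ[R] Module.End k Bk :=
    (((Algebra.lmul k Bk).comp e₀.toAlgHom).restrictScalars R).comp Algebra.TensorProduct.includeRight
  let f₂ : Bᵐᵒᵖ →ₐ[R] Module.End k Bk :=
    (Algebra.lsmul R k Bk : Bkᵐᵒᵖ →ₐ[R] Module.End k Bk).comp
      (AlgHom.op (Algebra.TensorProduct.includeRight : B →ₐ[R] Bk))
  have hf₂ : ∀ b z, f₂ b z = z * (1 ⊗ₜ b.unop) := fun b z => rfl
  have hf₁ : ∀ a z, f₁ a z = e₀ (1 ⊗ₜ a) * z := fun a z => rfl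
  let π : C →ₐ[R] Module.End k Bk := Algebra.TensorProduct.lift f₁ f₂ fun a b =>
    LinearMap.ext fun z => by
      simp only [Module.End.mul_apply, hf₁, hf₂, mul_assoc]
  have hπ : ∀ a b z, π (a ⊗ₜ b) z = e₀ (1 ⊗ₜ a) * z * (1 ⊗ₜ b.unop) := fun a b z =>
    (LinearMap.congr_fun (Algebra.TensorProduct.lift_tmul f₁ f₂ _ a b) z).trans (mul_assoc _ _ _).symm
  have πsurj : Function.Surjective π := fun M => by
    obtain ⟨z, rfl⟩ := (IsAzumaya.bij (R := k) (A := Bk)).2 M
    induction z using TensorProduct.induction_on with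
    | zero => exact ⟨0, by simp⟩
    | tmul u v =>
      obtain ⟨a, ha⟩ := TensorProduct.mk_surjective R A k residue_surjective (e₀.symm u)
      obtain ⟨b, hb⟩ := hsurjk v.unop
      refine ⟨a ⊗ₜ MulOpposite.op b, LinearMap.ext fun w => ?_⟩
      rw [hπ, AlgHom.mulLeftRight_apply, show (1 : k) ⊗ₜ[R] a = e₀.symm u from ha,
        e₀.apply_symm_apply, show (1 : k) ⊗ₜ[R] (MulOpposite.op b).unop = v.unop from hb]
    | add x y hx hy =>
      obtain ⟨a, ha⟩ := hx; obtain ⟨b, hb⟩ := hy
      exact ⟨a + b, by rw [map_add, map_add, ha, hb]⟩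
  have hrA : Module.finrank R A = Module.finrank R B := by
    rw [← Module.finrank_baseChange (R := k), e₀.toLinearEquiv.finrank_eq, Module.finrank_baseChange]
  have πzero : ∀ c, π c = 0 → c ∈ maximalIdeal R • (⊤ : Submodule R C) := fun c hc => by
    let g : k ⊗[R] C →ₗ[k] Module.End k Bk := π.toLinearMap.liftBaseChange k
    have hg : ∀ c, g (1 ⊗ₜ c) = π c := fun c => by simp [g]
    have hi : Function.Injective g := by
      refine (LinearMap.injective_iff_surjective_of_finrank_eq_finrank ?_).2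
        fun M => ?_
      · rw [Module.finrank_baseChange, Module.finrank_tensorProduct, Module.finrank_linearMap,
          Module.finrank_baseChange, ← (MulOpposite.opLinearEquiv R : B ≃ₗ[R] _).finrank_eq, hrA]
      · obtain ⟨c, rfl⟩ := πsurj M; exact ⟨_, hg c⟩
    have := (one_tmul_eq_iff (R := R) c 0).1 (hi (by rw [hg, hc, TensorProduct.tmul_zero, map_zero]))
    rwa [sub_zero] at this
  -- a rank one idempotent
  have : Nontrivial Bk := (FaithfulSMul.algebraMap_injective k Bk).nontrivial
  obtain ⟨τ, hτ⟩ := LinearMap.exists_leftInverse_of_injective (LinearMap.toSpanSingleton k Bk 1)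
    (LinearMap.ker_toSpanSingleton (R := k) (M := Bk) (x := 1) one_ne_zero)
  have hτ1 : τ 1 = 1 := by simpa using LinearMap.congr_fun hτ 1
  let p : Module.End k Bk := τ.smulRight 1
  have hp : p * p = p := LinearMap.ext fun z => by
    simp [p, Module.End.mul_apply, hτ1]
  obtain ⟨c₀, hc₀⟩ := πsurj p
  obtain ⟨ε, hε, hεc⟩ := exists_idem_lift_fibre C c₀ (πzero _ (by rw [map_sub, map_mul, hc₀, hp, sub_self]))
  have πker : ∀ c ∈ maximalIdeal R • (⊤ : Submodule R C), π c = 0 := fun c hc => by
    refine Submodule.smul_induction_on hc (fun r hr z _ => ?_) (fun x y hx hy => by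
      rw [map_add, hx, hy, add_zero])
    rw [map_smul, ← algebraMap_smul k r (π z), show algebraMap R k r = 0 from
      (residue_eq_zero_iff r).2 hr, zero_smul]
  have hπε : π ε = p := by rw [← hc₀, ← sub_eq_zero, ← map_sub]; exact πker _ hεc
  let β : B →ₗ[R] C := LinearMap.mulRight R ε ∘ₗ
    (Algebra.TensorProduct.includeRight : Bᵐᵒᵖ →ₐ[R] C).toLinearMap ∘ₗ
      (MulOpposite.opLinearEquiv R).toLinearMap
  have hβ : ∀ y, β y = ((1 : A) ⊗ₜ MulOpposite.op y) * ε := fun y => rfl
  have hψβ : ∀ y, π (β y) 1 = (1 : k) ⊗ₜ[R] y := fun y => by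
    rw [hβ, map_mul, Module.End.mul_apply, hπε, hπ]
    simp [p, hτ1, ← Algebra.TensorProduct.one_def]
  have hβinj : Function.Injective β := by
    let ψ : C →ₗ[R] Bk := ((LinearMap.applyₗ (R := k) (1 : Bk)).restrictScalars R) ∘ₗ π.toLinearMap
    have hcomp : (ψ.liftBaseChange k).restrictScalars R ∘ₗ β.lTensor k = LinearMap.id :=
      TensorProduct.ext' fun c y => by
        simp only [LinearMap.comp_apply, LinearMap.lTensor_tmul, LinearMap.restrictScalars_apply,
          LinearMap.liftBaseChange_tmul]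
        change c • π (β y) 1 = _
        rw [hψβ, TensorProduct.smul_tmul', smul_eq_mul, mul_one]
        rfl
    obtain ⟨s, hs⟩ := (IsLocalRing.split_injective_iff_lTensor_residueField_injective β).2
      (Function.LeftInverse.injective (g := (ψ.liftBaseChange k).restrictScalars R)
        fun x => LinearMap.congr_fun hcomp x)
    exact Function.LeftInverse.injective (g := s) fun x => LinearMap.congr_fun hs x
  have hrange : ∀ c, c * ε ∈ LinearMap.range β := by
    suffices LinearMap.range (LinearMap.mulRight R ε) ≤ LinearMap.range β from fun c => this ⟨c, rfl⟩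
    refine Submodule.le_of_le_smul_of_le_jacobson_bot (Module.Finite.iff_fg.1 inferInstance)
      (maximalIdeal_le_jacobson _) ?_
    rintro _ ⟨c, rfl⟩
    obtain ⟨y, hy⟩ := hsurjk (π c 1)
    have h1 : π (c * ε) = π (β y) := LinearMap.ext fun z => by
      rw [map_mul, Module.End.mul_apply, hπε, hβ, map_mul, Module.End.mul_apply, hπε, hπ]
      simp only [p, LinearMap.smulRight_apply, map_smul, MulOpposite.unop_op]
      simp [show (1 : k) ⊗ₜ[R] y = π c 1 from hy, ← Algebra.TensorProduct.one_def]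
    have h2 := πzero (c * ε - β y) (by rw [map_sub, h1, sub_self])
    have h3 : LinearMap.mulRight R ε (c * ε - β y) ∈
        maximalIdeal R • LinearMap.range (LinearMap.mulRight R ε) := by
      rw [← Submodule.map_top, ← Submodule.map_smul'']
      exact Submodule.mem_map_of_mem h2
    have h4 : LinearMap.mulRight R ε (c * ε - β y) = c * ε - β y := by
      simp only [LinearMap.mulRight_apply, hβ, sub_mul, mul_assoc, hε]
    rw [h4] at h3
    exact Submodule.mem_sup.2 ⟨β y, ⟨y, rfl⟩, _, h3, by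
      change β y + (c * ε - β y) = c * ε; abel⟩
  choose e he using fun a : A => hrange (a ⊗ₜ (1 : Bᵐᵒᵖ))
  let eL : A →ₗ[R] B :=
    { toFun := e
      map_add' := fun a a' => hβinj (by rw [map_add, he, he, he, TensorProduct.add_tmul, add_mul])
      map_smul' := fun r a => hβinj (by
        rw [RingHom.id_apply, map_smul, he, he, ← TensorProduct.smul_tmul', smul_mul_assoc]) }
  have hcong : ∀ a, e₀ ((1 : k) ⊗ₜ[R] a) = (1 : k) ⊗ₜ[R] e a := fun a => by
    rw [← hψβ (e a), he, map_mul, Module.End.mul_apply, hπε, hπ]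
    simp [p, hτ1, ← Algebra.TensorProduct.one_def]
  have hbij : Function.Bijective eL := bijective_of_residue eL hrA fun y => by
    obtain ⟨a, ha⟩ := TensorProduct.mk_surjective R A k residue_surjective (e₀.symm (1 ⊗ₜ y))
    refine ⟨a, (hcong a).symm.trans ?_⟩
    rw [show (1 : k) ⊗ₜ[R] a = e₀.symm (1 ⊗ₜ y) from ha, e₀.apply_symm_apply]
  have h1 : eL 1 = 1 := hβinj (by
    show β (e 1) = β 1
    rw [he, hβ, MulOpposite.op_one])
  have hmul : ∀ a a', eL (a * a') = eL a * eL a' := fun a a' => hβinj (by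
    show β (e (a * a')) = β (e a * e a')
    calc β (e (a * a')) = ((a * a') ⊗ₜ (1 : Bᵐᵒᵖ)) * ε := he _
      _ = (a ⊗ₜ (1 : Bᵐᵒᵖ)) * ((a' ⊗ₜ (1 : Bᵐᵒᵖ)) * ε) := by
        rw [← mul_assoc, Algebra.TensorProduct.tmul_mul_tmul, mul_one]
      _ = ((1 : A) ⊗ₜ MulOpposite.op (e a')) * ((a ⊗ₜ (1 : Bᵐᵒᵖ)) * ε) := by
        rw [← he a', hβ, ← mul_assoc, ← mul_assoc, Algebra.TensorProduct.tmul_mul_tmul,
          Algebra.TensorProduct.tmul_mul_tmul, mul_one, one_mul, one_mul, mul_one]
      _ = ((1 : A) ⊗ₜ MulOpposite.op (e a * e a')) * ε := by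
        rw [← he a, hβ, ← mul_assoc, Algebra.TensorProduct.tmul_mul_tmul, one_mul, MulOpposite.op_mul]
      _ = β (e a * e a') := (hβ _).symm)
  refine ⟨AlgEquiv.ofLinearEquiv (LinearEquiv.ofBijective eL hbij) h1 hmul, fun a => ?_⟩
  exact hcong a

end Groth.Agent.CSA
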