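import Groth.Agent.CSA.GlobalSplit
import Groth.Agent.CSA.Azumaya
import Groth.Agent.Hensel.Henselization
import Groth.Agent.Hensel.EtaleLift
import Groth.Agent.Hensel.Pairs
import Groth.Agent.Hensel.Local
import Mathlib.FieldTheory.SeparableClosure
import Mathlib.FieldTheory.IsSepClosed
import Mathlib.FieldTheory.PurelyInseparable.Basic
import Mathlib.RingTheory.Smooth.NoetherianDescent
import Mathlib.RingTheory.TensorProduct.Pi

/-! # Azumaya algebras over an integral extension are split étale locally on the base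

`exists_etale_base_split`: for an integral `S`-algebra `R` and an Azumaya `R`-algebra `A` of constant
rank `n²` there is an étale faithfully flat `S`-algebra `S'` with `A → Mₙ(R ⊗ S')`.
-/

set_option autoImplicit false
set_option linter.style.haveILetI false

open TensorProduct Polynomial IsLocalRing

universe u

namespace Groth.Agent.CSA

open Groth.Agent.Hensel

/-- the residue field of the strict henselization at `p` is separably closed -/
theorem hens_π_surjective {S : Type u} [CommRing S] (p : Ideal S) [p.IsPrime] (K : Type u) [Field K]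
    [Algebra S K] [Algebra p.ResidueField K] [IsScalarTower S p.ResidueField K]
    [Algebra.IsSeparable p.ResidueField K] : Function.Surjective (Hens.π S K) := by
  classical
  intro a
  set k := p.ResidueField
  have hsep : (minpoly k a).Separable := Algebra.IsSeparable.isSeparable _ a
  have hmon : (minpoly k a).Monic := minpoly.monic (Algebra.IsSeparable.isIntegral _ a)
  set P := minpoly k a
  set c := IsLocalization.commonDenom (nonZeroDivisors (S ⧸ p)) P.support P.coeff with hcdef
  set ck : k := algebraMap (S ⧸ p) k c with hck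
  have hc0 : ck ≠ 0 := IsFractionRing.to_map_ne_zero_of_mem_nonZeroDivisors c.2
  have hlift := IsLocalization.scaleRoots_commonDenom_mem_lifts (nonZeroDivisors (S ⧸ p)) P
    ⟨1, by rw [map_one, hmon.leadingCoeff]⟩
  obtain ⟨q₀, hq₀, -, hq₀m⟩ := lifts_and_degree_eq_and_monic hlift
    ((monic_scaleRoots_iff _).2 hmon)
  obtain ⟨q, hq, -, hqm⟩ := lifts_and_degree_eq_and_monic
    ((lifts_iff_coeff_lifts q₀).2 fun i => Ideal.Quotient.mk_surjective _) hq₀m
  obtain ⟨s, hs⟩ := Ideal.Quotient.mk_surjective (I := p) (c : S ⧸ p)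
  have hsk : algebraMap S k s = ck := by
    rw [IsScalarTower.algebraMap_apply S (S ⧸ p) k, Ideal.Quotient.algebraMap_eq, hs]
  have hqk : q.map (algebraMap S k) = P.scaleRoots ck := by
    rw [IsScalarTower.algebraMap_eq S (S ⧸ p) k, ← Polynomial.map_map, Ideal.Quotient.algebraMap_eq,
      hq, hq₀]
  have haev : ∀ g : S[X], aeval (algebraMap k K ck * a) g =
      aeval (algebraMap k K ck * a) (g.map (algebraMap S k)) := fun g =>
    (aeval_map_algebraMap k _ g).symm
  have hroot : aeval (algebraMap k K ck * a) (P.scaleRoots ck) = 0 :=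
    scaleRoots_aeval_eq_zero (minpoly.aeval _ _)
  have hsep' : (P.scaleRoots ck).Separable := by
    have := isCoprime_scaleRoots P (Units.mk0 ck hc0) hsep
    simpa [Polynomial.Separable] using this
  let E : StandardEtalePair S := ⟨q, hqm, derivative q, ⟨1, 0, 1, by simp⟩⟩
  have hE : E.HasMap (algebraMap k K ck * a) := by
    refine ⟨?_, ?_⟩
    · show aeval (algebraMap k K ck * a) q = 0
      rw [haev, hqk, hroot]
    · show IsUnit (aeval (algebraMap k K ck * a) (derivative q))
      rw [haev, ← derivative_map, hqk, isUnit_iff_ne_zero]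
      exact hsep'.aeval_derivative_ne_zero hroot
  obtain ⟨φ, hφ⟩ := Hens.exists_algHom E.Ring (E.lift _ hE)
  have hz : Hens.π S K (φ E.X) = algebraMap k K ck * a := by
    have := DFunLike.congr_fun hφ E.X
    simpa using this
  have hsK : algebraMap S K s = algebraMap k K ck := by
    rw [IsScalarTower.algebraMap_apply S k K, hsk]
  have hu : IsUnit (algebraMap S (Hens S K) s) := by
    refine Hens.isUnit_of_isUnit_π ?_
    rw [AlgHom.commutes, hsK]
    exact (Ne.isUnit hc0).map _
  obtain ⟨w, hw⟩ := hu
  refine ⟨↑w⁻¹ * φ E.X, ?_⟩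
  have h1 : Hens.π S K ↑w⁻¹ * algebraMap k K ck = 1 := by
    rw [← hsK, ← (Hens.π S K).commutes s, ← map_mul, ← hw, Units.inv_mul, map_one]
  rw [map_mul, hz, ← mul_assoc, h1, one_mul]

theorem isSepClosed_residueField_hens {S : Type u} [CommRing S] (p : Ideal S) [p.IsPrime]
    (K : Type u) [Field K] [IsSepClosed K]
    [Algebra S K] [Algebra p.ResidueField K] [IsScalarTower S p.ResidueField K]
    [Algebra.IsSeparable p.ResidueField K] :
    IsSepClosed (ResidueField (Hens S K)) :=
  isSepClosed_of_ringEquiv (RingEquiv.ofBijective (Hensel.residueFieldHom (R := S) (K := K))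
    ⟨RingHom.injective _, fun y => by
      obtain ⟨z, hz⟩ := hens_π_surjective p K y
      exact ⟨residue _ z, by rw [Hensel.residueFieldHom_residue, hz]⟩⟩).symm

/-- over an algebra integral over a strictly henselian ring, etale covers have sections -/
theorem exists_section_of_etale (T : Type u) [CommRing T] [HenselianLocalRing T]
    [IsSepClosed (ResidueField T)] (B : Type u) [CommRing B] [Algebra T B] [Algebra.IsIntegral T B]
    (C : Type u) [CommRing C] [Algebra B C] [Algebra.Etale B C] [Module.FaithfullyFlat B C] :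
    Nonempty (C →ₐ[B] B) := by
  classical
  obtain ⟨B₀, C₀, i1, i2, hfg, het, ⟨e⟩⟩ := Algebra.Etale.exists_subalgebra_fg T B C
  letI := i2
  haveI := het
  haveI : Algebra.FiniteType T B₀ := (Subalgebra.fg_iff_finiteType B₀).1 hfg
  haveI : Algebra.IsIntegral T B₀ := Algebra.IsIntegral.of_injective B₀.val Subtype.val_injective
  haveI : Module.Finite T B₀ := Algebra.IsIntegral.finite
  haveI : Algebra.IsIntegral B₀ B := ⟨fun b => (Algebra.IsIntegral.isIntegral (R := T) b).tower_top⟩
  set I := (maximalIdeal T).map (algebraMap T B₀) with hI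
  haveI hH : HenselianRing B₀ I := henselianRing_of_isIntegral (I := maximalIdeal T) B₀
  have hHrad : HenselianRing B₀ I.radical := henselianRing_radical_iff.2 hH
  set Q := B₀ ⧸ I.radical
  let f : ResidueField T →+* Q := Ideal.Quotient.lift _ (algebraMap T Q) fun x hx => by
    rw [IsScalarTower.algebraMap_apply T B₀ Q, Ideal.Quotient.algebraMap_eq,
      Ideal.Quotient.eq_zero_iff_mem]
    exact Ideal.le_radical (Ideal.mem_map_of_mem _ hx)
  letI := f.toAlgebra
  haveI : IsScalarTower T (ResidueField T) Q := IsScalarTower.of_algebraMap_eq fun x => rfl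
  haveI : Module.Finite T Q := Module.Finite.of_surjective (Ideal.Quotient.mkₐ T I.radical).toLinearMap
    Ideal.Quotient.mk_surjective
  haveI : Module.Finite (ResidueField T) Q := Module.Finite.of_restrictScalars_finite T _ _
  haveI : IsArtinianRing Q := IsArtinianRing.of_finite (ResidueField T) Q
  haveI : IsReduced Q :=
    (Ideal.isRadical_iff_quotient_reduced _).1 (Ideal.radical_isRadical I)
  have key : ∀ q : MaximalSpectrum Q, ∃ σ : C₀ →ₐ[B₀] Q ⧸ q.asIdeal, True := by
    intro q
    haveI := q.isMaximal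
    let M := q.asIdeal.comap (Ideal.Quotient.mk I.radical)
    haveI hM : M.IsMaximal := Ideal.comap_isMaximal_of_surjective _ Ideal.Quotient.mk_surjective
    letI : Field (B₀ ⧸ M) := Ideal.Quotient.field M
    have hmM : maximalIdeal T ≤ M.comap (algebraMap T B₀) := fun x hx => by
      refine Ideal.mem_comap.2 (Ideal.mem_comap.2 ?_)
      rw [Ideal.Quotient.eq_zero_iff_mem.2 (Ideal.le_radical (Ideal.mem_map_of_mem _ hx))]
      exact zero_mem _
    letI : Algebra (ResidueField T) (B₀ ⧸ M) := (Ideal.Quotient.lift _ (algebraMap T (B₀ ⧸ M))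
      fun x hx => Ideal.Quotient.eq_zero_iff_mem.2 (hmM hx)).toAlgebra
    haveI : IsScalarTower T (ResidueField T) (B₀ ⧸ M) := IsScalarTower.of_algebraMap_eq fun x => rfl
    haveI : Module.Finite T (B₀ ⧸ M) := Module.Finite.of_surjective
      (Ideal.Quotient.mkₐ T M).toLinearMap Ideal.Quotient.mk_surjective
    haveI : Module.Finite (ResidueField T) (B₀ ⧸ M) := Module.Finite.of_restrictScalars_finite T _ _
    haveI : IsSepClosed (B₀ ⧸ M) := Algebra.IsAlgebraic.isSepClosed (F := ResidueField T)
    -- a point of `C` over `M`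
    obtain ⟨N, -, hN, hNM⟩ := Ideal.exists_ideal_over_prime_of_isIntegral M (⊥ : Ideal B)
      (fun x hx => by
        have : (x : B) = 0 := by simpa [RingHom.mem_ker] using hx
        rw [show x = 0 from Subtype.ext this]
        exact zero_mem _)
    haveI := hN
    obtain ⟨P, hP⟩ := PrimeSpectrum.comap_surjective_of_faithfullyFlat (A := B) (B := C) ⟨N, hN⟩
    set L := P.asIdeal.ResidueField
    have hPN : P.asIdeal.comap (algebraMap B C) = N := congrArg PrimeSpectrum.asIdeal hP
    let g : B₀ →+* L := algebraMap B₀ L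
    have hg : ∀ x ∈ M, g x = 0 := fun x hx => by
      show algebraMap B₀ L x = 0
      rw [IsScalarTower.algebraMap_apply B₀ B L, IsScalarTower.algebraMap_apply B C L,
        Ideal.algebraMap_residueField_eq_zero, ← Ideal.mem_comap, hPN]
      rw [← hNM] at hx
      exact hx
    letI : Algebra (B₀ ⧸ M) L := (Ideal.Quotient.lift M g hg).toAlgebra
    haveI : IsScalarTower B₀ (B₀ ⧸ M) L := IsScalarTower.of_algebraMap_eq fun x => rfl
    let h : C₀ →ₐ[B₀] L :=
      { toRingHom := (algebraMap C L).comp (e.symm.toRingEquiv.toRingHom.comp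
          (Algebra.TensorProduct.includeRight : C₀ →ₐ[B₀] B ⊗[B₀] C₀).toRingHom)
        commutes' := fun r => by
          show algebraMap C L (e.symm ((1 : B) ⊗ₜ[B₀] algebraMap B₀ C₀ r)) = algebraMap B₀ L r
          rw [← Algebra.TensorProduct.tmul_one_eq_one_tmul,
            show (algebraMap B₀ B r) ⊗ₜ[B₀] (1 : C₀) = algebraMap B (B ⊗[B₀] C₀) (r : B) from rfl,
            AlgEquiv.commutes, ← IsScalarTower.algebraMap_apply B C L,
            IsScalarTower.algebraMap_apply B₀ B L]
          rfl }
    let s : (B₀ ⧸ M) ⊗[B₀] C₀ →ₐ[B₀ ⧸ M] L :=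
      Algebra.TensorProduct.lift (Algebra.ofId _ _) h fun x y => Commute.all _ _
    have hs : ∀ x, s x ∈ (⊥ : Subalgebra (B₀ ⧸ M) L) := fun x => by
      obtain ⟨c, hc⟩ := exists_algebraMap_eq_of_unramified s x
      exact Algebra.mem_bot.2 ⟨c, hc⟩
    let τ : (B₀ ⧸ M) ⊗[B₀] C₀ →ₐ[B₀ ⧸ M] B₀ ⧸ M :=
      (Algebra.botEquivOfInjective (R := B₀ ⧸ M) (A := L) (RingHom.injective _)).toAlgHom.comp
        (s.codRestrict ⊥ hs)
    exact ⟨(Ideal.quotientMapₐ q.asIdeal (Ideal.Quotient.mkₐ B₀ I.radical) le_rfl).comp
      ((τ.restrictScalars B₀).comp Algebra.TensorProduct.includeRight), trivial⟩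
  choose σ _ using key
  let π : Q →ₐ[B₀] ((q : MaximalSpectrum Q) → Q ⧸ q.asIdeal) :=
    AlgHom.pi fun q => Ideal.Quotient.mkₐ B₀ q.asIdeal
  have hπ : Function.Bijective π := (IsArtinianRing.equivPi Q).bijective
  obtain ⟨τ, -⟩ := exists_algHom_lift_of_etale (gabberRoot_of_henselianRing (h := hHrad)) C₀
    ((AlgEquiv.ofBijective π hπ).symm.toAlgHom.comp (AlgHom.pi σ))
  exact ⟨(Algebra.TensorProduct.lift (Algebra.ofId B B) ((Algebra.ofId B₀ B).comp τ)
    fun x y => Commute.all _ _).comp e.toAlgHom⟩

/-- Azumaya algebras over algebras integral over a strictly henselian ring are split -/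
theorem exists_algHom_matrix_of_integral (T : Type u) [CommRing T] [HenselianLocalRing T]
    [IsSepClosed (ResidueField T)] (B : Type u) [CommRing B] [Algebra T B] [Algebra.IsIntegral T B]
    (A : Type u) [Ring A] [Algebra B A] [IsAzumaya B A] (n : ℕ) (hn : n ≠ 0)
    (hrk : ∀ p : PrimeSpectrum B, Module.rankAtStalk (R := B) A p = n ^ 2) :
    Nonempty (A →ₐ[B] Matrix (Fin n) (Fin n) B) := by
  obtain ⟨C, _, _, het, hff, ⟨e⟩⟩ := exists_etale_split B A n hn hrk
  haveI := het
  haveI := hff
  obtain ⟨σ⟩ := exists_section_of_etale T B C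
  exact ⟨σ.mapMatrix.comp ((e.toAlgHom.restrictScalars B).comp Algebra.TensorProduct.includeRight)⟩

end Groth.Agent.CSA
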