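import Groth.Agent.CSA.IntegralSplit
import Mathlib.RingTheory.Flat.Basic
import Mathlib.RingTheory.TensorProduct.Pi

/-! # Splitting Azumaya algebras over integral extensions by étale covers of the base -/

set_option autoImplicit false
set_option linter.style.haveILetI false

open TensorProduct IsLocalRing CategoryTheory

universe u v w

namespace Groth.Agent.CSA

open Groth.Agent.Hensel Groth.Agent.Hensel.Hens

variable (S : Type u) [CommRing S] (R : Type v) [CommRing R] [Algebra S R]
  {K : Type u} [CommRing K] [Algebra S K]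

/-- base change of the inclusion of a stage -/
noncomputable def stageMap (X : Nbhd S K) : R ⊗[S] X.carrier →ₐ[R] R ⊗[S] Hens S K :=
  Algebra.TensorProduct.map (AlgHom.id R R) (Hens.of X)

/-- base change of a transition map -/
noncomputable def transMap {X Y : Nbhd S K} (f : X ⟶ Y) :
    R ⊗[S] X.carrier →ₐ[R] R ⊗[S] Y.carrier :=
  Algebra.TensorProduct.map (AlgHom.id R R) f.1

theorem stageMap_trans {X Y : Nbhd S K} (f : X ⟶ Y) (x : R ⊗[S] X.carrier) :
    stageMap S R Y (transMap S R f x) = stageMap S R X x := by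
  induction x using TensorProduct.induction_on with
  | zero => simp
  | tmul r e => simp [stageMap, transMap, Hens.of_hom]
  | add a b ha hb => simp [map_add, ha, hb]

theorem transMap_comp {X Y Z : Nbhd S K} (f : X ⟶ Y) (g : Y ⟶ Z) (x : R ⊗[S] X.carrier) :
    transMap S R (f ≫ g) x = transMap S R g (transMap S R f x) := by
  induction x using TensorProduct.induction_on with
  | zero => simp
  | tmul r e => simp [transMap]; rfl
  | add a b ha hb => simp [map_add, ha, hb]

theorem exists_stage_rep {ι : Type*} [Finite ι] (z : ι → R ⊗[S] Hens S K) :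
    ∃ (X : Nbhd S K) (x : ι → R ⊗[S] X.carrier), ∀ i, stageMap S R X (x i) = z i := by
  classical
  choose s hs using fun i => TensorProduct.exists_finset (z i)
  obtain ⟨X, x, hx⟩ := Hens.exists_rep_fintype (R := S) (K := K)
    (fun q : Σ i, (s i : Finset _) => q.2.1.2)
  refine ⟨X, fun i => ∑ j : (s i : Finset _), j.1.1 ⊗ₜ[S] x ⟨i, j⟩, fun i => ?_⟩
  rw [map_sum, hs i, ← Finset.sum_coe_sort (s i)]
  refine Finset.sum_congr rfl fun j _ => ?_
  simp [stageMap, hx]

theorem exists_eq_of_finite {ι : Type*} [Finite ι] {X : Nbhd S K} (a b : ι → X.carrier)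
    (h : ∀ i, Hens.of X (a i) = Hens.of X (b i)) :
    ∃ (Y : Nbhd S K) (f : X ⟶ Y), ∀ i, f.1 (a i) = f.1 (b i) := by
  classical
  cases nonempty_fintype ι
  suffices ∀ t : Finset ι, ∃ (Y : Nbhd S K) (f : X ⟶ Y), ∀ i ∈ t, f.1 (a i) = f.1 (b i) by
    obtain ⟨Y, f, hf⟩ := this Finset.univ
    exact ⟨Y, f, fun i => hf i (Finset.mem_univ i)⟩
  intro t
  induction t using Finset.induction_on with
  | empty => exact ⟨X, 𝟙 X, by simp⟩
  | @insert i t hi ih =>
    obtain ⟨Y, f, hf⟩ := ih
    obtain ⟨Z, g, hg⟩ := (Hens.of_eq_iff (f.1 (a i)) (f.1 (b i))).1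
      (by rw [Hens.of_hom, Hens.of_hom, h i])
    refine ⟨Z, f ≫ g, fun j hj => ?_⟩
    show g.1 (f.1 (a j)) = g.1 (f.1 (b j))
    rcases Finset.mem_insert.1 hj with rfl | hj
    · exact hg
    · rw [hf j hj]

theorem exists_trans_eq_zero {X : Nbhd S K} (x : R ⊗[S] X.carrier) (h : stageMap S R X x = 0) :
    ∃ (Y : Nbhd S K) (f : X ⟶ Y), transMap S R f x = 0 := by
  classical
  obtain ⟨s, rfl⟩ := TensorProduct.exists_finset x
  let φ : (s → S) →ₗ[S] R := Fintype.linearCombination S (fun j : s => j.1.1)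
  let T := Hens S K
  let w : (s → S) ⊗[S] T := ∑ j : s, Pi.single j (1 : S) ⊗ₜ[S] Hens.of X j.1.2
  have hw : φ.rTensor T w = 0 := by
    rw [← h]
    simp only [w, map_sum, LinearMap.rTensor_tmul, stageMap,
      Algebra.TensorProduct.map_tmul, AlgHom.id_apply]
    rw [← Finset.sum_coe_sort s]
    refine Finset.sum_congr rfl fun j _ => ?_
    simp [φ, Fintype.linearCombination_apply, Pi.single_apply]
  have hex := Module.Flat.rTensor_exact T (LinearMap.exact_subtype_ker_map φ)
  obtain ⟨v, hv⟩ := (hex w).1 hw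
  obtain ⟨c, hc⟩ := TensorProduct.exists_finset v
  obtain ⟨X', x', hx'⟩ := Hens.exists_rep_fintype (R := S) (K := K) (fun q : (c : Finset _) => q.1.2)
  obtain ⟨Y₀, g, g', -⟩ : ∃ (Y₀ : Nbhd S K) (_ : X ⟶ Y₀) (_ : X' ⟶ Y₀), True :=
    ⟨IsFiltered.max X X', IsFiltered.leftToMax X X', IsFiltered.rightToMax X X', trivial⟩
  have hcoord : ∀ j : s, Hens.of Y₀ (g.1 j.1.2) =
      Hens.of Y₀ (∑ q : (c : Finset _), (q.1.1 : s → S) j • g'.1 (x' q)) := fun j => by
    let pr : (s → S) ⊗[S] T →ₗ[S] T :=
      (TensorProduct.lid S T).toLinearMap ∘ₗ (LinearMap.proj j).rTensor T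
    have h1 : pr w = Hens.of X j.1.2 := by
      simp only [w, pr, map_sum, LinearMap.coe_comp, LinearEquiv.coe_coe, Function.comp_apply,
        LinearMap.rTensor_tmul, LinearMap.proj_apply, TensorProduct.lid_tmul]
      rw [Finset.sum_eq_single j]
      · simp
      · intro b _ hb; simp [Ne.symm hb]
      · simp
    rw [Hens.of_hom, ← h1, ← hv, hc, map_sum, map_sum, map_sum, ← Finset.sum_coe_sort c]
    refine Finset.sum_congr rfl fun q _ => ?_
    rw [map_smul, Hens.of_hom, hx']
    simp [pr]
  obtain ⟨Y, f, hf⟩ := exists_eq_of_finite S _ _ hcoord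
  refine ⟨Y, g ≫ f, ?_⟩
  rw [transMap_comp]
  simp only [transMap, map_sum, Algebra.TensorProduct.map_tmul, AlgHom.id_apply]
  rw [← Finset.sum_coe_sort s]
  have hsum : ∀ j : s, j.1.1 ⊗ₜ[S] f.1 (g.1 j.1.2) =
      ∑ q : (c : Finset _), ((q.1.1 : s → S) j • j.1.1) ⊗ₜ[S] f.1 (g'.1 (x' q)) := fun j => by
    rw [hf j, map_sum, TensorProduct.tmul_sum]
    exact Finset.sum_congr rfl fun q _ => by rw [map_smul, TensorProduct.tmul_smul, TensorProduct.smul_tmul']
  rw [Finset.sum_congr rfl fun j _ => hsum j, Finset.sum_comm]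
  refine Finset.sum_eq_zero fun q _ => ?_
  rw [← TensorProduct.sum_tmul]
  have hq : φ (q.1.1 : s → S) = 0 := (q.1.1).2
  rw [Fintype.linearCombination_apply] at hq
  rw [hq, TensorProduct.zero_tmul]

theorem exists_trans_eq_of_finite {ι : Type*} [Finite ι] {X : Nbhd S K} (a b : ι → R ⊗[S] X.carrier)
    (h : ∀ i, stageMap S R X (a i) = stageMap S R X (b i)) :
    ∃ (Y : Nbhd S K) (f : X ⟶ Y), ∀ i, transMap S R f (a i) = transMap S R f (b i) := by
  classical
  cases nonempty_fintype ι
  suffices ∀ t : Finset ι, ∃ (Y : Nbhd S K) (f : X ⟶ Y),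
      ∀ i ∈ t, transMap S R f (a i) = transMap S R f (b i) by
    obtain ⟨Y, f, hf⟩ := this Finset.univ
    exact ⟨Y, f, fun i => hf i (Finset.mem_univ i)⟩
  intro t
  induction t using Finset.induction_on with
  | empty => exact ⟨X, 𝟙 X, by simp⟩
  | @insert i t hi ih =>
    obtain ⟨Y, f, hf⟩ := ih
    obtain ⟨Z, g, hg⟩ := exists_trans_eq_zero S R (transMap S R f (a i) - transMap S R f (b i))
      (by rw [map_sub, stageMap_trans, stageMap_trans, h i, sub_self])
    refine ⟨Z, f ≫ g, fun j hj => ?_⟩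
    rw [transMap_comp, transMap_comp]
    rcases Finset.mem_insert.1 hj with rfl | hj
    · rwa [map_sub, sub_eq_zero] at hg
    · rw [hf j hj]

variable {S R}

/-- a homomorphism to matrices over the colimit comes from a finite stage -/
theorem exists_stage_algHom (A : Type w) [Ring A] [Algebra R A] [Module.Finite R A]
    [Module.Projective R A] (n : ℕ)
    (ψ : A →ₐ[R] Matrix (Fin n) (Fin n) (R ⊗[S] Hens S K)) :
    ∃ (X : Nbhd S K) (φ : A →ₐ[R] Matrix (Fin n) (Fin n) (R ⊗[S] X.carrier)),
      ∀ a, (stageMap S R X).mapMatrix (φ a) = ψ a := by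
  classical
  obtain ⟨m, f, hf⟩ := Module.Finite.exists_fin' R A
  obtain ⟨g, hg⟩ := Module.projective_lifting_property f LinearMap.id hf
  let a : Fin m → A := fun i => f (Pi.single i 1)
  have hspan : ∀ x, x = ∑ i, g x i • a i := fun x => by
    have h1 : f (g x) = ∑ i, g x i • a i := by
      conv_lhs => rw [pi_eq_sum_univ' (g x)]
      simp [a]
    exact (LinearMap.congr_fun hg x).symm.trans h1
  obtain ⟨X, z, hz⟩ := exists_stage_rep S R (K := K)
    (fun q : Fin m × Fin n × Fin n => ψ (a q.1) q.2.1 q.2.2)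
  let Z : Fin m → Matrix (Fin n) (Fin n) (R ⊗[S] X.carrier) := fun i =>
    Matrix.of fun k l => z (i, k, l)
  let G : A →ₗ[R] Matrix (Fin n) (Fin n) (R ⊗[S] X.carrier) :=
    (Fintype.linearCombination R Z).comp g
  have hG : ∀ x, (stageMap S R X).mapMatrix (G x) = ψ x := fun x => by
    conv_rhs => rw [hspan x]
    simp only [G, LinearMap.coe_comp, Function.comp_apply, Fintype.linearCombination_apply,
      map_sum, map_smul]
    refine Finset.sum_congr rfl fun i _ => ?_
    congr 1
    ext k l
    exact hz (i, k, l)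
  let lhs : (Option (Fin m × Fin m)) × Fin n × Fin n → R ⊗[S] X.carrier := fun q =>
    match q.1 with
    | none => G 1 q.2.1 q.2.2
    | some ij => G (a ij.1 * a ij.2) q.2.1 q.2.2
  let rhs : (Option (Fin m × Fin m)) × Fin n × Fin n → R ⊗[S] X.carrier := fun q =>
    match q.1 with
    | none => (1 : Matrix (Fin n) (Fin n) (R ⊗[S] X.carrier)) q.2.1 q.2.2
    | some ij => (G (a ij.1) * G (a ij.2)) q.2.1 q.2.2
  have hh : ∀ q, stageMap S R X (lhs q) = stageMap S R X (rhs q) := by
    rintro ⟨o, k, l⟩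
    have e : ∀ M N : Matrix (Fin n) (Fin n) (R ⊗[S] X.carrier),
        (stageMap S R X).mapMatrix M = (stageMap S R X).mapMatrix N →
        stageMap S R X (M k l) = stageMap S R X (N k l) := fun M N h => congrFun (congrFun h k) l
    cases o with
    | none => exact e (G 1) 1 (by rw [hG, map_one, map_one])
    | some ij => exact e (G (a ij.1 * a ij.2)) (G (a ij.1) * G (a ij.2)) (by rw [hG, map_mul, map_mul, hG, hG])
  obtain ⟨Y, t, ht⟩ := exists_trans_eq_of_finite S R lhs rhs hh
  let F : A →ₗ[R] Matrix (Fin n) (Fin n) (R ⊗[S] Y.carrier) :=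
    (transMap S R t).mapMatrix.toLinearMap.comp G
  have h1 : F 1 = 1 := by
    rw [← map_one (transMap S R t).mapMatrix]
    ext k l
    exact ht (none, k, l)
  have h2 : ∀ i j, F (a i * a j) = F (a i) * F (a j) := fun i j => by
    show (transMap S R t).mapMatrix (G (a i * a j)) =
      (transMap S R t).mapMatrix (G (a i)) * (transMap S R t).mapMatrix (G (a j))
    rw [← map_mul (transMap S R t).mapMatrix]
    ext k l
    exact ht (some (i, j), k, l)
  refine ⟨Y, AlgHom.ofLinearMap F h1 (fun x y => ?_), fun x => ?_⟩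
  swap
  · show (stageMap S R Y).mapMatrix ((transMap S R t).mapMatrix (G x)) = ψ x
    rw [← hG]
    ext k l
    exact stageMap_trans S R t _
  rw [hspan x, hspan y]
  simp only [Finset.sum_mul, Finset.mul_sum, map_sum, smul_mul_assoc, mul_smul_comm, map_smul, h2]

theorem exists_split_at (S : Type u) [CommRing S] (R : Type u) [CommRing R] [Algebra S R]
    [Algebra.IsIntegral S R] (A : Type u) [Ring A] [Algebra R A] [IsAzumaya R A] (n : ℕ) (hn : n ≠ 0)
    (hrk : ∀ q : PrimeSpectrum R, Module.rankAtStalk (R := R) A q = n ^ 2) (p : PrimeSpectrum S) :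
    ∃ (E : Type u) (_ : CommRing E) (_ : Algebra S E) (_ : Algebra.Etale S E)
      (P : PrimeSpectrum E), PrimeSpectrum.comap (algebraMap S E) P = p ∧
      Nonempty (A →ₐ[R] Matrix (Fin n) (Fin n) (R ⊗[S] E)) := by
  let K := SeparableClosure p.asIdeal.ResidueField
  let T := Hens S K
  haveI : IsSepClosed (ResidueField T) := isSepClosed_residueField_hens p.asIdeal K
  haveI : Module.Finite R A := inferInstance
  haveI : Module.Projective R A := inferInstance
  let B := R ⊗[S] T
  letI : Algebra T B := Algebra.TensorProduct.rightAlgebra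
  haveI : Algebra.IsIntegral T B := by
    refine ⟨fun b => ?_⟩
    induction b using TensorProduct.induction_on with
    | zero => exact isIntegral_zero
    | add x y hx hy => exact hx.add hy
    | tmul r t =>
      have h1 : r ⊗ₜ[S] t = (r ⊗ₜ[S] (1 : T)) * algebraMap T B t := by
        show _ = (r ⊗ₜ[S] (1 : T)) * ((1 : R) ⊗ₜ[S] t)
        rw [Algebra.TensorProduct.tmul_mul_tmul, mul_one, one_mul]
      rw [h1]
      refine IsIntegral.mul ?_ isIntegral_algebraMap
      obtain ⟨P, hPm, hP⟩ := Algebra.IsIntegral.isIntegral (R := S) r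
      refine ⟨P.map (algebraMap S T), hPm.map _, ?_⟩
      rw [Polynomial.eval₂_map]
      have h2 : (algebraMap T B).comp (algebraMap S T) =
          (Algebra.TensorProduct.includeLeft : R →ₐ[S] B).toRingHom.comp (algebraMap S R) := by
        ext c
        show (1 : R) ⊗ₜ[S] algebraMap S T c = algebraMap S R c ⊗ₜ[S] (1 : T)
        rw [Algebra.TensorProduct.tmul_one_eq_one_tmul]
      rw [h2]
      exact (Polynomial.hom_eval₂ P (algebraMap S R)
        (Algebra.TensorProduct.includeLeft : R →ₐ[S] B).toRingHom r).symm.trans (by rw [hP, map_zero])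
  haveI := isAzumaya_baseChange R B A
  obtain ⟨ψ⟩ := exists_algHom_matrix_of_integral T B (B ⊗[R] A) n hn fun Q => by
    rw [Module.rankAtStalk_baseChange, hrk]
  obtain ⟨X, hX, -⟩ := exists_stage_algHom A n
    ((ψ.restrictScalars R).comp Algebra.TensorProduct.includeRight)
  refine ⟨X.carrier, inferInstance, inferInstance, inferInstance,
    ⟨RingHom.ker X.point.toRingHom, RingHom.ker_isPrime _⟩, PrimeSpectrum.ext ?_, ⟨hX⟩⟩
  ext c
  show X.point (algebraMap S X.carrier c) = 0 ↔ c ∈ p.asIdeal
  rw [AlgHom.commutes, IsScalarTower.algebraMap_apply S p.asIdeal.ResidueField K, map_eq_zero,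
    Ideal.algebraMap_residueField_eq_zero]

set_option maxHeartbeats 800000 in
/-- an Azumaya algebra over an integral `S`-algebra is split étale locally on `S` -/
theorem exists_etale_base_split (S : Type u) [CommRing S] (R : Type u) [CommRing R] [Algebra S R]
    [Algebra.IsIntegral S R] (A : Type u) [Ring A] [Algebra R A] [IsAzumaya R A] (n : ℕ) (hn : n ≠ 0)
    (hrk : ∀ q : PrimeSpectrum R, Module.rankAtStalk (R := R) A q = n ^ 2) :
    ∃ (S' : Type u) (_ : CommRing S') (_ : Algebra S S'), Algebra.Etale S S' ∧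
      Module.FaithfullyFlat S S' ∧
      Nonempty (A →ₐ[R] Matrix (Fin n) (Fin n) (R ⊗[S] S')) := by
  classical
  have h := exists_split_at S R A n hn hrk
  choose E i1 i2 i3 P hP e using h
  letI := fun p => i1 p
  letI := fun p => i2 p
  have hflat : ∀ p, Module.Flat S (E p) := fun p => by haveI := i3 p; infer_instance
  have hopen : ∀ p, IsOpen (Set.range (PrimeSpectrum.comap (algebraMap S (E p)))) := fun p => by
    haveI := i3 p
    haveI := hflat p
    exact (PrimeSpectrum.isOpenMap_comap_of_hasGoingDown_of_finitePresentation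
      (R := S) (S := E p)).isOpen_range
  obtain ⟨t, ht⟩ := isCompact_univ.elim_finite_subcover _ hopen
    (fun p _ => Set.mem_iUnion.2 ⟨p, P p, hP p⟩)
  let S' := Π p : t, E p.1
  haveI : ∀ p : t, Algebra.Etale S (E p.1) := fun p => i3 p.1
  haveI : Module.Flat S S' := Module.Flat.of_linearEquiv
    (DFinsupp.linearEquivFunOnFintype (R := S) (M := fun p : t => E p.1)).symm
  have hsurj : Function.Surjective (PrimeSpectrum.comap (algebraMap S S')) := by
    intro p
    obtain ⟨q, hq, Q, hQ⟩ : ∃ q ∈ t, p ∈ Set.range (PrimeSpectrum.comap (algebraMap S (E q))) := by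
      simpa using ht (Set.mem_univ p)
    let π : S' →ₐ[S] E q := Pi.evalAlgHom S (fun i : t => E i.1) ⟨q, hq⟩
    refine ⟨PrimeSpectrum.comap π.toRingHom Q, ?_⟩
    rw [← PrimeSpectrum.comap_comp_apply,
      show (π.toRingHom).comp (algebraMap S S') = algebraMap S (E q) from π.comp_algebraMap, hQ]
  haveI hff : Module.FaithfullyFlat S S' := Module.FaithfullyFlat.of_comap_surjective hsurj
  have ψ := fun p : t => (e p.1).some
  let Ψ : A →ₐ[R] Matrix (Fin n) (Fin n) (Π p : t, R ⊗[S] E p.1) :=
    { toFun := fun a => Matrix.of fun i j p => ψ p a i j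
      map_one' := Matrix.ext fun i j => funext fun p => by
        show ψ p 1 i j = (1 : Matrix (Fin n) (Fin n) (Π p : t, R ⊗[S] E p.1)) i j p
        rw [map_one, Matrix.one_apply, Matrix.one_apply]
        split_ifs <;> rfl
      map_mul' := fun a b => Matrix.ext fun i j => funext fun p => by
        show ψ p (a * b) i j =
          ((∑ l, (fun q : t => ψ q a i l) * (fun q : t => ψ q b l j)) : Π p : t, R ⊗[S] E p.1) p
        rw [map_mul, Matrix.mul_apply, Finset.sum_apply]
        rfl
      map_zero' := Matrix.ext fun i j => funext fun p => by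
        show ψ p 0 i j = 0
        rw [map_zero]; rfl
      map_add' := fun a b => Matrix.ext fun i j => funext fun p => by
        show ψ p (a + b) i j = ψ p a i j + ψ p b i j
        rw [map_add]; rfl
      commutes' := fun c => Matrix.ext fun i j => funext fun p => by
        show ψ p (algebraMap R A c) i j = (algebraMap R (Matrix (Fin n) (Fin n) (Π p : t, R ⊗[S] E p.1)) c) i j p
        rw [AlgHom.commutes, Matrix.algebraMap_matrix_apply, Matrix.algebraMap_matrix_apply]
        split_ifs <;> rfl }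
  exact ⟨S', inferInstance, inferInstance, inferInstance, hff,
    ⟨(Algebra.TensorProduct.piRight S R R fun p : t => E p.1).symm.toAlgHom.mapMatrix.comp Ψ⟩⟩

end Groth.Agent.CSA
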