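import Groth.Agent.CSA.Basic

/-!
# Simple algebras over their centre, involutions
-/

set_option autoImplicit false

namespace Groth.Agent.CSA

universe u v

variable (k : Type u) [Field k] (A : Type v) [Ring A] [Algebra k A] [IsSimpleRing A]

omit [Algebra k A] in
/-- central nonzero elements of a simple ring are units -/
theorem isUnit_of_central {c : A} (hc : ∀ y, y * c = c * y) (h0 : c ≠ 0) : IsUnit c := by
  have hmem : c ∈ Subring.center A := Subring.mem_center_iff.2 hc
  obtain ⟨d, hd⟩ := (IsSimpleRing.isField_center A).mul_inv_cancel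
    (a := ⟨c, hmem⟩) (fun h => h0 (congrArg Subtype.val h))
  have h1 : c * d.1 = 1 := congrArg Subtype.val hd
  exact ⟨⟨c, d.1, h1, by rw [hc d.1]; exact h1⟩, rfl⟩

/-- Skolem–Noether for automorphisms fixing the centre -/
theorem exists_unit_conj_of_fix_center [FiniteDimensional k A] (φ : A ≃ₐ[k] A)
    (hφ : ∀ c ∈ Subalgebra.center k A, φ c = c) :
    ∃ u : Aˣ, ∀ a, φ a = u * a * (u⁻¹ : Aˣ) := by
  let _ : Field (Subring.center A) := (IsSimpleRing.isField_center A).toField
  let Z := Subring.center A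
  have : Algebra.IsCentral Z A :=
    ⟨fun x hx => ⟨⟨x, Subring.mem_center_iff.2 (Subalgebra.mem_center_iff.1 hx)⟩, rfl⟩⟩
  have : FiniteDimensional Z A := by
    have ⟨s, hs⟩ := Module.Finite.fg_top (R := k) (M := A)
    refine ⟨⟨s, eq_top_iff.2 fun x hx => ?_⟩⟩
    clear hx
    induction hs.ge (show x ∈ (⊤ : Submodule k A) from trivial) using Submodule.span_induction with
    | mem y hy => exact Submodule.subset_span hy
    | zero => exact Submodule.zero_mem _
    | add _ _ _ _ h₁ h₂ => exact Submodule.add_mem _ h₁ h₂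
    | smul c y _ h =>
      have := Submodule.smul_mem _ (⟨algebraMap k A c, Subring.mem_center_iff.2
        fun z => (Algebra.commutes c z).symm⟩ : Z) h
      rw [Algebra.smul_def]
      exact this
  let ψ : A ≃ₐ[Z] A := AlgEquiv.ofRingEquiv (f := φ.toRingEquiv) fun z => by
    exact hφ z.1 (Subalgebra.mem_center_iff.2 (Subring.mem_center_iff.1 z.2))
  exact exists_unit_conj_algEquiv Z A ψ

structure IsInvolution (s : A →ₗ[k] A) : Prop where
  map_one : s 1 = 1
  map_mul : ∀ x y, s (x * y) = s y * s x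
  invol : ∀ x, s (s x) = x

variable {k A}

omit [IsSimpleRing A] in
theorem IsInvolution.map_center {s : A →ₗ[k] A} (hs : IsInvolution k A s) {c : A}
    (hc : ∀ y, y * c = c * y) : ∀ y, y * s c = s c * y := fun y => by
  conv_lhs => rw [← hs.invol y, ← hs.map_mul]
  conv_rhs => rw [← hs.invol y, ← hs.map_mul, hc]

theorem IsInvolution.exists_conj [FiniteDimensional k A] {s t : A →ₗ[k] A}
    (hs : IsInvolution k A s) (ht : IsInvolution k A t)
    (h : ∀ c ∈ Subalgebra.center k A, s c = t c) :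
    ∃ a : Aˣ, ∀ x, s x = (a : A) * t x * (a⁻¹ : Aˣ) := by
  let φ : A ≃ₐ[k] A := AlgEquiv.ofBijective
    { toFun := fun x => s (t x)
      map_one' := by rw [ht.map_one, hs.map_one]
      map_mul' := fun x y => by rw [ht.map_mul, hs.map_mul]
      map_zero' := by simp
      map_add' := fun x y => by simp
      commutes' := fun c => by simp [Algebra.algebraMap_eq_smul_one, ht.map_one, hs.map_one] }
    ⟨fun x y hxy => by
      have := congrArg (fun z => t (s z)) hxy
      simpa [hs.invol, ht.invol] using this,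
     fun x => ⟨t (s x), by simp [hs.invol, ht.invol]⟩⟩
  obtain ⟨u, hu⟩ := exists_unit_conj_of_fix_center k A φ fun c hc => by
    have hm : t c ∈ Subalgebra.center k A :=
      Subalgebra.mem_center_iff.2 (ht.map_center (Subalgebra.mem_center_iff.1 hc))
    show s (t c) = c
    rw [h _ hm, ht.invol]
  refine ⟨u, fun x => ?_⟩
  have := hu (t x)
  change s (t (t x)) = _ at this
  rwa [ht.invol] at this

/-- the comparison element of two involutions -/
theorem IsInvolution.exists_conj_scalar [FiniteDimensional k A] {s t : A →ₗ[k] A}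
    (hs : IsInvolution k A s) (ht : IsInvolution k A t)
    (h : ∀ c ∈ Subalgebra.center k A, s c = t c) :
    ∃ a : Aˣ, (∀ x, s x = (a : A) * t x * (a⁻¹ : Aˣ)) ∧
      ∃ c : A, (∀ y, y * c = c * y) ∧ t a = c * a ∧ c * t c = 1 := by
  obtain ⟨a, ha⟩ := hs.exists_conj ht h
  have hti : t (a⁻¹ : Aˣ) * t a = 1 := by rw [← ht.map_mul, Units.mul_inv, ht.map_one]
  have hit : t a * t (a⁻¹ : Aˣ) = 1 := by rw [← ht.map_mul, Units.inv_mul, ht.map_one]
  have key : ∀ x, (a : A) * t (a⁻¹ : Aˣ) * x = x * ((a : A) * t (a⁻¹ : Aˣ)) := fun x => by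
    have h0 : (a : A) * (t (a⁻¹ : Aˣ) * x * t a) * (a⁻¹ : Aˣ) = x := by
      have := hs.invol x
      rw [ha, ha x, ht.map_mul, ht.map_mul, ht.invol] at this
      simpa [mul_assoc] using this
    calc (a : A) * t (a⁻¹ : Aˣ) * x
        = (a : A) * t (a⁻¹ : Aˣ) * x * (t a * ((a⁻¹ : Aˣ) * a) * t (a⁻¹ : Aˣ)) := by
          rw [Units.inv_mul, mul_one, hit, mul_one]
      _ = ((a : A) * (t (a⁻¹ : Aˣ) * x * t a) * (a⁻¹ : Aˣ)) * ((a : A) * t (a⁻¹ : Aˣ)) := by
          simp only [mul_assoc]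
      _ = _ := by rw [h0]
  let c : A := t a * (a⁻¹ : Aˣ)
  have hca : t a = c * a := by simp [c, mul_assoc]
  have hinv : c * ((a : A) * t (a⁻¹ : Aˣ)) = 1 := by rw [← mul_assoc, ← hca, hit]
  have hinv' : (a : A) * t (a⁻¹ : Aˣ) * c = 1 := by rw [key, hinv]
  have hc : ∀ y, y * c = c * y := fun y => by
    calc y * c = c * ((a : A) * t (a⁻¹ : Aˣ)) * y * c := by rw [hinv, one_mul]
      _ = c * (((a : A) * t (a⁻¹ : Aˣ)) * y) * c := by simp only [mul_assoc]
      _ = c * y * (((a : A) * t (a⁻¹ : Aˣ)) * c) := by rw [key]; simp only [mul_assoc]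
      _ = c * y := by rw [hinv', mul_one]
  refine ⟨a, ha, c, hc, hca, ?_⟩
  have h1 : (a : A) = t a * t c := by
    conv_lhs => rw [← ht.invol (a : A), hca, ← hc (a : A), ht.map_mul]
    rw [ht.map_center hc]
  have h2 : (a : A) = c * t c * a := by
    conv_lhs => rw [h1, hca, mul_assoc, ht.map_center hc, ← mul_assoc]
  calc c * t c = c * t c * a * (a⁻¹ : Aˣ) := by rw [mul_assoc _ (a : A), Units.mul_inv, mul_one]
    _ = 1 := by rw [← h2, Units.mul_inv]

omit [IsSimpleRing A] in
theorem IsInvolution.conj {t : A →ₗ[k] A} (ht : IsInvolution k A t) (a : Aˣ)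
    (ha : t (a : A) = a ∨ t (a : A) = -(a : A)) (s : A →ₗ[k] A)
    (hs : ∀ x : A, s x = (a : A) * t x * (a⁻¹ : Aˣ)) :
    IsInvolution k A s ∧ ∀ c ∈ Subalgebra.center k A, s c = t c := by
  have hti : t (a⁻¹ : Aˣ) * t a = 1 := by rw [← ht.map_mul, Units.mul_inv, ht.map_one]
  refine ⟨⟨by rw [hs, ht.map_one, mul_one, Units.mul_inv], fun x y => ?_, fun x => ?_⟩,
    fun c hc => ?_⟩
  · simp [hs, ht.map_mul, mul_assoc]
  · rw [hs, hs x, ht.map_mul, ht.map_mul, ht.invol]
    rcases ha with h | h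
    · rw [h] at hti ⊢
      have : t (a⁻¹ : Aˣ) = (a⁻¹ : Aˣ) := by
        calc t (a⁻¹ : Aˣ) = t (a⁻¹ : Aˣ) * a * (a⁻¹ : Aˣ) := by simp [mul_assoc]
          _ = _ := by rw [hti, one_mul]
      simp [this, mul_assoc]
    · rw [h] at hti ⊢
      have : t (a⁻¹ : Aˣ) = -((a⁻¹ : Aˣ) : A) := by
        calc t (a⁻¹ : Aˣ) = -(t (a⁻¹ : Aˣ) * -(a : A) * (a⁻¹ : Aˣ)) := by simp [mul_assoc]
          _ = _ := by rw [hti, one_mul]
      simp [this, mul_assoc]
  · rw [hs, ht.map_center (Subalgebra.mem_center_iff.1 hc) (a : A), mul_assoc, Units.mul_inv,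
      mul_one]

end Groth.Agent.CSA
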