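import Groth.Agent.CSA.Fibres

/-!
# Automorphisms of Azumaya algebras over local rings; the fibre criterion over a local ring
-/

set_option autoImplicit false

open TensorProduct

namespace Groth.Agent.CSA

universe u v

variable (R : Type u) [CommRing R] [IsLocalRing R]

theorem isAzumaya_iff_closedFibre (A : Type u) [Ring A] [Algebra R A] [Module.Finite R A]
    [Module.Projective R A] :
    IsAzumaya R A ↔
      (Algebra.IsCentral (IsLocalRing.ResidueField R) (IsLocalRing.ResidueField R ⊗[R] A) ∧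
        IsSimpleRing (IsLocalRing.ResidueField R ⊗[R] A)) := by
  let κ : Type u := IsLocalRing.ResidueField R
  refine ⟨fun _ => ?_, fun h => isAzumaya_of_fibres R A fun m hm => ?_⟩
  · have := isAzumaya_baseChange R κ A
    exact ⟨isCentral κ (κ ⊗[R] A), isSimpleRing_of_isAzumaya κ (κ ⊗[R] A)⟩
  · obtain rfl := IsLocalRing.eq_maximalIdeal hm
    obtain ⟨_, _⟩ := h
    exact ⟨κ, inferInstance, inferInstance,
      fun r hr => (IsLocalRing.residue_eq_zero_iff r).2 hr, isAzumaya_of_isCentral κ (κ ⊗[R] A)⟩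

section Inner

variable (A : Type v) [Ring A] [Algebra R A] [IsAzumaya R A]

theorem exists_unit_conj_local (u : A ≃ₐ[R] A) :
    ∃ a : Aˣ, ∀ x : A, u x = (a : A) * x * (a⁻¹ : Aˣ) := by
  obtain ⟨n, e, f, hef⟩ := exists_dual_basis R A
  obtain ⟨g, hg⟩ := exists_dual_one_eq_one R A
  let E := A ⊗[R] Aᵐᵒᵖ
  -- the action twisted by `u`
  let τ : E →ₐ[R] E := Algebra.TensorProduct.map u.toAlgHom (AlgHom.id R Aᵐᵒᵖ)
  let T : E →ₐ[R] Module.End R A := (AlgHom.mulLeftRight R A).comp τ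
  have hT : ∀ (c : A) (d : Aᵐᵒᵖ) (y : A), T (c ⊗ₜ d) y = u c * y * d.unop := fun c d y => by
    change AlgHom.mulLeftRight R A (u c ⊗ₜ d) y = _
    simp
  choose t ht using fun i => exists_mulLeftRight_eq R A (f i)
  -- the elements `P i` are twisted-central
  let P : Fin n → A := fun i => T (t i) 1
  have hP : ∀ i x, u x * P i = P i * x := by
    intro i x
    have h1 : (x ⊗ₜ[R] (1 : Aᵐᵒᵖ)) * t i = ((1 : A) ⊗ₜ[R] MulOpposite.op x) * t i := by
      refine (IsAzumaya.bij (R := R) (A := A)).1 (LinearMap.ext fun z => ?_)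
      simp [map_mul, Module.End.mul_apply, ht]
    have h2 := LinearMap.congr_fun (congrArg T h1) 1
    rw [map_mul, map_mul, Module.End.mul_apply, Module.End.mul_apply, hT, hT] at h2
    simpa [P] using h2
  have hone : ∑ i, u (e i) * P i = 1 := by
    have h1 : ∑ i, (e i ⊗ₜ[R] (1 : Aᵐᵒᵖ)) * t i = 1 := by
      refine (IsAzumaya.bij (R := R) (A := A)).1 (LinearMap.ext fun z => ?_)
      simpa [map_sum, Module.End.mul_apply, ht] using hef z
    have h2 : ∑ i, (T ((e i ⊗ₜ[R] (1 : Aᵐᵒᵖ)) * t i)) 1 = (1 : A) := by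
      rw [← LinearMap.sum_apply, ← map_sum, h1, map_one T, Module.End.one_apply]
    refine Eq.trans (Finset.sum_congr rfl fun i _ => ?_) h2
    rw [map_mul, Module.End.mul_apply, hT]
    simp [P]
  -- one of them has a unit coordinate
  obtain ⟨i, j, hij⟩ : ∃ i j, IsUnit (f j (P i)) := by
    by_contra hc
    push Not at hc
    have h1 : g (∑ i, u (e i) * P i) ∈ IsLocalRing.maximalIdeal R := by
      rw [map_sum]
      refine Ideal.sum_mem _ fun i _ => ?_
      rw [← hef (P i), Finset.mul_sum, map_sum]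
      refine Ideal.sum_mem _ fun j _ => ?_
      rw [Algebra.mul_smul_comm, map_smul, smul_eq_mul]
      exact Ideal.mul_mem_right _ _ ((IsLocalRing.mem_maximalIdeal _).2 (hc i j))
    rw [hone, hg] at h1
    exact (IsLocalRing.maximalIdeal.isMaximal R).ne_top ((Ideal.eq_top_iff_one _).2 h1)
  set a := P i with ha
  -- `a A` contains the bimodule generated by `a`
  have key : ∀ (s : E), ∃ x, AlgHom.mulLeftRight R A s a = a * x := by
    intro s
    induction s using TensorProduct.induction_on with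
    | zero => exact ⟨0, by simp⟩
    | add s s' h h' =>
      obtain ⟨x, hx⟩ := h
      obtain ⟨y, hy⟩ := h'
      exact ⟨x + y, by simp [hx, hy, mul_add]⟩
    | tmul c d =>
      refine ⟨u.symm c * d.unop, ?_⟩
      rw [AlgHom.mulLeftRight_apply, ← mul_assoc a, ha, ← hP i (u.symm c), u.apply_symm_apply]
  obtain ⟨r, hr⟩ := hij
  obtain ⟨s, hs⟩ := key (t j)
  rw [ht, ← hr] at hs
  have hright : a * ((↑r⁻¹ : R) • s) = 1 := by
    rw [Algebra.mul_smul_comm, ← hs, smul_smul, Units.inv_mul, one_smul]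
  have hleft : u ((↑r⁻¹ : R) • s) * a = 1 := by rw [hP i, hright]
  refine ⟨⟨a, (↑r⁻¹ : R) • s, hright, ?_⟩, fun x => ?_⟩
  · conv_rhs => rw [← hleft]
    rw [left_inv_eq_right_inv hleft hright]
  · change u x = a * x * ((↑r⁻¹ : R) • s)
    rw [← hP i x, ← ha, mul_assoc, hright, mul_one]

theorem exists_scalar_of_conj_eq (u : A ≃ₐ[R] A) (a a' : Aˣ)
    (h : ∀ x : A, u x = (a : A) * x * (a⁻¹ : Aˣ))
    (h' : ∀ x : A, u x = (a' : A) * x * (a'⁻¹ : Aˣ)) :
    ∃ c : Rˣ, (a' : A) = algebraMap R A (c : R) * (a : A) := by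
  have hc : ∀ (b : Aˣ), (∀ x, (b : A) * x * (b⁻¹ : Aˣ) = x) → ∃ c : R, (b : A) = algebraMap R A c := by
    intro b hb
    obtain ⟨c, hc⟩ := exists_eq_algebraMap_of_central R A (c := (b : A)) fun y => by
      conv_lhs => rw [← hb y]
      simp [mul_assoc]
    exact ⟨c, hc.symm⟩
  have key : ∀ (a a' : Aˣ), (∀ x, (a : A) * x * (a⁻¹ : Aˣ) = a' * x * (a'⁻¹ : Aˣ)) →
      ∀ x, ((a⁻¹ * a' : Aˣ) : A) * x * ((a⁻¹ * a' : Aˣ)⁻¹ : Aˣ) = x := fun a a' hh x => by
    simp only [Units.val_mul, mul_inv_rev, inv_inv]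
    calc (a⁻¹ : Aˣ) * (a' : A) * x * ((a'⁻¹ : Aˣ) * (a : A))
        = (a⁻¹ : Aˣ) * ((a' : A) * x * (a'⁻¹ : Aˣ)) * a := by simp only [mul_assoc]
      _ = x := by rw [← hh x]; simp [mul_assoc]
  obtain ⟨c, hcc⟩ := hc _ (key a a' fun x => (h x).symm.trans (h' x))
  obtain ⟨d, hdd⟩ := hc _ (key a' a fun x => (h' x).symm.trans (h x))
  have hinj : Function.Injective (algebraMap R A) :=
    (faithfulSMul_iff_algebraMap_injective R A).1 inferInstance
  have hcd : c * d = 1 := hinj (by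
    rw [map_mul, ← hcc, ← hdd, map_one, ← Units.val_mul]; simp [mul_assoc])
  refine ⟨⟨c, d, hcd, by rw [mul_comm, hcd]⟩, ?_⟩
  change (a' : A) = algebraMap R A c * a
  rw [Algebra.commutes, ← hcc]
  simp

end Inner

end Groth.Agent.CSA
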