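import Groth.Agent.CSA.Goldman

/-!
# Period and index
-/

set_option autoImplicit false

open TensorProduct Module

namespace Groth.Agent.CSA

universe u v w

variable {k : Type u} [Field k]

theorem pow_ind_eq_one (x : Br k) : x ^ ind k x = 1 := by
  obtain ⟨D, _, _, _, _, rfl⟩ := exists_division k x
  refine eq_one_of_ind_eq_one k (Nat.dvd_one.1 ?_)
  have h := ind_pow_dvd_choose k D _ (finrank_eq_ind_sq k (D := D)) (ind k (cl k D))
  rwa [Nat.choose_self] at h

theorem orderOf_dvd_ind (x : Br k) : orderOf x ∣ ind k x :=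
  orderOf_dvd_of_pow_eq_one (pow_ind_eq_one x)

theorem orderOf_pos_br (x : Br k) : 0 < orderOf x :=
  Nat.pos_of_dvd_of_pos (orderOf_dvd_ind x) (ind_pos k x)

theorem not_dvd_choose_prime_pow {p : ℕ} [hp : Fact p.Prime] (a m : ℕ) (hm : ¬ p ∣ m) :
    ¬ p ∣ (p ^ a * m).choose (p ^ a) := by
  induction a with
  | zero => simpa using hm
  | succ a ih =>
    intro h
    apply ih
    have hmod := Choose.choose_modEq_choose_mod_mul_choose_div_nat (n := p ^ (a + 1) * m)
      (k := p ^ (a + 1)) (p := p)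
    rw [pow_succ, show p ^ a * p * m = p * (p ^ a * m) by ring, mul_comm (p ^ a) p,
      Nat.mul_mod_right, Nat.mul_mod_right, Nat.choose_self, one_mul,
      Nat.mul_div_cancel_left _ hp.out.pos, Nat.mul_div_cancel_left _ hp.out.pos] at hmod
    rw [pow_succ, show p ^ a * p * m = p * (p ^ a * m) by ring, mul_comm (p ^ a) p] at h
    exact (hmod.dvd_iff dvd_rfl).1 h

/-- every prime factor of the index divides the period -/
theorem prime_dvd_orderOf (x : Br k) {p : ℕ} (hp : p.Prime) (h : p ∣ ind k x) : p ∣ orderOf x := by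
  by_contra hne
  have := Fact.mk hp
  obtain ⟨D, _, _, _, _, rfl⟩ := exists_division k x
  set d := ind k (cl k D) with hd
  set a := d.factorization p
  obtain ⟨j, hj⟩ := exists_pow_eq_self_of_coprime (x := cl k D) (n := p ^ a)
    (Nat.Coprime.pow_left _ ((Nat.Prime.coprime_iff_not_dvd hp).2 hne))
  have h1 : d ∣ ind k (cl k D ^ p ^ a) := by
    have h2 := ind_pow_dvd k (cl k D ^ p ^ a) j
    rwa [hj] at h2
  have h3 := ind_pow_dvd_choose k D _ (finrank_eq_ind_sq k (D := D)) (p ^ a)
  rw [← hd] at h3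
  have hfac : p ^ a * (d / p ^ a) = d := Nat.ordProj_mul_ordCompl_eq_self d p
  have := not_dvd_choose_prime_pow (p := p) a (d / p ^ a)
    (Nat.not_dvd_ordCompl hp (ind_pos k _).ne')
  rw [hfac] at this
  exact this (h.trans (h1.trans h3))

theorem primeFactors_ind (x : Br k) : (ind k x).primeFactors = (orderOf x).primeFactors := by
  ext p
  simp only [Nat.mem_primeFactors]
  exact ⟨fun ⟨hp, h, _⟩ => ⟨hp, prime_dvd_orderOf x hp h, (orderOf_pos_br x).ne'⟩,
    fun ⟨hp, h, _⟩ => ⟨hp, h.trans (orderOf_dvd_ind x), (ind_pos k x).ne'⟩⟩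

theorem ind_dvd_orderOf_pow (x : Br k) : ind k x ∣ orderOf x ^ (ind k x - 1) := by
  rw [Nat.dvd_iff_prime_pow_dvd_dvd]
  intro p j hp hj
  rcases Nat.eq_zero_or_pos j with rfl | hj0
  · simp
  have h1 := prime_dvd_orderOf x hp ((dvd_pow_self p hj0.ne').trans hj)
  have h2 : j ≤ ind k x - 1 := by
    have := (Nat.lt_pow_self hp.one_lt (n := j)).trans_le (Nat.le_of_dvd (ind_pos k x) hj)
    omega
  exact (pow_dvd_pow p h2).trans (pow_dvd_pow_of_dvd h1 _)

theorem coprime_ind_of_coprime_orderOf (x : Br k) {n : ℕ} (h : Nat.Coprime (orderOf x) n) :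
    Nat.Coprime (ind k x) n :=
  Nat.coprime_of_dvd fun _ hp h1 h2 =>
    hp.ne_one (Nat.eq_one_of_dvd_coprimes h (prime_dvd_orderOf x hp h1) h2)

variable (A : Type v) [Ring A] [Algebra k A] [Algebra.IsCentral k A] [IsSimpleRing A]
  [FiniteDimensional k A]

theorem splits_tpow_iff (e : ℕ) : Curves.Splits k (CSAGal.tpow k A e) k ↔ cl k A ^ e = 1 := by
  rw [← cl_tpow, cl_eq_one_iff]

theorem isPeriod_iff {e : ℕ} : CSAGal.IsPeriod k A e ↔ e = orderOf (cl k A) := by
  constructor
  · rintro ⟨h0, h1, h2⟩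
    refine ((orderOf_eq_iff h0).2 ⟨(splits_tpow_iff A e).1 h1, fun m hm hm0 hx => ?_⟩).symm
    exact h2 m hm0 hm ((splits_tpow_iff A m).2 hx)
  · rintro rfl
    exact ⟨orderOf_pos_br _, (splits_tpow_iff A _).2 (pow_orderOf_eq_one _),
      fun m hm0 hm h => pow_ne_one_of_lt_orderOf hm0.ne' hm ((splits_tpow_iff A m).1 h)⟩

theorem nonempty_algEquiv_of_cl_eq (B : Type w) [Ring B] [Algebra k B] [Algebra.IsCentral k B]
    [IsSimpleRing B] [FiniteDimensional k B] (h : cl k A = cl k B)
    (hd : finrank k A = finrank k B) : Nonempty (A ≃ₐ[k] B) := by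
  obtain ⟨m, D, _, _, _, _, hm, hA, hD, hfA, ⟨e⟩⟩ := exists_matrix_division k A
  obtain ⟨m', D', _, _, _, _, hm', hB, hD', hfB, ⟨e'⟩⟩ := exists_matrix_division k B
  obtain ⟨f⟩ := ((cl_eq_cl_iff k D D').1 (hA.symm.trans (h.trans hB))).division_iso
  have : m = m' := Nat.eq_of_mul_eq_mul_right (ind_pos k (cl k B))
    (Nat.pow_left_injective two_ne_zero (show _ ^ 2 = _ ^ 2 by
      rw [← hfB, ← hd, hfA, h]))
  subst this
  exact ⟨e.trans (f.mapMatrix.trans e'.symm)⟩

include A in
theorem exists_division_small (x : Br k) :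
    ∃ (E : Type v) (_ : DivisionRing E) (_ : Algebra k E) (_ : Algebra.IsCentral k E)
      (_ : FiniteDimensional k E), cl k E = x := by
  have : Nontrivial A := inferInstance
  obtain ⟨E, _, _, _, _, rfl⟩ := exists_division k x
  let g : E → Fin (finrank k E) → A := fun z i => algebraMap k A ((Module.finBasis k E).repr z i)
  have hg : Function.Injective g := fun a b h => (Module.finBasis k E).repr.injective
    (DFunLike.ext _ _ fun i => (algebraMap k A).injective (congrFun h i))
  have : Small.{v} E := small_of_injective hg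
  let f : Shrink.{v} E ≃ₐ[k] E := Shrink.algEquiv k E
  obtain ⟨i1, i2, i3⟩ := IsCSA.congr f.symm ⟨‹_›, inferInstance, ‹_›⟩
  exact ⟨Shrink.{v} E, inferInstance, inferInstance, i1, i3, cl_congr k _ _ f⟩

theorem finrank_pi {ι : Type w} [Fintype ι] (E : ι → Type v) [∀ i, Ring (E i)] [∀ i, Algebra k (E i)]
    [∀ i, FiniteDimensional k (E i)] :
    finrank k (⨂[k] i, E i) = ∏ i, finrank k (E i) := by
  classical
  rw [finrank_eq_card_basis (Basis.piTensorProduct fun i => Module.finBasis k (E i)),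
    Fintype.card_pi]
  simp

end Groth.Agent.CSA
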