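import Groth.Agent.CSA.Period

/-!
# The reduced norm and the reduced trace
-/

set_option autoImplicit false

open TensorProduct Module Matrix Polynomial

namespace Groth.Agent.CSA

universe u v w w'

section PowLemma

variable {k : Type u} [Field k] {L : Type w} [Field L] [Algebra k L] {n : Type w'} [Fintype n]
  [DecidableEq n]

theorem eq_pow_of_aeval_eq_zero (M : Matrix n n L) {q p : k[X]} (hq : Irreducible q) (hqm : q.Monic)
    (hM : aeval M q = 0) (hp : p.Monic) (hpM : p.map (algebraMap k L) = M.charpoly) :
    ∃ j : ℕ, p = q ^ j := by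
  classical
  have key : ∀ r ∈ UniqueFactorizationMonoid.normalizedFactors p, r = q := by
    intro r hr
    have hirr := UniqueFactorizationMonoid.irreducible_of_normalized_factor r hr
    have hdvd := UniqueFactorizationMonoid.dvd_of_mem_normalizedFactors hr
    have hmon : r.Monic := by
      have := UniqueFactorizationMonoid.normalize_normalized_factor r hr
      rw [← this]
      exact Polynomial.monic_normalize hirr.ne_zero
    let Lb := AlgebraicClosure L
    obtain ⟨lam, hlam⟩ := IsAlgClosed.exists_aeval_eq_zero Lb r (Polynomial.degree_pos_of_irreducible hirr).ne'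
    let g : L →ₐ[k] Lb := IsScalarTower.toAlgHom k L Lb
    let M' : Matrix n n Lb := g.mapMatrix M
    have h1 : IsRoot M'.charpoly lam := by
      show IsRoot (M.map (algebraMap L Lb)).charpoly lam
      rw [Matrix.charpoly_map, ← hpM, Polynomial.map_map, ← IsScalarTower.algebraMap_eq, IsRoot,
        eval_map_algebraMap]
      obtain ⟨s, rfl⟩ := hdvd
      rw [map_mul, hlam, zero_mul]
    have h2 : aeval lam q = 0 := by
      have h3 := spectrum.subset_polynomial_aeval M' (q.map (algebraMap k Lb))
        ⟨lam, Matrix.mem_spectrum_iff_isRoot_charpoly.2 h1, rfl⟩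
      have h4 : aeval M' (q.map (algebraMap k Lb)) = 0 := by
        rw [aeval_map_algebraMap]
        show aeval (g.mapMatrix M) q = 0
        rw [aeval_algHom_apply, hM, map_zero]
      rw [h4] at h3
      rcases isEmpty_or_nonempty n with hn | hn
      · simp [spectrum.of_subsingleton] at h3
      rw [spectrum.zero_eq, Set.mem_singleton_iff] at h3
      change eval lam (q.map (algebraMap k Lb)) = 0 at h3
      rwa [eval_map_algebraMap] at h3
    rw [minpoly.eq_of_irreducible_of_monic hirr hlam hmon, minpoly.eq_of_irreducible_of_monic hq h2 hqm]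
  refine ⟨(UniqueFactorizationMonoid.normalizedFactors p).card, ?_⟩
  refine eq_of_monic_of_associated hp (hqm.pow _) ?_
  refine (UniqueFactorizationMonoid.prod_normalizedFactors hp.ne_zero).symm.trans ?_
  rw [Multiset.eq_replicate_card.2 key, Multiset.prod_replicate, Multiset.card_replicate]
  rfl

end PowLemma

section RedPoly

variable (k : Type u) [Field k] (A : Type v) [Ring A] [Algebra k A] [Algebra.IsCentral k A]
  [IsSimpleRing A] [FiniteDimensional k A]

theorem exists_split_extension {n : ℕ} (hn : finrank k A = n ^ 2) {L : Type w} [Field L] [Algebra k L]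
    (ψ : A →ₐ[k] Matrix (Fin n) (Fin n) L) :
    ∃ φ : (L ⊗[k] A) ≃ₐ[L] Matrix (Fin n) (Fin n) L, ∀ a, φ (1 ⊗ₜ a) = ψ a := by
  have : Nonempty (Fin n) := ⟨⟨0, Nat.pos_of_ne_zero fun h => by
    subst h; exact Module.finrank_pos.ne' hn⟩⟩
  let F : L ⊗[k] A →ₐ[L] Matrix (Fin n) (Fin n) L :=
    Algebra.TensorProduct.lift (Algebra.ofId L _) ψ fun c x => Algebra.commutes c _
  have hinj : Function.Injective F := RingHom.injective F.toRingHom
  have hdim : finrank L (L ⊗[k] A) = finrank L (Matrix (Fin n) (Fin n) L) := by
    rw [Module.finrank_baseChange, hn, finrank_matrix, Fintype.card_fin, Module.finrank_self,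
      mul_one, sq]
  exact ⟨AlgEquiv.ofBijective F ⟨hinj,
    (LinearMap.injective_iff_surjective_of_finrank_eq_finrank hdim (f := F.toLinearMap)).1 hinj⟩,
    fun a => by simp [F]⟩

/-- the degree -/
noncomputable def deg : ℕ := (exists_deg k A).choose

theorem finrank_eq_deg_sq : finrank k A = deg k A ^ 2 := (exists_deg k A).choose_spec.2

theorem deg_eq {n : ℕ} (hn : finrank k A = n ^ 2) : deg k A = n :=
  Nat.pow_left_injective two_ne_zero ((finrank_eq_deg_sq k A).symm.trans hn)

instance : NeZero (deg k A) := ⟨((exists_deg k A).choose_spec.1).ne'⟩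

/-- a chosen splitting over an algebraic closure -/
noncomputable def closureSplitting :
    (AlgebraicClosure k ⊗[k] A) ≃ₐ[AlgebraicClosure k]
      Matrix (Fin (deg k A)) (Fin (deg k A)) (AlgebraicClosure k) :=
  (exists_splitting_closure k A _ (finrank_eq_deg_sq k A)).some

/-- the reduced characteristic polynomial -/
noncomputable def redPoly (a : A) : k[X] :=
  (exists_redCharpoly k A _ (AlgebraicClosure k) (closureSplitting k A) a).choose

theorem redPoly_closure (a : A) :
    (redPoly k A a).map (algebraMap k (AlgebraicClosure k)) =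
      (closureSplitting k A (1 ⊗ₜ a)).charpoly :=
  (exists_redCharpoly k A _ (AlgebraicClosure k) (closureSplitting k A) a).choose_spec

theorem redPoly_map {n : ℕ} (hn : finrank k A = n ^ 2) {L : Type w} [Field L] [Algebra k L]
    (ψ : A →ₐ[k] Matrix (Fin n) (Fin n) L) (a : A) :
    (redPoly k A a).map (algebraMap k L) = (ψ a).charpoly := by
  obtain rfl := deg_eq k A hn
  obtain ⟨φ, hφ⟩ := exists_split_extension k A hn ψ
  rw [← hφ]
  exact redCharpoly_unique k A _ _ (closureSplitting k A) L φ a _ (redPoly_closure k A a)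

theorem redPoly_monic (a : A) : (redPoly k A a).Monic :=
  Polynomial.monic_of_injective (algebraMap k (AlgebraicClosure k)).injective
    (redPoly_closure k A a ▸ Matrix.charpoly_monic _)

theorem natDegree_redPoly (a : A) : (redPoly k A a).natDegree = deg k A := by
  rw [← natDegree_map (algebraMap k (AlgebraicClosure k)), redPoly_closure,
    Matrix.charpoly_natDegree_eq_dim, Fintype.card_fin]

theorem aeval_redPoly (a : A) : aeval a (redPoly k A a) = 0 :=
  aeval_redCharpoly k A _ _ (closureSplitting k A) a _ (redPoly_closure k A a)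

/-- reduced norm as a function -/
noncomputable def rnFun (a : A) : k := (-1) ^ deg k A * (redPoly k A a).coeff 0

/-- reduced trace as a function -/
noncomputable def rtFun (a : A) : k := -(redPoly k A a).coeff (deg k A - 1)

theorem rnFun_map {n : ℕ} (hn : finrank k A = n ^ 2) {L : Type w} [Field L] [Algebra k L]
    (ψ : A →ₐ[k] Matrix (Fin n) (Fin n) L) (a : A) :
    algebraMap k L (rnFun k A a) = (ψ a).det := by
  rw [rnFun, Matrix.det_eq_sign_charpoly_coeff, ← redPoly_map k A hn ψ a, coeff_map, map_mul,
    map_pow, map_neg, map_one, Fintype.card_fin, deg_eq k A hn]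

theorem rtFun_map {n : ℕ} (hn : finrank k A = n ^ 2) {L : Type w} [Field L] [Algebra k L]
    (ψ : A →ₐ[k] Matrix (Fin n) (Fin n) L) (a : A) :
    algebraMap k L (rtFun k A a) = (ψ a).trace := by
  obtain rfl := deg_eq k A hn
  rw [rtFun, Matrix.trace_eq_neg_charpoly_coeff, ← redPoly_map k A hn ψ a, coeff_map, map_neg,
    Fintype.card_fin]

/-- the reduced norm -/
noncomputable def rn : A →* k where
  toFun := rnFun k A
  map_one' := (algebraMap k (AlgebraicClosure k)).injective (by
    rw [rnFun_map k A (finrank_eq_deg_sq k A) ((closureSplitting k A).toAlgHom.restrictScalars k |>.comp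
      Algebra.TensorProduct.includeRight), map_one, Matrix.det_one, map_one])
  map_mul' a b := (algebraMap k (AlgebraicClosure k)).injective (by
    simp only [map_mul, Matrix.det_mul, rnFun_map k A (finrank_eq_deg_sq k A)
      ((closureSplitting k A).toAlgHom.restrictScalars k |>.comp Algebra.TensorProduct.includeRight)])

theorem rn_map {n : ℕ} (hn : finrank k A = n ^ 2) {L : Type w} [Field L] [Algebra k L]
    (ψ : A →ₐ[k] Matrix (Fin n) (Fin n) L) (a : A) :
    algebraMap k L (rn k A a) = (ψ a).det :=
  rnFun_map k A hn ψ a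

theorem splitting_dim {L : Type w} [Field L] [Algebra k L] {n : ℕ}
    (φ : L ⊗[k] A ≃ₐ[L] Matrix (Fin n) (Fin n) L) : finrank k A = n ^ 2 := by
  rw [← Module.finrank_baseChange (R := L), φ.toLinearEquiv.finrank_eq, finrank_matrix]
  simp [sq]

variable {k A}

theorem eq_rn_of_isRedNorm {N : A →* k} (hN : CSAGal.IsRedNorm k A N) : N = rn k A := by
  obtain ⟨L, _, _, _, n, φ, hφ⟩ := hN
  ext a
  apply (algebraMap k L).injective
  rw [hφ, rn_map k A (splitting_dim k A φ)
    ((φ.toAlgHom.restrictScalars k).comp Algebra.TensorProduct.includeRight)]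
  rfl

theorem eq_rt_of_isRedTrace {T : A →+ k} (hT : CSAGal.IsRedTrace k A T) (a : A) :
    T a = rtFun k A a := by
  obtain ⟨L, _, _, _, n, φ, hφ⟩ := hT
  apply (algebraMap k L).injective
  rw [hφ, rtFun_map k A (splitting_dim k A φ)
    ((φ.toAlgHom.restrictScalars k).comp Algebra.TensorProduct.includeRight)]
  rfl

theorem rn_eq_zero_iff {a : A} : rn k A a = 0 ↔ ¬ IsUnit a := by
  constructor
  · exact fun h hu => (hu.map (rn k A)).ne_zero h
  · intro hu
    by_contra h
    apply hu
    let ψ := ((closureSplitting k A).toAlgHom.restrictScalars k).comp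
      (Algebra.TensorProduct.includeRight : A →ₐ[k] AlgebraicClosure k ⊗[k] A)
    have hinj : Function.Injective ψ := RingHom.injective ψ.toRingHom
    have hu' : IsUnit (ψ a) := by
      rw [Matrix.isUnit_iff_isUnit_det, ← rn_map k A (finrank_eq_deg_sq k A) ψ, isUnit_iff_ne_zero]
      simpa using h
    have hl : Function.Injective (LinearMap.mulLeft k a) := fun x y hxy => hinj (hu'.mul_left_cancel
      (by rw [← map_mul, ← map_mul]; exact congrArg ψ hxy))
    obtain ⟨y, hy⟩ := (LinearMap.injective_iff_surjective.1 hl) 1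
    have hy' : a * y = 1 := hy
    refine ⟨⟨a, y, hy', hl ?_⟩, rfl⟩
    show a * (y * a) = a * 1
    rw [← mul_assoc, hy', one_mul, mul_one]

variable (k A)

theorem leftMulMatrix_charpoly (n : ℕ) (hn : finrank k A = n ^ 2) (a : A) :
    Algebra.norm k a = rn k A a ^ n ∧ LinearMap.trace k A (LinearMap.mulLeft k a) = n • rtFun k A a := by
  classical
  let L := AlgebraicClosure k
  obtain ⟨φ⟩ := exists_splitting_closure k A n hn
  let ψ := (φ.toAlgHom.restrictScalars k).comp
    (Algebra.TensorProduct.includeRight : A →ₐ[k] L ⊗[k] A)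
  let b := Module.finBasis k A
  let B := (Algebra.TensorProduct.basis L b).map φ.toLinearEquiv
  let S := Matrix.stdBasis L (Fin n) (Fin n)
  have h1 : (Algebra.leftMulMatrix b a).map (algebraMap k L) =
      LinearMap.toMatrix B B (LinearMap.mulLeft L (ψ a)) := by
    ext i j
    have : φ.symm (ψ a * φ (1 ⊗ₜ[k] b j)) = 1 ⊗ₜ[k] (a * b j) := by
      rw [AlgEquiv.symm_apply_eq]
      show φ (1 ⊗ₜ a) * φ (1 ⊗ₜ b j) = _
      rw [← map_mul, Algebra.TensorProduct.tmul_mul_tmul, one_mul]
    simp [B, LinearMap.toMatrix_apply, Algebra.leftMulMatrix_eq_repr_mul, this,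
      Algebra.smul_def]
  have h2 : LinearMap.toMatrix S S (LinearMap.mulLeft L (ψ a)) =
      Matrix.kroneckerMap (· * ·) (ψ a) (1 : Matrix (Fin n) (Fin n) L) := by
    ext ⟨i, j⟩ ⟨p, q⟩
    rw [LinearMap.toMatrix_apply]
    simp only [S, Matrix.stdBasis_eq_single, LinearMap.mulLeft_apply, Matrix.kroneckerMap_apply]
    show ((ψ a * Matrix.single p q (1 : L) : Matrix (Fin n) (Fin n) L)) i j = _
    rcases eq_or_ne j q with rfl | h
    · simp
    · simp [h, Matrix.mul_single_apply_of_ne]
  constructor
  · apply (algebraMap k L).injective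
    rw [map_pow, rn_map k A hn ψ, Algebra.norm_eq_matrix_det b, RingHom.map_det,
      RingHom.mapMatrix_apply, h1, LinearMap.det_toMatrix, ← LinearMap.det_toMatrix S, h2,
      Matrix.det_kronecker, Matrix.det_one, one_pow, mul_one, Fintype.card_fin]
  · apply (algebraMap k L).injective
    rw [map_nsmul, rtFun_map k A hn ψ, LinearMap.trace_eq_matrix_trace k b,
      show LinearMap.toMatrix b b (LinearMap.mulLeft k a) = Algebra.leftMulMatrix b a from rfl,
      ]
    rw [show algebraMap k L (Matrix.trace (Algebra.leftMulMatrix b a)) =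
      Matrix.trace ((Algebra.leftMulMatrix b a).map (algebraMap k L)) from
        AddMonoidHom.map_trace (algebraMap k L).toAddMonoidHom _]
    rw [h1, ← LinearMap.trace_eq_matrix_trace L B, LinearMap.trace_eq_matrix_trace L S, h2,
      Matrix.trace_kronecker, Matrix.trace_one, Fintype.card_fin, nsmul_eq_mul, mul_comm]

theorem redPoly_subfield {K : Type w} [Field K] [Algebra k K] {n : ℕ} (hn : finrank k A = n ^ 2)
    (hK : finrank k K = n) [FiniteDimensional k K] (ι : K →ₐ[k] A) (x : K) :
    redPoly k A (ι x) = (Algebra.leftMulMatrix (Module.finBasis k K) x).charpoly := by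
  classical
  have hint : IsIntegral k x := IsIntegral.of_finite k x
  let b := Module.finBasis k K
  obtain ⟨j, hj⟩ := eq_pow_of_aeval_eq_zero
    (closureSplitting k A (1 ⊗ₜ ι x)) (minpoly.irreducible hint) (minpoly.monic hint) (by
      show aeval ((((closureSplitting k A).toAlgHom.restrictScalars k).comp
        (Algebra.TensorProduct.includeRight.comp ι)) x) (minpoly k x) = 0
      rw [aeval_algHom_apply, minpoly.aeval, map_zero])
    (redPoly_monic k A (ι x)) (redPoly_closure k A _)
  obtain ⟨j', hj'⟩ := eq_pow_of_aeval_eq_zero (L := k) (p := (Algebra.leftMulMatrix b x).charpoly)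
    (Algebra.leftMulMatrix b x)
    (minpoly.irreducible hint) (minpoly.monic hint) (by
      rw [aeval_algHom_apply, minpoly.aeval, map_zero])
    (Matrix.charpoly_monic _) (by simp)
  rw [hj, hj']
  have h1 := congrArg natDegree hj
  rw [natDegree_redPoly, natDegree_pow, deg_eq k A hn] at h1
  have h2 := congrArg natDegree hj'
  rw [Matrix.charpoly_natDegree_eq_dim, Fintype.card_fin, natDegree_pow, hK] at h2
  rw [Nat.eq_of_mul_eq_mul_right (minpoly.natDegree_pos hint) (h1.symm.trans h2)]

end RedPoly

end Groth.Agent.CSA
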