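import Groth.Agent.CSA.Fibres
import Groth.Agent.CSA.RedCharpoly
import Groth.Agent.CSA.Splitting
import Groth.Agent.Hensel.Henselization
import Groth.Agent.Hensel.Main

/-!
# Azumaya algebras over henselian local rings and a faithfully flat splitting over local rings
-/

set_option autoImplicit false

open TensorProduct Polynomial IsLocalRing

namespace Groth.Agent.CSA

universe u v w

/-- central simple algebras over a separably closed field are matrix algebras -/
theorem exists_matrix_of_isSepClosed (K : Type u) [Field K] [IsSepClosed K] (B : Type v) [Ring B]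
    [Algebra K B] [Algebra.IsCentral K B] [IsSimpleRing B] [FiniteDimensional K B] :
    ∃ n : ℕ, n ≠ 0 ∧ Nonempty (B ≃ₐ[K] Matrix (Fin n) (Fin n) K) := by
  obtain ⟨L, _, _, hfin, hsep, hL, -⟩ := exists_separable_splitting K (cl K B)
  have hsurj : Function.Surjective (algebraMap K L) := IsSepClosed.algebraMap_surjective K L
  have h1 : ind K (cl K B) = 1 := by
    rw [← hL]
    exact le_antisymm
      (by
        have := LinearMap.finrank_range_le (Algebra.linearMap K L)
        rwa [LinearMap.range_eq_top.2 hsurj, finrank_top, Module.finrank_self] at this)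
      Module.finrank_pos
  obtain ⟨n, D, _, _, _, _, hn, -, hD, -, ⟨e⟩⟩ := exists_matrix_division K B
  rw [h1, one_pow] at hD
  have hb : Function.Bijective (Algebra.ofId K D) :=
    ⟨(algebraMap K D).injective, (LinearMap.injective_iff_surjective_of_finrank_eq_finrank
      (f := Algebra.linearMap K D) (by rw [Module.finrank_self, hD])).1 (algebraMap K D).injective⟩
  exact ⟨n, hn, ⟨e.trans (AlgEquiv.ofBijective (Algebra.ofId K D) hb).symm.mapMatrix⟩⟩

section Henselian

variable {S : Type u} [CommRing S] [HenselianLocalRing S] (A : Type v) [Ring A] [Algebra S A]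

/-- idempotents of the closed fibre lift -/
theorem exists_idem_lift_fibre [Module.Finite S A] (a : A)
    (ha : a * a - a ∈ maximalIdeal S • (⊤ : Submodule S A)) :
    ∃ e : A, e * e = e ∧ e - a ∈ maximalIdeal S • (⊤ : Submodule S A) := by
  set m := maximalIdeal S with hm
  have hsm : ∀ x y : A, y ∈ m • (⊤ : Submodule S A) → x * y ∈ m • (⊤ : Submodule S A) := by
    intro x y hy
    refine Submodule.smul_induction_on hy (fun r hr z _ => ?_) (fun p q hp hq => ?_)
    · rw [mul_smul_comm]; exact Submodule.smul_mem_smul hr Submodule.mem_top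
    · rw [mul_add]; exact add_mem hp hq
  have hsm' : ∀ x y : A, y ∈ m • (⊤ : Submodule S A) → y * x ∈ m • (⊤ : Submodule S A) := by
    intro x y hy
    refine Submodule.smul_induction_on hy (fun r hr z _ => ?_) (fun p q hp hq => ?_)
    · rw [smul_mul_assoc]; exact Submodule.smul_mem_smul hr Submodule.mem_top
    · rw [add_mul]; exact add_mem hp hq
  obtain ⟨P, hPm, -, hPc, hP0⟩ :=
    LinearMap.exists_monic_and_natDegree_eq_and_coeff_mem_pow_and_aeval_eq_zero S
      (LinearMap.mulLeft S (a * a - a)) m (by
        rintro _ ⟨x, rfl⟩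
        exact hsm' x _ ha)
  have hPa : aeval (a * a - a) P = 0 := by
    have h : Algebra.lmul S A (aeval (a * a - a) P) = 0 := by
      rw [← aeval_algHom_apply]; exact hP0
    simpa using LinearMap.congr_fun h 1
  let n := P.natDegree + 1
  let H : S[X] := (P * X).comp (X ^ 2 - X)
  have hHm : H.Monic := by
    refine (hPm.mul monic_X).comp ?_ ?_
    · exact (monic_X_pow 2).sub_of_left (by rw [degree_X, degree_X_pow]; norm_num)
    · rw [natDegree_sub_eq_left_of_natDegree_lt (by rw [natDegree_X, natDegree_X_pow]; norm_num),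
        natDegree_X_pow]
      norm_num
  have hHa : aeval a H = 0 := by
    rw [aeval_comp]
    simp [pow_two, hPa]
  haveI : Module.Finite S (AdjoinRoot H) := hHm.finite_adjoinRoot
  let J : Ideal (AdjoinRoot H) := m.map (algebraMap S (AdjoinRoot H))
  let g : AdjoinRoot H →ₐ[S] A := Ideal.Quotient.liftₐ (Ideal.span {H}) (aeval a) (fun p hp => by
    obtain ⟨q, rfl⟩ := Ideal.mem_span_singleton'.1 hp
    rw [map_mul, hHa, mul_zero])
  have hg : ∀ z ∈ J, g z ∈ m • (⊤ : Submodule S A) := by
    intro z hz
    have hz' : z ∈ m • (⊤ : Submodule S (AdjoinRoot H)) := by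
      rw [Ideal.smul_top_eq_map]; exact hz
    refine Submodule.smul_induction_on hz' (fun r hr w _ => ?_) (fun p q hp hq => ?_)
    · rw [map_smul]; exact Submodule.smul_mem_smul hr Submodule.mem_top
    · rw [map_add]; exact add_mem hp hq
  let t := AdjoinRoot.root H
  have hJ : (t * t - t) ^ n ∈ J := by
    have h0 : aeval (t * t - t) (P * X) = 0 := by
      have := AdjoinRoot.aeval_eq (f := H) H
      rw [AdjoinRoot.mk_self, aeval_comp] at this
      simpa [pow_two, t] using this
    have hdeg : (P * X).natDegree = n := hPm.natDegree_mul monic_X |>.trans (by rw [natDegree_X])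
    rw [aeval_eq_sum_range, hdeg, Finset.sum_range_succ, ← hdeg, (hPm.mul monic_X).coeff_natDegree,
      one_smul, hdeg] at h0
    rw [eq_neg_of_add_eq_zero_right h0]
    refine J.neg_mem (J.sum_mem fun i hi => ?_)
    rw [Algebra.smul_def]
    refine J.mul_mem_right _ (Ideal.mem_map_of_mem _ ?_)
    rcases Nat.eq_zero_or_pos i with rfl | hi0
    · simp
    · obtain ⟨j, rfl⟩ := Nat.exists_eq_add_of_le' hi0
      rw [Finset.mem_range] at hi
      rw [coeff_mul_X]
      exact Ideal.pow_le_self (by omega) (hPc j)
  let u : AdjoinRoot H := (1 - t ^ n) ^ n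
  obtain ⟨c, hc⟩ : (t * (1 - t)) ^ n ∣ (1 - u) * u := by
    have h1 : t ^ n ∣ 1 - u := by
      have := sub_dvd_pow_sub_pow (1 : AdjoinRoot H) (1 - t ^ n) n
      rwa [one_pow, sub_sub_cancel] at this
    have h2 : (1 - t) ^ n ∣ u := by
      refine pow_dvd_pow_of_dvd ?_ n
      have := sub_dvd_pow_sub_pow (1 : AdjoinRoot H) t n
      rwa [one_pow] at this
    rw [mul_pow]
    exact mul_dvd_mul h1 h2
  have hb : (1 - u) * (1 - u) - (1 - u) ∈ J := by
    have h : (1 - u) * (1 - u) - (1 - u) = -((-1) ^ n * (t * t - t) ^ n * c) := by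
      rw [← mul_pow, show -1 * (t * t - t) = t * (1 - t) from by ring, ← hc]
      ring
    rw [h]
    exact J.neg_mem (J.mul_mem_right _ (J.mul_mem_left _ hJ))
  obtain ⟨e, he, heb⟩ := Hensel.exists_idem_lift_of_finite (I := m)
    Hensel.gabberRoot_of_henselianRing (1 - u) hb
  refine ⟨g e, by rw [← map_mul, he.eq], ?_⟩
  have hq : ∀ z w : A, z - w ∈ m • (⊤ : Submodule S A) → ∀ l, z ^ l - w ^ l ∈ m • (⊤ : Submodule S A) := by
    intro z w h l
    induction l with
    | zero => simp
    | succ l ih =>
      have : z ^ (l + 1) - w ^ (l + 1) = (z ^ l - w ^ l) * z + w ^ l * (z - w) := by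
        rw [pow_succ, pow_succ]; noncomm_ring
      rw [this]
      exact add_mem (hsm' _ _ ih) (hsm _ _ h)
  have hpow : ∀ (z : A), z * z - z ∈ m • (⊤ : Submodule S A) →
      ∀ l, z ^ (l + 1) - z ∈ m • (⊤ : Submodule S A) := by
    intro z hz l
    induction l with
    | zero => simp
    | succ l ih =>
      have : z ^ (l + 1 + 1) - z = (z ^ (l + 1) - z) * z + (z * z - z) := by
        rw [pow_succ]; noncomm_ring
      rw [this]
      exact add_mem (hsm' _ _ ih) hz
  have hgu : g (1 - u) - a ∈ m • (⊤ : Submodule S A) := by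
    have e1 : g (1 - u) = 1 - (1 - a ^ n) ^ n := by
      have hgt : g t = a := aeval_X a
      simp only [u, map_sub, map_pow, map_one, hgt]
    have e2 : (1 - a ^ n) - (1 - a) ∈ m • (⊤ : Submodule S A) := by
      rw [show (1 - a ^ n) - (1 - a) = -(a ^ n - a) from by noncomm_ring]
      exact neg_mem (hpow a ha _)
    have e3 : (1 - a) * (1 - a) - (1 - a) ∈ m • (⊤ : Submodule S A) := by
      rw [show (1 - a) * (1 - a) - (1 - a) = a * a - a from by noncomm_ring]; exact ha
    rw [e1, show 1 - (1 - a ^ n) ^ n - a =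
      -((1 - a ^ n) ^ n - (1 - a) ^ n + ((1 - a) ^ n - (1 - a))) from by noncomm_ring]
    exact neg_mem (add_mem (hq _ _ e2 n) (hpow _ e3 _))
  rw [show g e - a = g (e - (1 - u)) + (g (1 - u) - a) from by rw [map_sub]; abel]
  exact add_mem (hg _ heb) hgu

theorem exists_matrix_of_residue_split [IsAzumaya S A] {r : ℕ} [NeZero r]
    (φ : (ResidueField S ⊗[S] A) ≃ₐ[ResidueField S] Matrix (Fin r) (Fin r) (ResidueField S)) :
    Nonempty (A ≃ₐ[S] Matrix (Fin r) (Fin r) S) := by
  classical
  set m := maximalIdeal S
  let π : A →ₗ[S] Matrix (Fin r) (Fin r) (ResidueField S) :=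
    (φ.toLinearMap.restrictScalars S).comp (TensorProduct.mk S (ResidueField S) A 1)
  have πmul : ∀ x y, π (x * y) = π x * π y := fun x y => by
    show φ (1 ⊗ₜ (x * y)) = φ (1 ⊗ₜ x) * φ (1 ⊗ₜ y)
    rw [← map_mul, Algebra.TensorProduct.tmul_mul_tmul, one_mul]
  have πone : π 1 = 1 := by
    show φ (1 ⊗ₜ 1) = 1
    rw [← Algebra.TensorProduct.one_def, map_one]
  have πsurj : Function.Surjective π := by
    intro M
    obtain ⟨x, hx⟩ := TensorProduct.mk_surjective S A (ResidueField S) residue_surjective (φ.symm M)
    exact ⟨x, by show φ _ = M; rw [hx, φ.apply_symm_apply]⟩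
  have πzero : ∀ x, π x = 0 ↔ x ∈ m • (⊤ : Submodule S A) := fun x => by
    rw [show π x = φ (1 ⊗ₜ x) from rfl, map_eq_zero_iff φ φ.injective]
    refine (TensorProduct.quotTensorEquivQuotSMul A m).map_eq_zero_iff.symm.trans ?_
    show (TensorProduct.quotTensorEquivQuotSMul A m) (Ideal.Quotient.mk m 1 ⊗ₜ x) = 0 ↔ _
    rw [TensorProduct.quotTensorEquivQuotSMul_mk_tmul, one_smul, Submodule.Quotient.mk_eq_zero]
  let o : Fin r := 0
  let K := ResidueField S
  obtain ⟨a, ha⟩ := πsurj (Matrix.single o o 1)
  obtain ⟨e, he, hea⟩ := exists_idem_lift_fibre A a ((πzero _).1 (by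
    rw [map_sub, πmul, ha, Matrix.single_mul_single_same, mul_one, sub_self]))
  have hπe : π e = Matrix.single o o 1 := by
    rw [← ha, ← sub_eq_zero, ← map_sub, πzero]; exact hea
  let P : A →ₗ[S] A := LinearMap.mulLeftRight S (e, e)
  have hP : ∀ x, P x = e * x * e := fun x => rfl
  have hcorner : ∀ x, ∃ c : S, e * x * e = c • e := by
    suffices LinearMap.range P ≤ S ∙ e by
      intro x
      obtain ⟨c, hc⟩ := Submodule.mem_span_singleton.1 (this ⟨x, hP x⟩)
      exact ⟨c, hc.symm⟩
    refine Submodule.le_of_le_smul_of_le_jacobson_bot ?fg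
      (maximalIdeal_le_jacobson _) ?_
    case fg => exact (Module.Finite.iff_fg.1 inferInstance)
    rintro _ ⟨x, rfl⟩
    obtain ⟨c, hc⟩ := residue_surjective (π x o o)
    have h1 : π (P x) = π (c • e) := by
      rw [hP, πmul, πmul, map_smul, hπe, ← algebraMap_smul K c]
      rw [Matrix.single_mul_mul_single, Matrix.smul_single, one_mul, mul_one,
        show algebraMap S K c = π x o o from hc, smul_eq_mul, mul_one]
    have h2 : P x - c • e ∈ m • (⊤ : Submodule S A) := (πzero _).1 (by rw [map_sub, h1, sub_self])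
    have h3 : P (P x - c • e) ∈ m • LinearMap.range P := by
      rw [← Submodule.map_top, ← Submodule.map_smul'']
      exact Submodule.mem_map_of_mem h2
    have h4 : P (P x - c • e) = P x - c • e := by
      simp only [hP, mul_sub, sub_mul, mul_smul_comm, smul_mul_assoc, he, mul_assoc]
      simp only [← mul_assoc, he]
    rw [h4] at h3
    refine Submodule.mem_sup.2 ⟨c • e, Submodule.smul_mem _ _ (Submodule.mem_span_singleton_self e),
      _, h3, by abel⟩
  choose u₀ hu₀ using fun i : Fin r => πsurj (Matrix.single i o 1)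
  choose v₀ hv₀ using fun i : Fin r => πsurj (Matrix.single o i 1)
  let U : Fin r → A := fun i => u₀ i * e
  let V : Fin r → A := fun i => e * v₀ i
  have hU : ∀ i, π (U i) = Matrix.single i o 1 := fun i => by
    rw [πmul, hu₀, hπe, Matrix.single_mul_single_same, mul_one]
  have hV : ∀ i, π (V i) = Matrix.single o i 1 := fun i => by
    rw [πmul, hv₀, hπe, Matrix.single_mul_single_same, mul_one]
  have hUe : ∀ i, U i * e = U i := fun i => by show u₀ i * e * e = _; rw [mul_assoc, he]
  choose M hM using fun i j => hcorner (v₀ i * u₀ j)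
  let MM : Matrix (Fin r) (Fin r) S := M
  have hVU : ∀ i j, V i * U j = MM i j • e := fun i j => by
    show e * v₀ i * (u₀ j * e) = M i j • e
    rw [← hM]; simp only [mul_assoc]
  have hMres : MM.map (residue S) = 1 := by
    ext i j
    have h := congrArg π (hVU i j)
    rw [πmul, hV, hU, map_smul, hπe, ← algebraMap_smul K (MM i j)] at h
    have h' := congrFun (congrFun h o) o
    rw [Matrix.map_apply, Matrix.one_apply]
    show algebraMap S K (MM i j) = _
    by_cases hij : i = j
    · subst hij
      rw [Matrix.single_mul_single_same] at h'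
      simpa using h'.symm
    · rw [Matrix.single_mul_single_of_ne _ _ _ _ hij] at h'
      simpa [hij] using h'.symm
  have hdet : IsUnit MM.det := by
    rw [← residue_ne_zero_iff_isUnit, RingHom.map_det, RingHom.mapMatrix_apply, hMres, Matrix.det_one]
    exact one_ne_zero
  let V' : Fin r → A := fun i => ∑ l, MM⁻¹ i l • V l
  have hV'U : ∀ i j, V' i * U j = (1 : Matrix (Fin r) (Fin r) S) i j • e := fun i j => by
    simp only [V', Finset.sum_mul, smul_mul_assoc, hVU, smul_smul, ← Finset.sum_smul]
    rw [← Matrix.mul_apply, Matrix.nonsing_inv_mul _ hdet]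
  have hV'res : ∀ i, π (V' i) = Matrix.single o i 1 := fun i => by
    have hinv : MM⁻¹.map (residue S) = 1 := by
      have := congrArg (fun X => X.map (residue S)) (Matrix.nonsing_inv_mul _ hdet)
      rwa [Matrix.map_mul, hMres, mul_one, Matrix.map_one _ (map_zero _) (map_one _)] at this
    rw [map_sum, Finset.sum_eq_single i (fun l _ hl => ?_) (fun h => absurd (Finset.mem_univ i) h)]
    · rw [map_smul, ← algebraMap_smul K (MM⁻¹ i i)]
      have : residue S (MM⁻¹ i i) = 1 := by simpa using congrFun (congrFun hinv i) i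
      rw [show algebraMap S K (MM⁻¹ i i) = 1 from this, one_smul, hV]
    · rw [map_smul, ← algebraMap_smul K (MM⁻¹ i l)]
      have : residue S (MM⁻¹ i l) = 0 := by
        simpa [Ne.symm hl] using congrFun (congrFun hinv i) l
      rw [show algebraMap S K (MM⁻¹ i l) = 0 from this, zero_smul]
  let f : Fin r → Fin r → A := fun i j => U i * V' j
  have hf : ∀ i j l p, f i j * f l p = if j = l then f i p else 0 := fun i j l p => by
    show U i * V' j * (U l * V' p) = _
    rw [mul_assoc, ← mul_assoc (V' j), hV'U, ← mul_assoc, mul_smul_comm, hUe, smul_mul_assoc,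
      Matrix.one_apply]
    split_ifs with h
    · rw [one_smul]
    · rw [zero_smul]
  let F : Matrix (Fin r) (Fin r) S →ₗ[S] A := (Matrix.stdBasis S (Fin r) (Fin r)).constr S fun p => f p.1 p.2
  have hF : ∀ i j, F (Matrix.single i j 1) = f i j := fun i j => by
    rw [← Matrix.stdBasis_eq_single, Module.Basis.constr_basis]
  have hFmul : ∀ X Y, F (X * Y) = F X * F Y := by
    refine (LinearMap.map_mul_iff F).2 ?_ |> fun h X Y => h X Y
    refine (Matrix.stdBasis S (Fin r) (Fin r)).ext fun ⟨i, j⟩ =>
      (Matrix.stdBasis S (Fin r) (Fin r)).ext fun ⟨l, p⟩ => ?_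
    simp only [LinearMap.compr₂_apply, LinearMap.mul_apply', LinearMap.compl₂_apply,
      LinearMap.coe_comp, Function.comp_apply, Matrix.stdBasis_eq_single, hF, hf]
    split_ifs with h
    · subst h; rw [Matrix.single_mul_single_same, mul_one, hF]
    · rw [Matrix.single_mul_single_of_ne _ _ _ _ h, map_zero]
  have hFsurj : Function.Surjective F := by
    rw [← LinearMap.range_eq_top, eq_top_iff]
    refine Submodule.le_of_le_smul_of_le_jacobson_bot Module.Finite.fg_top (maximalIdeal_le_jacobson _) ?_
    intro x _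
    choose c hc using fun i j => residue_surjective (π x i j)
    have h2 : π (F (Matrix.of c)) = π x := by
      rw [Matrix.matrix_eq_sum_single (Matrix.of c)]
      simp only [map_sum]
      conv_rhs => rw [Matrix.matrix_eq_sum_single (π x)]
      refine Finset.sum_congr rfl fun i _ => Finset.sum_congr rfl fun j _ => ?_
      rw [show Matrix.single i j (Matrix.of c i j) = c i j • Matrix.single i j (1 : S) from by
        rw [Matrix.smul_single, smul_eq_mul, mul_one]; rfl, map_smul, map_smul, hF, ← algebraMap_smul K (c i j),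
        show algebraMap S K (c i j) = π x i j from hc i j, πmul, hU, hV'res,
        Matrix.single_mul_single_same, mul_one, Matrix.smul_single, smul_eq_mul, mul_one]
    refine Submodule.mem_sup.2 ⟨_, LinearMap.mem_range_self F (Matrix.of c), x - F (Matrix.of c),
      (πzero _).1 (by rw [map_sub, h2, sub_self]), by abel⟩
  haveI : Module.Free S A := Module.free_of_flat_of_isLocalRing
  have hrk : Module.finrank S A = Module.finrank S (Matrix (Fin r) (Fin r) S) := by
    rw [← Module.finrank_baseChange (R := K), φ.toLinearEquiv.finrank_eq]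
    simp [Module.finrank_matrix]
  have hFinj : Function.Injective F := by
    have E := LinearEquiv.ofFinrankEq A (Matrix (Fin r) (Fin r) S) hrk
    have := OrzechProperty.injective_of_surjective_endomorphism (E.toLinearMap ∘ₗ F)
      (E.surjective.comp hFsurj)
    exact fun x y h => this (congrArg E h)
  have hF1 : F 1 = 1 := by
    obtain ⟨z, hz⟩ := hFsurj 1
    have h := hFmul 1 z
    rw [one_mul, hz, mul_one] at h
    exact h.symm
  exact ⟨(AlgEquiv.ofLinearEquiv (LinearEquiv.ofBijective F ⟨hFinj, hFsurj⟩) hF1 hFmul).symm⟩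

end Henselian

/-- An Azumaya algebra of rank `r²` over a local ring is split by a faithfully flat extension. -/
theorem exists_faithfullyFlat_splitting (R : Type u) [CommRing R] [IsLocalRing R] (A : Type u) [Ring A]
    [Algebra R A] [IsAzumaya R A] (r : ℕ) (hA : Module.finrank R A = r ^ 2) :
    ∃ (S : Type u) (_ : CommRing S) (_ : Algebra R S), Module.FaithfullyFlat R S ∧
      Nonempty ((S ⊗[R] A) ≃ₐ[S] Matrix (Fin r) (Fin r) S) := by
  let K := SeparableClosure (ResidueField R)
  let : Algebra R K := ((algebraMap (ResidueField R) K).comp (residue R)).toAlgebra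
  have : IsScalarTower R (ResidueField R) K := .of_algebraMap_eq fun r => rfl
  let S := Hensel.Hens R K
  haveI : IsLocalHom (algebraMap R S) := Hensel.isLocalHom_algebraMap_hens
  haveI hstrict : Hensel.IsStrictHenselization R S := Hensel.isStrictHenselization_hens
  haveI : HenselianLocalRing S := hstrict.henselian
  haveI : IsSepClosed (ResidueField S) :=
    have := hstrict.isSepClosure
    IsSepClosure.sep_closed (ResidueField R)
  haveI : Module.FaithfullyFlat R S := Module.FaithfullyFlat.of_flat_of_isLocalHom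
  haveI := isAzumaya_baseChange R S A
  let kS := ResidueField S
  haveI := isAzumaya_baseChange S kS (S ⊗[R] A)
  haveI := isCentral kS (kS ⊗[S] (S ⊗[R] A))
  haveI : IsSimpleRing (kS ⊗[S] (S ⊗[R] A)) := isSimpleRing_tensor' S (S ⊗[R] A) kS
  obtain ⟨n, hn, ⟨φ⟩⟩ := exists_matrix_of_isSepClosed kS (kS ⊗[S] (S ⊗[R] A))
  haveI : NeZero n := ⟨hn⟩
  obtain ⟨e⟩ := exists_matrix_of_residue_split (S ⊗[R] A) φ
  haveI : Module.Free R A := Module.free_of_flat_of_isLocalRing
  have hnr : n = r := Nat.pow_left_injective two_ne_zero (by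
    show n ^ 2 = r ^ 2
    rw [← hA, ← Module.finrank_baseChange (R := S), e.toLinearEquiv.finrank_eq, Module.finrank_matrix]
    simp [sq])
  subst hnr
  exact ⟨S, inferInstance, inferInstance, inferInstance, ⟨e⟩⟩

end Groth.Agent.CSA
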