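import Groth.Agent.CSA.GlobalSplit
import Groth.Agent.CSA.PiTensor

/-!
# The `n`-th tensor power of an Azumaya algebra of degree `n` is split
-/

set_option autoImplicit false

open TensorProduct Matrix

namespace Groth.Agent.CSA

universe u v w

section Kron

variable {R : Type u} [CommRing R] {A : Type v} [Ring A] [Algebra R A] {S : Type w} [CommRing S]
  [Algebra R S] {n : ℕ} (ψ : A →ₐ[R] Matrix (Fin n) (Fin n) S) (r : ℕ)

/-- Kronecker power as a multilinear map, over rings -/
noncomputable def kronMultiR :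
    MultilinearMap R (fun _ : Fin r => A) (Matrix (Fin r → Fin n) (Fin r → Fin n) S) :=
  (Matrix.ofLinearEquiv R).toLinearMap.compMultilinearMap
    (MultilinearMap.pi fun s => MultilinearMap.pi fun t =>
      (MultilinearMap.mkPiAlgebra R (Fin r) S).compLinearMap fun c =>
        (Matrix.entryLinearMap R S (s c) (t c)).comp ψ.toLinearMap)

theorem kronMultiR_apply (x : Fin r → A) (s t : Fin r → Fin n) :
    kronMultiR ψ r x s t = ∏ c, ψ (x c) (s c) (t c) := by
  simp [kronMultiR]

/-- representation of the tensor power, over rings -/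
noncomputable def kronR :
    (⨂[R] _ : Fin r, A) →ₐ[R] Matrix (Fin r → Fin n) (Fin r → Fin n) S :=
  PiTensorProduct.liftAlgHom (kronMultiR ψ r)
    (by
      ext s t
      simp only [kronMultiR_apply, Pi.one_apply, map_one, Matrix.one_apply, Fintype.prod_boole,
        funext_iff]
      congr)
    (fun x y => by
      ext s t
      simp only [kronMultiR_apply, Pi.mul_apply, map_mul, Matrix.mul_apply, Fintype.prod_sum,
        Finset.prod_mul_distrib])

theorem kronR_tprod (x : Fin r → A) :
    kronR ψ r (PiTensorProduct.tprod R x) =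
      Matrix.of fun s t : Fin r → Fin n => ∏ c, ψ (x c) (s c) (t c) := by
  ext s t
  show PiTensorProduct.lift (kronMultiR ψ r) (PiTensorProduct.tprod R x) s t = _
  rw [PiTensorProduct.lift.tprod, kronMultiR_apply]
  rfl

/-- Kronecker power of one matrix -/
def kronPow (u : Matrix (Fin n) (Fin n) S) : Matrix (Fin r → Fin n) (Fin r → Fin n) S :=
  Matrix.of fun s t => ∏ c, u (s c) (t c)

theorem kronPow_mul (u v : Matrix (Fin n) (Fin n) S) :
    kronPow r (u * v) = kronPow r u * kronPow r v := by
  ext s t
  simp only [kronPow, Matrix.of_apply, Matrix.mul_apply, Fintype.prod_sum, Finset.prod_mul_distrib]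

theorem kronPow_one : kronPow r (1 : Matrix (Fin n) (Fin n) S) = 1 := by
  ext s t
  simp only [kronPow, Matrix.of_apply, Matrix.one_apply, Fintype.prod_boole, funext_iff]
  congr

theorem kronR_conj (ψ₂ : A →ₐ[R] Matrix (Fin n) (Fin n) S) (u : (Matrix (Fin n) (Fin n) S)ˣ)
    (h : ∀ a, ψ₂ a = (u : Matrix (Fin n) (Fin n) S) * ψ a * (u⁻¹ : _ˣ)) (z : ⨂[R] _ : Fin r, A) :
    kronR ψ₂ r z = kronPow r (u : Matrix (Fin n) (Fin n) S) * kronR ψ r z *
      kronPow r ((u⁻¹ : _ˣ) : Matrix (Fin n) (Fin n) S) := by
  induction z using PiTensorProduct.induction_on with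
  | smul_tprod c x =>
    rw [map_smul, map_smul, Matrix.mul_smul, Matrix.smul_mul]
    congr 1
    ext s t
    simp only [kronR_tprod, kronPow, Matrix.of_apply, h, Matrix.mul_apply, Finset.sum_mul,
      Fintype.prod_sum, Finset.prod_mul_distrib]
  | add x y hx hy => simp only [map_add, mul_add, add_mul, hx, hy]

theorem kronR_map {S' : Type*} [CommRing S'] [Algebra R S'] (f : S →ₐ[R] S') (z : ⨂[R] _ : Fin r, A) :
    kronR (f.mapMatrix.comp ψ) r z = (kronR ψ r z).map f := by
  induction z using PiTensorProduct.induction_on with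
  | smul_tprod c x =>
    ext s t
    simp [kronR_tprod, map_prod, map_smul]
  | add x y hx hy =>
    rw [map_add, map_add, hx, hy, Matrix.map_add]
    exact map_add f

end Kron

section Omega

variable (S : Type u) [CommRing S] (n : ℕ)

/-- coordinates of `e₁ ∧ … ∧ eₙ` -/
def omega : (Fin n → Fin n) → S := fun s => ((1 : Matrix (Fin n) (Fin n) S).submatrix s id).det

theorem omega_id : omega S n id = 1 := by simp [omega]

theorem omega_map {S' : Type w} [CommRing S'] (f : S →+* S') (s : Fin n → Fin n) :
    f (omega S n s) = omega S' n s := by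
  rw [omega, RingHom.map_det, RingHom.mapMatrix_apply, ← Matrix.submatrix_map,
    Matrix.map_one f (map_zero f) (map_one f), omega]

theorem kronPow_mulVec_omega (u : Matrix (Fin n) (Fin n) S) :
    kronPow n u *ᵥ omega S n = u.det • omega S n := by
  funext s
  have h1 : omega S n s * u.det = (u.submatrix s id).det := by
    rw [omega, ← Matrix.det_mul]
    congr 1
    ext i j
    simp [Matrix.mul_apply, Matrix.one_apply]
  rw [Pi.smul_apply, smul_eq_mul, mul_comm, h1]
  have h2 : (u.submatrix s id) = fun c => ∑ j, u (s c) j • (fun l => (1 : Matrix (Fin n) (Fin n) S) j l) := by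
    funext c l
    simp [Matrix.one_apply]
  show ∑ t, kronPow n u s t * omega S n t = Matrix.detRowAlternating.toMultilinearMap (u.submatrix s id)
  rw [h2, MultilinearMap.map_sum]
  refine Finset.sum_congr rfl fun t _ => ?_
  rw [MultilinearMap.map_smul_univ, smul_eq_mul]
  rfl

theorem omega_vecMul_kronPow (u : Matrix (Fin n) (Fin n) S) :
    omega S n ᵥ* kronPow n u = u.det • omega S n := by
  have : (kronPow n u)ᵀ = kronPow n uᵀ := rfl
  rw [← Matrix.mulVec_transpose, this, kronPow_mulVec_omega, Matrix.det_transpose]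

/-- the antisymmetriser -/
def asym : Matrix (Fin n → Fin n) (Fin n → Fin n) S := Matrix.vecMulVec (omega S n) (omega S n)

theorem asym_map {S' : Type w} [CommRing S'] (f : S →+* S') : (asym S n).map f = asym S' n := by
  ext s t
  simp [asym, Matrix.vecMulVec_apply, omega_map]

theorem kronPow_asym (u : (Matrix (Fin n) (Fin n) S)ˣ) :
    kronPow n (u : Matrix (Fin n) (Fin n) S) * asym S n *
      kronPow n ((u⁻¹ : _ˣ) : Matrix (Fin n) (Fin n) S) = asym S n := by
  rw [asym, Matrix.mul_vecMulVec, Matrix.vecMulVec_mul, kronPow_mulVec_omega, omega_vecMul_kronPow,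
    Matrix.smul_vecMulVec, Matrix.vecMulVec_smul, smul_smul, ← Matrix.det_mul, Units.mul_inv,
    Matrix.det_one, one_smul]

end Omega

section Pi

theorem isAzumaya_piTensor (R : Type u) [CommRing R] {ι : Type w} [Fintype ι] :
    ∀ (E : ι → Type u) [∀ i, Ring (E i)] [∀ i, Algebra R (E i)] [∀ i, IsAzumaya R (E i)],
      IsAzumaya R (⨂[R] i, E i) ∧ ∀ p : PrimeSpectrum R,
        Module.rankAtStalk (R := R) (⨂[R] i, E i) p = ∏ i, Module.rankAtStalk (R := R) (E i) p := by
  refine Fintype.induction_empty_option (P := fun (α : Type w) _ =>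
    ∀ (E : α → Type u) [∀ i, Ring (E i)] [∀ i, Algebra R (E i)] [∀ i, IsAzumaya R (E i)],
      IsAzumaya R (⨂[R] i, E i) ∧ ∀ p : PrimeSpectrum R,
        Module.rankAtStalk (R := R) (⨂[R] i, E i) p = ∏ i, Module.rankAtStalk (R := R) (E i) p)
    ?_ ?_ ?_ ι
  · intro α β _ e h E _ _ _
    letI := Fintype.ofEquiv β e.symm
    obtain ⟨h1, h2⟩ := h fun a => E (e a)
    let F : (⨂[R] b, E b) ≃ₐ[R] ⨂[R] a, E (e a) := (piReindexAlg R E e.symm).trans
      (AlgEquiv.refl)
    haveI := h1
    refine ⟨IsAzumaya.of_AlgEquiv R _ _ F.symm, fun p => ?_⟩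
    rw [Module.rankAtStalk_eq_of_equiv F.toLinearEquiv, h2 p]
    exact Fintype.prod_equiv e _ _ fun _ => rfl
  · intro E _ _ _
    let F := piEmptyAlg R E
    refine ⟨IsAzumaya.of_AlgEquiv R _ _ F.symm, fun p => ?_⟩
    haveI : Nontrivial R := p.nontrivial
    rw [Module.rankAtStalk_eq_of_equiv F.toLinearEquiv, Module.rankAtStalk_self]
    simp
  · intro α _ h E _ _ _
    obtain ⟨h1, h2⟩ := h fun a => E (some a)
    haveI := h1
    let F := piOptionAlg R E
    haveI := isAzumaya_tensorProduct R (E none) (⨂[R] a, E (some a))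
    refine ⟨IsAzumaya.of_AlgEquiv R _ _ F.symm, fun p => ?_⟩
    rw [Module.rankAtStalk_eq_of_equiv F.toLinearEquiv, Module.rankAtStalk_tensorProduct, Pi.mul_apply,
      h2 p, Fintype.prod_option]

end Pi

section Main

variable {R : Type u} [CommRing R] {A : Type u} [Ring A] [Algebra R A] [IsAzumaya R A] {n : ℕ}

/-- combination of Kronecker images -/
noncomputable def kronComb {S : Type w} [CommRing S] [Algebra R S]
    (ψ : A →ₐ[R] Matrix (Fin n) (Fin n) S) {m : ℕ} (b : Fin m → ⨂[R] _ : Fin n, A)
    (c : Fin m → S) : Matrix (Fin n → Fin n) (Fin n → Fin n) S :=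
  ∑ i, c i • kronR ψ n (b i)

theorem kronComb_map {S : Type w} [CommRing S] [Algebra R S] {S' : Type*} [CommRing S'] [Algebra R S']
    (f : S →ₐ[R] S') (ψ : A →ₐ[R] Matrix (Fin n) (Fin n) S) {m : ℕ}
    (b : Fin m → ⨂[R] _ : Fin n, A) (c : Fin m → S) :
    (kronComb ψ b c).map f = kronComb (f.mapMatrix.comp ψ) b (fun i => f (c i)) := by
  ext s t
  simp [kronComb, kronR_map, Matrix.sum_apply, map_sum]

theorem kronComb_eq_asym_of_splittings {S : Type u} [CommRing S] [Algebra R S]
    (e e' : (S ⊗[R] A) ≃ₐ[S] Matrix (Fin n) (Fin n) S) {m : ℕ}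
    (b : Fin m → ⨂[R] _ : Fin n, A) (c : Fin m → S)
    (h : kronComb ((e.toAlgHom.restrictScalars R).comp Algebra.TensorProduct.includeRight) b c = asym S n) :
    kronComb ((e'.toAlgHom.restrictScalars R).comp Algebra.TensorProduct.includeRight) b c = asym S n := by
  ext s t
  refine Module.eq_of_localization_maximal (R := S) (fun P _ => Localization.AtPrime P)
    (fun P _ => Algebra.linearMap S (Localization.AtPrime P)) _ _ fun P hP => ?_
  show algebraMap S _ _ = algebraMap S _ _
  let T := Localization.AtPrime P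
  let f : S →ₐ[R] T := IsScalarTower.toAlgHom R S T
  let g := matrixBaseChange S T (Fin n)
  let Φ : Matrix (Fin n) (Fin n) T →ₐ[T] Matrix (Fin n) (Fin n) T :=
    g.toAlgHom.comp ((Algebra.TensorProduct.map (AlgHom.id T T) (e.symm.trans e').toAlgHom).comp g.symm.toAlgHom)
  obtain ⟨u, hu⟩ := exists_conj_of_algHom_matrix Φ
  set ψ := (e.toAlgHom.restrictScalars R).comp
    (Algebra.TensorProduct.includeRight : A →ₐ[R] S ⊗[R] A)
  set ψ' := (e'.toAlgHom.restrictScalars R).comp
    (Algebra.TensorProduct.includeRight : A →ₐ[R] S ⊗[R] A)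
  have hconj : ∀ a, f.mapMatrix.comp ψ' a =
      (u : Matrix (Fin n) (Fin n) T) * f.mapMatrix.comp ψ a * (u⁻¹ : _ˣ) := by
    intro a
    rw [← hu]
    have : g.symm ((ψ a).map (algebraMap S T)) = 1 ⊗ₜ ψ a := by
      rw [AlgEquiv.symm_apply_eq, matrixBaseChange_tmul, one_smul]
    show (ψ' a).map (algebraMap S T) =
      g (Algebra.TensorProduct.map (AlgHom.id T T) (e.symm.trans e').toAlgHom
        (g.symm ((ψ a).map (algebraMap S T))))
    rw [this, Algebra.TensorProduct.map_tmul, AlgHom.id_apply, matrixBaseChange_tmul, one_smul]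
    show (e' (1 ⊗ₜ a)).map _ = (e' (e.symm (e (1 ⊗ₜ a)))).map _
    rw [e.symm_apply_apply]
  have key : (kronComb ψ' b c).map f = (asym S n).map f := by
    have h0 := congrArg (fun M : Matrix (Fin n → Fin n) (Fin n → Fin n) S => M.map f) h
    simp only [kronComb_map, asym_map S n f.toRingHom |> fun hh => show (asym S n).map f = _ from hh] at h0 ⊢
    rw [← kronPow_asym T n u, ← h0, kronComb, kronComb, Finset.mul_sum, Finset.sum_mul]
    refine Finset.sum_congr rfl fun i _ => ?_
    rw [kronR_conj (f.mapMatrix.comp ψ) n (f.mapMatrix.comp ψ') u hconj, Matrix.mul_smul, Matrix.smul_mul]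
  exact congrFun (congrFun key s) t

set_option maxHeartbeats 1600000 in
theorem exists_tensorPower_end (hn : n ≠ 0)
    (hrk : ∀ p : PrimeSpectrum R, Module.rankAtStalk (R := R) A p = n ^ 2) :
    ∃ (E : Type u) (_ : AddCommGroup E) (_ : Module R E), Module.Finite R E ∧ Module.Projective R E ∧
      (∀ p : PrimeSpectrum R, Module.rankAtStalk (R := R) E p = n ^ n) ∧
      Nonempty ((⨂[R] _ : Fin n, A) ≃ₐ[R] Module.End R E) := by
  classical
  obtain ⟨S, _, _, -, hff, ⟨φ⟩⟩ := exists_etale_split R A n hn hrk
  haveI := hff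
  haveI : Nonempty (Fin n) := ⟨⟨0, Nat.pos_of_ne_zero hn⟩⟩
  let T := ⨂[R] _ : Fin n, A
  obtain ⟨hT, hTrk⟩ := isAzumaya_piTensor R (fun _ : Fin n => A)
  haveI : IsAzumaya R T := hT
  have hTrk' : ∀ p, Module.rankAtStalk (R := R) T p = n ^ n * n ^ n := fun p => by
    rw [hTrk p, Finset.prod_const, Finset.card_univ, Fintype.card_fin, hrk, ← pow_mul, two_mul, pow_add]
  let N := Fin n → Fin n
  have hbij : ∀ (S' : Type u) [CommRing S'] [Algebra R S']
      (ψ : A →ₐ[R] Matrix (Fin n) (Fin n) S'),
      Function.Bijective (Algebra.TensorProduct.lift (Algebra.ofId S' (Matrix N N S')) (kronR ψ n)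
        fun c a => Algebra.commutes c (kronR ψ n a)) := by
    intro S' _ _ ψ
    haveI := isAzumaya_baseChange R S' T
    haveI := isAzumaya_matrix S' N
    refine algHom_bijective_of_rankAtStalk_eq S' _ fun P => ?_
    rw [Module.rankAtStalk_baseChange, hTrk', rankAtStalk_matrix, Fintype.card_fun, Fintype.card_fin]
  obtain ⟨m, b, β, hβ⟩ := exists_dual_basis R T
  let ψ : A →ₐ[R] Matrix (Fin n) (Fin n) S :=
    (φ.toAlgHom.restrictScalars R).comp Algebra.TensorProduct.includeRight
  let κ := AlgEquiv.ofBijective _ (hbij S ψ)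
  have hκ : ∀ (s : S) (z : T), κ (s ⊗ₜ z) = s • kronR ψ n z := fun s z => by
    show Algebra.TensorProduct.lift (Algebra.ofId S (Matrix N N S)) (kronR ψ n)
      (fun c a => Algebra.commutes c (kronR ψ n a)) (s ⊗ₜ z) = _
    rw [Algebra.TensorProduct.lift_tmul]
    show algebraMap S _ s * _ = _
    rw [← Algebra.smul_def]
  let z₀ : S ⊗[R] T := κ.symm (asym S n)
  let coef : Fin m → S := fun i => TensorProduct.rid R S ((β i).lTensor S z₀)
  have hexp : ∀ (S' : Type u) [CommRing S'] [Algebra R S'] (z : S' ⊗[R] T),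
      ∑ i, (TensorProduct.rid R S' ((β i).lTensor S' z)) ⊗ₜ[R] b i = z := by
    intro S' _ _ z
    induction z using TensorProduct.induction_on with
    | zero => simp
    | tmul s x =>
      conv_rhs => rw [← hβ x, tmul_sum]
      refine Finset.sum_congr rfl fun i _ => ?_
      rw [LinearMap.lTensor_tmul, TensorProduct.rid_tmul, smul_tmul]
    | add x y hx hy =>
      conv_rhs => rw [← hx, ← hy]
      simp only [map_add, add_tmul, Finset.sum_add_distrib]
  have hcoef : kronComb ψ b coef = asym S n := by
    have h := congrArg κ (hexp S z₀)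
    simp only [map_sum, hκ] at h
    rw [show κ z₀ = asym S n from κ.apply_symm_apply _] at h
    exact h
  have hdesc : ∀ i, ∃ r : R, algebraMap R S r = coef i := by
    intro i
    refine ((Algebra.IsEffective.of_faithfullyFlat R S) _).1 ?_
    rw [Algebra.TensorProduct.includeLeftSubRight_apply, sub_eq_zero]
    revert i
    let W := S ⊗[R] S
    let l : S →ₐ[R] W := Algebra.TensorProduct.includeLeft
    let rr : S →ₐ[R] W := Algebra.TensorProduct.includeRight
    suffices h : (fun i => l (coef i)) = (fun i => rr (coef i)) from fun i => congrFun h i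
    obtain ⟨e, he⟩ := exists_extended_splitting R A n S φ W
    letI : Algebra S W := Algebra.TensorProduct.rightAlgebra
    obtain ⟨e', he'⟩ := exists_extended_splitting R A n S φ W
    let ψe' := (e'.toAlgHom.restrictScalars R).comp
      (Algebra.TensorProduct.includeRight : A →ₐ[R] W ⊗[R] A)
    have hl : (e.toAlgHom.restrictScalars R).comp
        (Algebra.TensorProduct.includeRight : A →ₐ[R] W ⊗[R] A) = l.mapMatrix.comp ψ :=
      AlgHom.ext fun a => he a
    have hr : ψe' = rr.mapMatrix.comp ψ := AlgHom.ext fun a => he' a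
    have h1 : kronComb ψe' b (fun i => l (coef i)) = asym W n := by
      refine kronComb_eq_asym_of_splittings e e' b _ ?_
      rw [hl, ← kronComb_map, hcoef]
      exact asym_map S n l.toRingHom
    have h2 : kronComb ψe' b (fun i => rr (coef i)) = asym W n := by
      rw [hr, ← kronComb_map, hcoef]
      exact asym_map S n rr.toRingHom
    let κ' := AlgEquiv.ofBijective _ (hbij W ψe')
    have hκ' : ∀ (c : Fin m → W), κ' (∑ i, c i ⊗ₜ b i) = kronComb ψe' b c := fun c => by
      rw [map_sum]
      refine Finset.sum_congr rfl fun i _ => ?_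
      show Algebra.TensorProduct.lift (Algebra.ofId W (Matrix N N W)) (kronR ψe' n)
        (fun c a => Algebra.commutes c (kronR ψe' n a)) (c i ⊗ₜ b i) = _
      rw [Algebra.TensorProduct.lift_tmul]
      show algebraMap W _ (c i) * _ = _
      rw [← Algebra.smul_def]
    have hz : ∀ g : S →ₐ[R] W, (∑ i, g (coef i) ⊗ₜ[R] b i) = g.toLinearMap.rTensor T z₀ := fun g => by
      conv_rhs => rw [← hexp S z₀]
      rw [map_sum]
      exact Finset.sum_congr rfl fun i _ => rfl
    have hsame : l.toLinearMap.rTensor T z₀ = rr.toLinearMap.rTensor T z₀ := by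
      rw [← hz, ← hz]
      apply κ'.injective
      rw [hκ', hκ', h1, h2]
    have hcg : ∀ (g : S →ₐ[R] W) (i : Fin m),
        g (coef i) = TensorProduct.rid R W ((β i).lTensor W (g.toLinearMap.rTensor T z₀)) := by
      intro g i
      show g (TensorProduct.rid R S ((β i).lTensor S z₀)) = _
      induction z₀ using TensorProduct.induction_on with
      | zero => simp
      | tmul s x => simp
      | add x y hx hy => simp only [map_add, hx, hy]
    funext i
    rw [hcg l, hcg rr, hsame]
  choose co hco using hdesc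
  let ε : T := ∑ i, co i • b i
  have hε : κ ((1 : S) ⊗ₜ[R] ε) = asym S n := by
    rw [← hcoef, kronComb, tmul_sum, map_sum]
    refine Finset.sum_congr rfl fun i _ => ?_
    rw [tmul_smul, ← algebraMap_smul S (co i), hco, map_smul, hκ, one_smul]
  obtain ⟨t, ht⟩ : ∃ t : T, ε * t * ε = ε := by
    let L : T →ₗ[R] T := LinearMap.mulLeftRight R (ε, ε)
    suffices (Submodule.mkQ (LinearMap.range L)) ε = 0 by
      rw [Submodule.mkQ_apply, Submodule.Quotient.mk_eq_zero] at this
      obtain ⟨t, ht⟩ := this
      exact ⟨t, ht⟩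
    refine (Module.FaithfullyFlat.one_tmul_eq_zero_iff R (A := S) _ _).1 ?_
    let y := κ.symm (Matrix.single id id 1)
    have hy : L.lTensor S y = (1 : S) ⊗ₜ[R] ε := by
      have hL : ∀ z, L.lTensor S z = ((1 : S) ⊗ₜ[R] ε) * z * ((1 : S) ⊗ₜ[R] ε) := fun z => by
        induction z using TensorProduct.induction_on with
        | zero => simp
        | tmul s x =>
          show s ⊗ₜ[R] (ε * x * ε) = _
          simp
        | add x y hx hy => simp only [map_add, mul_add, add_mul, hx, hy]
      apply κ.injective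
      rw [hL, map_mul, map_mul, hε, show κ y = _ from κ.apply_symm_apply _]
      ext s u
      simp [asym, Matrix.mul_apply, Matrix.vecMulVec_apply, Matrix.single_apply, ite_and, omega_id]
      rw [Finset.sum_eq_single (id : Fin n → Fin n) (fun x _ hx => if_neg (Ne.symm hx)) (fun h => absurd (Finset.mem_univ _) h),
        if_pos rfl, omega_id, one_mul]
    show (Submodule.mkQ (LinearMap.range L)).lTensor S ((1 : S) ⊗ₜ ε) = 0
    rw [← hy, ← LinearMap.comp_apply, ← LinearMap.lTensor_comp, LinearMap.range_mkQ_comp,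
      LinearMap.lTensor_zero, LinearMap.zero_apply]
  let ee : T := t * ε
  have hee : ee * ee = ee := by
    show t * ε * (t * ε) = t * ε
    rw [mul_assoc, ← mul_assoc ε, ht]
  let E := LinearMap.range (LinearMap.mulRight R ee)
  have hmemE : ∀ x : E, (x : T) * ee = x := fun ⟨x, hx⟩ => by
    obtain ⟨y, rfl⟩ := hx
    show y * ee * ee = y * ee
    rw [mul_assoc, hee]
  let π : T →ₗ[R] E := (LinearMap.mulRight R ee).rangeRestrict
  have hπι : π.comp E.subtype = LinearMap.id := LinearMap.ext fun x => Subtype.ext (hmemE x)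
  haveI : Module.Projective R E := Module.Projective.of_split E.subtype π hπι
  haveI : Module.Finite R E := Module.Finite.of_surjective π (LinearMap.surjective_rangeRestrict _)
  have hrkE : ∀ p : PrimeSpectrum R, Module.rankAtStalk (R := R) E p = n ^ n := by
    intro p
    obtain ⟨P, rfl⟩ := PrimeSpectrum.comap_surjective_of_faithfullyFlat (A := R) (B := S) p
    rw [← Module.rankAtStalk_baseChange (R := R) (M := E) (S := S) P]
    let ι' := E.subtype.baseChange S
    let π' := π.baseChange S
    have hP : ∀ z, κ (ι' (π' z)) = κ z * κ ((1 : S) ⊗ₜ[R] ee) := fun z => by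
      rw [← map_mul]
      congr 1
      induction z using TensorProduct.induction_on with
      | zero => simp
      | tmul s x =>
        show s ⊗ₜ[R] (x * ee) = _
        simp
      | add x y hx hy => simp only [map_add, add_mul, hx, hy]
    have hπι' : ∀ y, π' (ι' y) = y := fun y => by
      rw [← LinearMap.comp_apply, ← LinearMap.baseChange_comp, hπι, LinearMap.baseChange_id]
      rfl
    let v : N → S := κ ((1 : S) ⊗ₜ[R] t) *ᵥ omega S n
    have he' : κ ((1 : S) ⊗ₜ[R] ee) = Matrix.vecMulVec v (omega S n) := by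
      rw [show (1 : S) ⊗ₜ[R] ee = ((1 : S) ⊗ₜ[R] t) * ((1 : S) ⊗ₜ[R] ε) by simp [ee],
        map_mul, hε, asym, Matrix.mul_vecMulVec]
    have hv : dotProduct (omega S n) v = 1 := by
      have h := congrArg (fun M => κ ((1 : S) ⊗ₜ[R] M) id id) ht
      have h' : κ ((1 : S) ⊗ₜ[R] (ε * t * ε)) = asym S n * κ ((1 : S) ⊗ₜ[R] t) * asym S n := by
        rw [← hε, ← map_mul, ← map_mul]
        simp
      simp only [h', hε] at h
      rw [mul_assoc, asym, Matrix.mul_vecMulVec, Matrix.vecMulVec_mul_vecMulVec] at h
      simpa [Matrix.vecMulVec_apply, omega_id, v] using h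
    let fwd : (N → S) →ₗ[S] S ⊗[R] E := π'.comp ((κ.symm.toLinearMap).comp
      ({ toFun := fun w => Matrix.vecMulVec w (omega S n)
         map_add' := fun a c => Matrix.add_vecMulVec a c _
         map_smul' := fun a w => by simp [Matrix.smul_vecMulVec] } : (N → S) →ₗ[S] Matrix N N S))
    let bwd : S ⊗[R] E →ₗ[S] (N → S) :=
      { toFun := fun y => κ (ι' y) *ᵥ v
        map_add' := fun a c => by rw [map_add, map_add, Matrix.add_mulVec]
        map_smul' := fun a y => by rw [map_smul, map_smul, Matrix.smul_mulVec]; rfl }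
    have h1 : ∀ w, bwd (fwd w) = w := fun w => by
      show κ (ι' (π' (κ.symm (Matrix.vecMulVec w (omega S n))))) *ᵥ v = w
      rw [hP, κ.apply_symm_apply, he', Matrix.vecMulVec_mul_vecMulVec, hv, one_smul,
        Matrix.vecMulVec_mulVec, hv]
      simp
    have h2 : ∀ y, fwd (bwd y) = y := fun y => by
      show π' (κ.symm (Matrix.vecMulVec (κ (ι' y) *ᵥ v) (omega S n))) = y
      rw [← Matrix.mul_vecMulVec, ← he', ← map_mul, κ.symm_apply_apply]
      conv_rhs => rw [← hπι' y]
      congr 1
      apply κ.injective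
      rw [map_mul, ← hP, hπι']
    let eqv : (N → S) ≃ₗ[S] S ⊗[R] E :=
      LinearEquiv.ofLinear fwd bwd (LinearMap.ext h2) (LinearMap.ext h1)
    haveI : Nontrivial S := P.nontrivial
    rw [← Module.rankAtStalk_eq_of_equiv eqv, Module.rankAtStalk_eq_finrank_of_free]
    simp [N]
  haveI : FaithfulSMul R E := by
    constructor
    intro c c' h
    by_contra hne
    have hann : ∀ x : E, (c - c') • x = 0 := fun x => Subtype.ext (by
      show (c - c') • (x : T) = 0
      rw [sub_smul, sub_eq_zero]
      exact congrArg Subtype.val (h x))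
    obtain ⟨M, hM, hle⟩ := Ideal.exists_le_maximal (LinearMap.ker (LinearMap.toSpanSingleton R R (c - c')))
      (fun htop => hne (sub_eq_zero.1 (by
        have : (1 : R) ∈ LinearMap.ker (LinearMap.toSpanSingleton R R (c - c')) := by rw [htop]; trivial
        simpa using this)))
    let Rm := Localization.AtPrime M
    have hpos : Nontrivial (Rm ⊗[R] E) := by
      haveI := hM.isPrime
      apply Module.nontrivial_of_finrank_pos (R := Rm)
      rw [← Module.rankAtStalk_eq_finrank_tensorProduct (p := ⟨M, hM.isPrime⟩), hrkE]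
      exact pow_pos (Nat.pos_of_ne_zero hn) _
    haveI := hM.isPrime
    have hzero : algebraMap R Rm (c - c') = 0 := by
      by_contra h0
      haveI : Module.Free Rm (Rm ⊗[R] E) := Module.free_of_flat_of_isLocalRing
      obtain ⟨i⟩ : Nonempty (Module.Free.ChooseBasisIndex Rm (Rm ⊗[R] E)) := by
        by_contra hi
        rw [not_nonempty_iff] at hi
        exact not_subsingleton (Rm ⊗[R] E) (Module.Free.chooseBasis Rm (Rm ⊗[R] E)).repr.toEquiv.subsingleton
      have h3 : algebraMap R Rm (c - c') • (Module.Free.chooseBasis Rm (Rm ⊗[R] E) i) = 0 := by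
        rw [algebraMap_smul]
        induction Module.Free.chooseBasis Rm (Rm ⊗[R] E) i using TensorProduct.induction_on with
        | zero => simp
        | tmul s x => rw [← tmul_smul, hann, tmul_zero]
        | add x y hx hy => rw [smul_add, hx, hy, add_zero]
      exact h0 (by
        have := congrArg (fun z => (Module.Free.chooseBasis Rm (Rm ⊗[R] E)).repr z i) h3
        simpa using this)
    obtain ⟨⟨s, hs⟩, hs'⟩ := (IsLocalization.map_eq_zero_iff M.primeCompl Rm _).1 hzero
    exact hs (hle (by simpa [mul_comm] using hs'))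
  haveI := isAzumaya_moduleEnd R E
  let θ : T →ₐ[R] Module.End R E :=
    { toFun := fun a => π.comp ((LinearMap.mulLeft R a).comp E.subtype)
      map_one' := LinearMap.ext fun x => by
        show π (1 * (x : T)) = x
        rw [one_mul]; exact LinearMap.congr_fun hπι x
      map_mul' := fun a c => LinearMap.ext fun x => Subtype.ext (by
        show a * c * (x : T) * ee = a * (c * (x : T) * ee) * ee
        simp only [mul_assoc, hee])
      map_zero' := LinearMap.ext fun x => Subtype.ext (by
        show 0 * (x : T) * ee = 0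
        rw [zero_mul, zero_mul])
      map_add' := fun a c => LinearMap.ext fun x => Subtype.ext (by
        show (a + c) * (x : T) * ee = a * (x : T) * ee + c * (x : T) * ee
        rw [add_mul, add_mul])
      commutes' := fun c => LinearMap.ext fun x => Subtype.ext (by
        show algebraMap R T c * (x : T) * ee = c • (x : T)
        rw [← Algebra.smul_def, smul_mul_assoc, hmemE]) }
  have hθ : Function.Bijective θ := algHom_bijective_of_rankAtStalk_eq R (A := T) (B := Module.End R E) θ
    fun p => by
      rw [hTrk' p, show Module.rankAtStalk (R := R) (Module.End R E) p =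
        Module.rankAtStalk (R := R) (E →ₗ[R] E) p from rfl, rankAtStalk_linearMap, hrkE]
  exact ⟨E, inferInstance, inferInstance, inferInstance, inferInstance, hrkE, ⟨AlgEquiv.ofBijective θ hθ⟩⟩

end Main

end Groth.Agent.CSA
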